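import Cfsg.Agent.Lib.Char.ReeThree.Count
import Cfsg.Agent.S0111

/-!
# Local structure of a simple group with `C(t) = ⟨t⟩ × PSL₂(3^(2n+1))` of odd index
-/

set_option autoImplicit false
set_option linter.unusedSectionVars false
set_option linter.style.haveILetI false

namespace Cfsg.Agent.Char.ReeThree

open Cfsg Subgroup

universe u

/-- The configuration. -/
structure Cfg (G : Type u) [Group G] where
  S : Split G
  P : KData S.K
  hodd : Odd S.C.index
  simple : IsSimpleGroup G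
  hnc : ¬ IsMulCommutative G

namespace Cfg

variable {G : Type u} [Group G] [Finite G] (D : Cfg G)
include D

/-- The involution. -/
abbrev t : G := D.S.t

/-- The second involution of `V`. -/
abbrev s : G := (D.P.s : D.S.K)

theorem sq_s : D.s * D.s = 1 := by
  have h : D.P.s * D.P.s = 1 := by rw [← pow_two, ← D.P.hs, pow_orderOf_eq_one]
  exact congrArg Subtype.val h

theorem ord_s : orderOf D.s = 2 := by rw [Subgroup.orderOf_coe, D.P.hs]

theorem s_mem : D.s ∈ D.S.K := D.P.s.2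

theorem ts_comm : D.t * D.s = D.s * D.t := (D.S.comm_t D.s_mem).symm

theorem card_C : Nat.card D.S.C = 8 * (D.P.q * D.P.m * (2 * D.P.m - 1)) := by
  haveI := Fintype.ofFinite G
  rw [D.S.card_C, D.P.card_P', show D.P.q - 1 = 2 * (2 * D.P.m - 1) by
    have := D.P.hq; have := D.P.m_seven; omega]
  ring

theorem card_G : ∃ k, Odd k ∧ Nat.card G = 8 * k := by
  refine ⟨D.P.q * D.P.m * (2 * D.P.m - 1) * D.S.C.index, ?_, ?_⟩
  · refine ((D.P.q_odd.mul D.P.hm).mul (Nat.odd_iff.2 ?_)).mul D.hodd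
    have := D.P.m_seven
    omega
  · rw [← D.S.C.card_mul_index, D.card_C, mul_assoc]

omit D in
/-- The hom from the group of order two picking an element. -/
def invHom {g : G} (hg : g * g = 1) : ℤˣ →* G where
  toFun u := if u = 1 then 1 else g
  map_one' := if_pos rfl
  map_mul' u v := by
    rcases Int.units_eq_one_or u with rfl | rfl <;> rcases Int.units_eq_one_or v with rfl | rfl <;> simp [hg]

/-- The standard Sylow `2`-subgroup. -/
theorem exists_E : ∃ (E : Sylow 2 G) (u : G), u ∈ D.S.K ∧ orderOf u = 2 ∧ u * D.s = D.s * u ∧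
    (∀ a ∈ D.P.A, u * (a : G) * u⁻¹ = (a : G)⁻¹) ∧ u ∈ (E : Subgroup G) ∧ D.t ∈ (E : Subgroup G) ∧
    D.s ∈ (E : Subgroup G) ∧ Nat.card (E : Subgroup G) = 8 ∧
    (∀ x ∈ (E : Subgroup G), x * x = 1) ∧ (∀ x ∈ (E : Subgroup G), ∀ y ∈ (E : Subgroup G), x * y = y * x) ∧
    (∀ x ∈ (E : Subgroup G), x ∈ D.S.C) := by
  classical
  haveI : Fact (Nat.Prime 2) := ⟨Nat.prime_two⟩
  obtain ⟨u0, hu0, hus0, hinv0, -⟩ := D.P.cent_cases
  set u : G := (u0 : G) with hudef
  have hu : orderOf u = 2 := by rw [hudef, Subgroup.orderOf_coe, hu0]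
  have hu2 : u * u = 1 := by rw [← pow_two, ← hu, pow_orderOf_eq_one]
  have hus : u * D.s = D.s * u := congrArg Subtype.val hus0
  have hut : u * D.t = D.t * u := D.S.comm_t u0.2
  let f1 : ℤˣ →* G := invHom D.S.sq_t
  let f2 : ℤˣ →* G := invHom D.sq_s
  let f3 : ℤˣ →* G := invHom hu2
  have hc12 : ∀ a b, Commute (f1 a) (f2 b) := by
    intro a b
    rcases Int.units_eq_one_or a with rfl | rfl <;> rcases Int.units_eq_one_or b with rfl | rfl <;>
      simp [f1, f2, invHom, Commute.one_left, Commute.one_right]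
    exact D.ts_comm
  let g : ℤˣ × ℤˣ →* G := MonoidHom.noncommCoprod f1 f2 hc12
  have hc3 : ∀ (p : ℤˣ × ℤˣ) (c : ℤˣ), Commute (g p) (f3 c) := by
    rintro ⟨a, b⟩ c
    refine Commute.mul_left ?_ ?_
    · rcases Int.units_eq_one_or a with rfl | rfl <;> rcases Int.units_eq_one_or c with rfl | rfl <;>
        simp [f1, f3, invHom, Commute.one_left, Commute.one_right]
      exact hut.symm
    · rcases Int.units_eq_one_or b with rfl | rfl <;> rcases Int.units_eq_one_or c with rfl | rfl <;>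
        simp [f2, f3, invHom, Commute.one_left, Commute.one_right]
      exact hus.symm
  let ψ : (ℤˣ × ℤˣ) × ℤˣ →* G := MonoidHom.noncommCoprod g f3 hc3
  have hψ : ∀ a b c, ψ ((a, b), c) = f1 a * f2 b * f3 c := fun a b c => rfl
  have hneK : ∀ x ∈ D.S.K, D.t * x ≠ 1 := fun x hx e => by
    have := D.S.not_both hx
    rw [show D.t * x = 1 from e] at this
    exact this (one_mem _)
  have hs1 : D.s ≠ 1 := fun e => by have := D.ord_s; rw [e, orderOf_one] at this; omega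
  have hu1 : u ≠ 1 := fun e => by rw [e, orderOf_one] at hu; omega
  have hsu : D.s * u ≠ 1 := fun e => by
    have e' : u0 = D.P.s := by
      apply Subtype.ext
      have := eq_inv_of_mul_eq_one_right e
      rw [inv_eq_of_mul_eq_one_left D.sq_s] at this
      exact this
    haveI : Nontrivial D.P.A := Finite.one_lt_card_iff_nontrivial.1 (by
      rw [D.P.card_A]; have := D.P.m_seven; omega)
    obtain ⟨⟨a, ha⟩, hne⟩ := exists_ne (1 : D.P.A)
    have h1 := hinv0 a ha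
    rw [e', D.P.A_s a ha, mul_inv_cancel_right] at h1
    refine hne (Subtype.ext (KData.sq_eq_one_of_odd (D.P.odd_of_mem_A ha) ?_))
    calc a * a = a * a⁻¹ := by rw [← h1]
      _ = 1 := mul_inv_cancel a
  have hinj : Function.Injective ψ := by
    rw [injective_iff_map_eq_one]
    rintro ⟨⟨a, b⟩, c⟩ h
    rw [hψ] at h
    rcases Int.units_eq_one_or a with rfl | rfl <;> rcases Int.units_eq_one_or b with rfl | rfl <;>
      rcases Int.units_eq_one_or c with rfl | rfl <;> simp [f1, f2, f3, invHom] at h ⊢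
    · exact hu1 h
    · exact hs1 (congrArg Subtype.val h)
    · exact hsu h
    · exact D.S.t_not_mem (h ▸ one_mem _)
    · exact hneK u u0.2 h
    · exact hneK _ D.s_mem h
    · exact hneK _ (mul_mem D.s_mem u0.2) (by rw [← mul_assoc]; exact h)
  have hcard : Nat.card ψ.range = 8 := by
    rw [← Nat.card_congr (MonoidHom.ofInjective hinj).toEquiv, Nat.card_prod, Nat.card_prod,
      Nat.card_eq_fintype_card, show Fintype.card ℤˣ = 2 from rfl]
  have hsq : ∀ x ∈ ψ.range, x * x = 1 := by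
    rintro _ ⟨p, rfl⟩
    rw [← map_mul, ← pow_two]
    have : p ^ 2 = 1 := Prod.ext (Prod.ext (Int.units_sq _) (Int.units_sq _)) (Int.units_sq _)
    rw [this, map_one]
  have hidx : ¬ 2 ∣ ψ.range.index := by
    obtain ⟨k, hk, hG⟩ := D.card_G
    have h := ψ.range.card_mul_index
    rw [hcard, hG] at h
    rw [Nat.eq_of_mul_eq_mul_left (by norm_num) h]
    exact fun h2 => by have := Nat.odd_iff.1 hk; omega
  let E : Sylow 2 G := (IsPGroup.of_card (n := 3) hcard).toSylow hidx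
  refine ⟨E, u, u0.2, hu, hus, fun a ha => congrArg Subtype.val (hinv0 a ha), ⟨((1, 1), -1), ?_⟩,
    ⟨((-1, 1), 1), ?_⟩, ⟨((1, -1), 1), ?_⟩, hcard, hsq, ?_, ?_⟩
  · simp [hψ, f1, f2, f3, invHom]
  · simp [hψ, f1, f2, f3, invHom]
  · simp [hψ, f1, f2, f3, invHom]
  · rintro _ ⟨p, rfl⟩ _ ⟨r, rfl⟩
    rw [← map_mul, mul_comm, map_mul]
  · rintro _ ⟨⟨⟨a, b⟩, c⟩, rfl⟩
    rw [hψ]
    refine mul_mem (mul_mem ?_ ?_) ?_
    · rcases Int.units_eq_one_or a with rfl | rfl <;> simp [f1, invHom, D.S.t_mem_C]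
    · rcases Int.units_eq_one_or b with rfl | rfl <;> simp [f2, invHom, D.S.K_le D.s_mem]
    · rcases Int.units_eq_one_or c with rfl | rfl <;> simp [f3, invHom, hudef, D.S.K_le u0.2]

theorem two_comm {T : Subgroup G} (hT : IsPGroup 2 T) {x y : G} (hx : x ∈ T) (hy : y ∈ T) : x * y = y * x := by
  haveI : Fact (Nat.Prime 2) := ⟨Nat.prime_two⟩
  obtain ⟨E, -, -, -, -, -, -, -, -, -, -, hE, -⟩ := D.exists_E
  obtain ⟨T', hT'⟩ := hT.exists_le_sylow
  obtain ⟨c, hc⟩ := MulAction.exists_smul_eq G E T'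
  have hx' := hT' hx
  have hy' := hT' hy
  rw [← hc, Sylow.coe_subgroup_smul] at hx' hy'
  obtain ⟨x', hx'', rfl⟩ := hx'
  obtain ⟨y', hy'', rfl⟩ := hy'
  show c * x' * c⁻¹ * (c * y' * c⁻¹) = c * y' * c⁻¹ * (c * x' * c⁻¹)
  rw [show c * x' * c⁻¹ * (c * y' * c⁻¹) = c * (x' * y') * c⁻¹ by group, hE x' hx'' y' hy'']
  group

theorem conj_K {x : G} (hx : x ∈ D.S.K) (h2 : orderOf x = 2) : IsConj D.s x := by
  obtain ⟨c, hc⟩ := isConj_iff.1 (D.P.s_conj ⟨x, hx⟩ (by rw [← Subgroup.orderOf_coe]; exact h2))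
  exact isConj_iff.2 ⟨c, congrArg Subtype.val hc⟩

theorem conj_tK {x : G} (hx : x ∈ D.S.K) (h2 : orderOf x = 2) : IsConj (D.t * D.s) (D.t * x) := by
  obtain ⟨c, hc⟩ := isConj_iff.1 (D.P.s_conj ⟨x, hx⟩ (by rw [← Subgroup.orderOf_coe]; exact h2))
  have hc' : (c : G) * D.s * (c : G)⁻¹ = x := congrArg Subtype.val hc
  refine isConj_iff.2 ⟨c, ?_⟩
  rw [← hc', ← mul_assoc (c : G), D.S.comm_t c.2]
  group

theorem ord_ts {x : G} (hx : x ∈ D.S.K) (h2 : x * x = 1) : orderOf (D.t * x) = 2 := by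
  refine orderOf_eq_prime ?_ fun e => D.S.not_both hx (e ▸ one_mem _)
  rw [pow_two, show D.t * x * (D.t * x) = D.t * (x * D.t) * x by group, D.S.comm_t hx,
    show D.t * (D.t * x) * x = (D.t * D.t) * (x * x) by group, D.S.sq_t, h2, one_mul]

theorem no_index_two (M : Subgroup G) (hM : M.Normal) : M.index ≠ 2 := by
  intro h
  haveI := D.simple
  rcases IsSimpleGroup.eq_bot_or_eq_top_of_normal M hM with e | e
  · rw [e, Subgroup.index_bot] at h
    obtain ⟨k, hk, hG⟩ := D.card_G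
    have := hk.pos
    omega
  · rw [e, Subgroup.index_top] at h
    omega

/-- One class of involutions. -/
theorem hconj : ∀ x : G, orderOf x = 2 → IsConj D.t x := by
  classical
  haveI : Fact (Nat.Prime 2) := ⟨Nat.prime_two⟩
  obtain ⟨E, u, huK, hu, hus, -, huE, htE, hsE, hcard, hsq, hcomm, hEC⟩ := D.exists_E
  -- the part of `E` in `K`
  set Q : Subgroup G := (E : Subgroup G) ⊓ D.S.K
  have hQi : Q.relIndex (E : Subgroup G) = 2 := by
    refine index_eq_two_iff'.2 ⟨⟨D.t, htE⟩, fun b => ?_⟩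
    rcases D.S.split (hEC b b.2) with hb | hb
    · refine Or.inr ⟨mem_subgroupOf.2 ⟨b.2, hb⟩, fun hn => ?_⟩
      have hn' := (mem_subgroupOf.1 hn).2
      rw [Subgroup.coe_mul] at hn'
      exact D.S.not_both hb hn'
    · have hb' : (b : G) ∉ D.S.K := fun h => D.S.not_both h hb
      exact Or.inl ⟨mem_subgroupOf.2 ⟨mul_mem htE b.2, hb⟩, fun hn => hb' (mem_subgroupOf.1 hn).2⟩
  have key : ∀ v : G, orderOf v = 2 → v ∈ (E : Subgroup G) → v ∉ D.S.K → IsConj v D.s := by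
    intro v hv hvE hvK
    rcases S0111.result E Q inf_le_left hQi v hv hvE (fun h => hvK h.2) with ⟨M, hM, hM2, -⟩ | ⟨g, hg⟩
    · exact absurd hM2 (D.no_index_two M hM)
    · refine (isConj_iff.2 ⟨g, rfl⟩).trans (D.conj_K hg.2 ?_).symm
      rw [show g * v * g⁻¹ = MulAut.conj g v from rfl, MulEquiv.orderOf_eq, hv]
  have hts : orderOf (D.t * D.s) = 2 := D.ord_ts D.s_mem D.sq_s
  have h1 : IsConj D.t D.s := key _ D.S.ht htE D.S.t_not_mem
  have h2 : IsConj (D.t * D.s) D.s := key _ hts (mul_mem htE hsE) (D.S.not_both D.s_mem)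
  intro x hx
  obtain ⟨T, hT⟩ := (IsPGroup.of_card (p := 2) (n := 1) (G := zpowers x) (by
    rw [Nat.card_zpowers, hx, pow_one])).exists_le_sylow
  obtain ⟨c, hc⟩ := MulAction.exists_smul_eq G E T
  have hxT := hT (mem_zpowers x)
  rw [← hc, Sylow.coe_subgroup_smul] at hxT
  obtain ⟨y, hyE, hy⟩ := hxT
  have hy' : c * y * c⁻¹ = x := hy
  refine IsConj.trans ?_ (isConj_iff.2 ⟨c, hy'⟩)
  have hy2 : orderOf y = 2 := by
    rw [← hx, ← hy', show c * y * c⁻¹ = MulAut.conj c y from rfl, MulEquiv.orderOf_eq]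
  rcases D.S.split (hEC y hyE) with h | h
  · exact h1.trans (D.conj_K h hy2)
  · by_cases hy1 : D.t * y = 1
    · rw [← eq_inv_of_mul_eq_one_right hy1 |>.trans D.S.inv_t |>.symm]
    · have hyy : orderOf (D.t * y) = 2 := by
        refine orderOf_eq_prime ?_ hy1
        rw [pow_two, show D.t * y * (D.t * y) = D.t * (y * D.t) * y by group, hcomm y hyE D.t htE,
          show D.t * (D.t * y) * y = (D.t * D.t) * (y * y) by group, D.S.sq_t, hsq y hyE, one_mul]
      have h3 := D.conj_tK h hyy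
      rw [← mul_assoc, D.S.sq_t, one_mul] at h3
      exact (h1.trans h2.symm).trans h3

/-- Conjugation by `g` with `g t g⁻¹ = s` and `g s g⁻¹ = t s` exists. -/
theorem exists_cycle : ∃ g : G, g * D.t * g⁻¹ = D.s ∧ g * D.s * g⁻¹ = D.t * D.s := by
  classical
  haveI : Fact (Nat.Prime 2) := ⟨Nat.prime_two⟩
  obtain ⟨g0, hg0⟩ := isConj_iff.1 (D.hconj D.s D.ord_s)
  have hnK : ¬ (g0⁻¹ * D.t * g0 ∈ D.S.C ∧ g0⁻¹ * D.t * g0 ∈ D.S.K) := by
    rintro ⟨-, hK⟩
    obtain ⟨c, hc⟩ := isConj_iff.1 (D.P.s_conj ⟨_, hK⟩ (by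
      rw [← Subgroup.orderOf_coe]
      show orderOf (g0⁻¹ * D.t * g0) = 2
      rw [show g0⁻¹ * D.t * g0 = MulAut.conj g0⁻¹ D.t by simp [MulAut.conj_apply], MulEquiv.orderOf_eq, D.S.ht]))
    have hc' : (c : G) * D.s * (c : G)⁻¹ = g0⁻¹ * D.t * g0 := congrArg Subtype.val hc
    set g := g0 * c with hg
    have hgt : g * D.t * g⁻¹ = D.s := by
      rw [hg, show g0 * c * D.t * (g0 * c)⁻¹ = g0 * (c * D.t) * (c : G)⁻¹ * g0⁻¹ by group, D.S.comm_t c.2, ← hg0]
      group
    have hgs : g * D.s * g⁻¹ = D.t := by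
      calc g * D.s * g⁻¹ = g0 * ((c : G) * D.s * (c : G)⁻¹) * g0⁻¹ := by rw [hg]; group
        _ = D.t := by rw [hc']; group
    have hg2t : Commute (g * g) D.t := by
      show g * g * D.t = D.t * (g * g)
      calc g * g * D.t = g * (g * D.t * g⁻¹) * g⁻¹ * (g * g) := by group
        _ = _ := by rw [hgt, hgs]
    have hg2s : Commute (g * g) D.s := by
      show g * g * D.s = D.s * (g * g)
      calc g * g * D.s = g * (g * D.s * g⁻¹) * g⁻¹ * (g * g) := by group
        _ = _ := by rw [hgs, hgt]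
    obtain ⟨k, o, ho, hko⟩ := Nat.exists_eq_two_pow_mul_odd (orderOf_pos g).ne'
    obtain ⟨j, rfl⟩ := ho
    set x := g ^ (2 * j + 1) with hx
    have hxg : x = g * (g * g) ^ j := by
      rw [hx, pow_succ', pow_mul, pow_two]
    have hxt : x * D.t * x⁻¹ = D.s := by
      rw [hxg, show g * (g * g) ^ j * D.t * (g * (g * g) ^ j)⁻¹ = g * ((g * g) ^ j * D.t) * ((g * g) ^ j)⁻¹ * g⁻¹ by
        group, (hg2t.pow_left j).eq]
      rw [← hgt]; group
    have hxs : x * D.s * x⁻¹ = D.t := by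
      rw [hxg, show g * (g * g) ^ j * D.s * (g * (g * g) ^ j)⁻¹ = g * ((g * g) ^ j * D.s) * ((g * g) ^ j)⁻¹ * g⁻¹ by
        group, (hg2s.pow_left j).eq]
      rw [← hgs]; group
    set T := closure ({D.t, D.s} : Set G)
    obtain ⟨E, -, -, -, -, -, -, htE, hsE, -⟩ := D.exists_E
    have hT : IsPGroup 2 T := E.2.to_le (by
      rw [closure_le]
      rintro y (rfl | rfl)
      exacts [htE, hsE])
    have hxN : zpowers x ≤ normalizer (T : Set G) := by
      rw [zpowers_le, mem_normalizer_iff]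
      have hmap : T.map (MulAut.conj x).toMonoidHom = T := by
        rw [MonoidHom.map_closure, Set.image_pair]
        show closure {x * D.t * x⁻¹, x * D.s * x⁻¹} = T
        rw [hxt, hxs, Set.pair_comm]
      intro y
      refine ⟨fun hy => hmap ▸ ⟨y, hy, rfl⟩, fun hy => ?_⟩
      rw [← hmap] at hy
      obtain ⟨z, hz, hzy⟩ := hy
      rwa [← (MulAut.conj x).injective hzy]
    have hxp : IsPGroup 2 (zpowers x) := by
      obtain ⟨i, -, hi⟩ := (Nat.dvd_prime_pow Nat.prime_two).1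
        (orderOf_dvd_of_pow_eq_one (x := x) (n := 2 ^ k) (by
          rw [hx, ← pow_mul, mul_comm, ← hko, pow_orderOf_eq_one]))
      exact IsPGroup.of_card (n := i) (by rw [Nat.card_zpowers, hi])
    have hsup : IsPGroup 2 (zpowers x ⊔ T : Subgroup G) := hxp.to_sup_of_normal_right' hT hxN
    have hcx := D.two_comm hsup (mem_sup_left (mem_zpowers x)) (mem_sup_right (subset_closure (Set.mem_insert _ _)))
    rw [hcx, mul_inv_cancel_right] at hxt
    exact D.S.t_not_mem (show D.S.t ∈ D.S.K by rw [show D.S.t = D.s from hxt]; exact D.s_mem)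
  have hC : g0⁻¹ * D.t * g0 ∈ D.S.C := by
    rw [D.S.mem_C]
    calc g0⁻¹ * D.t * g0 * D.t = g0⁻¹ * (D.t * (g0 * D.t * g0⁻¹)) * g0 := by group
      _ = g0⁻¹ * (g0 * D.t * g0⁻¹ * D.t) * g0 := by rw [hg0, D.ts_comm]
      _ = D.t * (g0⁻¹ * D.t * g0) := by group
  have hK : D.t * (g0⁻¹ * D.t * g0) ∈ D.S.K := (D.S.split hC).resolve_left fun h => hnK ⟨hC, h⟩
  have hord : orderOf (D.t * (g0⁻¹ * D.t * g0)) = 2 := by
    have e : g0 * (D.t * (g0⁻¹ * D.t * g0)) * g0⁻¹ = D.s * D.t := by rw [← hg0]; group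
    rw [← D.ord_ts D.s_mem D.sq_s, D.ts_comm, ← e,
      show g0 * (D.t * (g0⁻¹ * D.t * g0)) * g0⁻¹ = MulAut.conj g0 (D.t * (g0⁻¹ * D.t * g0)) from rfl,
      MulEquiv.orderOf_eq]
  obtain ⟨c, hc⟩ := isConj_iff.1 (D.P.s_conj ⟨_, hK⟩ (by rw [← Subgroup.orderOf_coe]; exact hord))
  have hc' : (c : G) * D.s * (c : G)⁻¹ = D.t * (g0⁻¹ * D.t * g0) := congrArg Subtype.val hc
  refine ⟨g0 * c, ?_, ?_⟩
  · rw [show g0 * c * D.t * (g0 * c)⁻¹ = g0 * (c * D.t) * (c : G)⁻¹ * g0⁻¹ by group, D.S.comm_t c.2, ← hg0]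
    group
  · calc g0 * c * D.s * (g0 * c)⁻¹ = g0 * ((c : G) * D.s * (c : G)⁻¹) * g0⁻¹ := by group
      _ = D.s * D.t := by rw [hc', ← hg0]; group
      _ = D.t * D.s := D.ts_comm.symm

end Cfg

end Cfsg.Agent.Char.ReeThree
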