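import Cfsg.Prelude.Def_TwoFusion
import Cfsg.Agent.Lib.Char.IndValue
import Cfsg.Agent.Lib.Char.Exceptional
import Cfsg.Agent.Lib.Char.DihedralOrder
import Cfsg.Agent.Lib.Char.DadeGen

/-!
# Virtual characters on the `t`-section, for `C(t) = ⟨t⟩ × K`
-/

set_option autoImplicit false
set_option linter.unusedSectionVars false

namespace Cfsg.Agent.Char.ReeThree

open Cfsg Subgroup
open scoped ComplexConjugate Classical

universe u

/-- An involution whose centraliser is `⟨t⟩ × K`. -/
structure Split (G : Type u) [Group G] where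
  t : G
  K : Subgroup G
  ht : orderOf t = 2
  hK : Cfsg.IsInternalDirectProduct (zpowers t) K (centralizer ({t} : Set G))

/-- The number of involutions `u` such that `u * g` is an involution. -/
noncomputable def pairs {G : Type u} [Group G] (g : G) : ℕ :=
  Nat.card {u : G // orderOf u = 2 ∧ orderOf (u * g) = 2}

theorem pairs_class {G : Type u} [Group G] (g h : G) : pairs (h * g * h⁻¹) = pairs g := by
  refine (Nat.card_congr ((MulAut.conj h).toEquiv.subtypeEquiv fun u => ?_)).symm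
  show _ ↔ orderOf (MulAut.conj h u) = 2 ∧ orderOf (MulAut.conj h u * (MulAut.conj h g)) = 2
  rw [← map_mul, MulEquiv.orderOf_eq, MulEquiv.orderOf_eq]

namespace Split

variable {G : Type u} [Group G] (S : Split G)

/-- The centraliser. -/
abbrev C : Subgroup G := centralizer ({S.t} : Set G)

theorem sq_t : S.t * S.t = 1 := by rw [← pow_two, ← S.ht, pow_orderOf_eq_one]

theorem inv_t : S.t⁻¹ = S.t := inv_eq_of_mul_eq_one_left S.sq_t

theorem K_le : S.K ≤ S.C := S.hK.2.1

theorem mem_C {x : G} : x ∈ S.C ↔ x * S.t = S.t * x := mem_centralizer_singleton_iff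

theorem comm_t {k : G} (hk : k ∈ S.K) : k * S.t = S.t * k := S.mem_C.1 (S.K_le hk)

theorem t_mem_C : S.t ∈ S.C := S.mem_C.2 rfl

theorem t_not_mem : S.t ∉ S.K := fun h => by
  have h1 : S.t ∈ zpowers S.t ⊓ S.K := ⟨mem_zpowers _, h⟩
  rw [S.hK.2.2.2.1, mem_bot] at h1
  have := S.ht
  rw [h1, orderOf_one] at this
  omega

theorem split {c : G} (hc : c ∈ S.C) : c ∈ S.K ∨ S.t * c ∈ S.K := by
  let M : Subgroup G :=
    { carrier := {c | c ∈ S.C ∧ (c ∈ S.K ∨ S.t * c ∈ S.K)}
      one_mem' := ⟨one_mem _, Or.inl (one_mem _)⟩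
      mul_mem' := by
        rintro a b ⟨haC, ha⟩ ⟨hbC, hb⟩
        refine ⟨mul_mem haC hbC, ?_⟩
        have e1 : a * S.t = S.t * a := S.mem_C.1 haC
        rcases ha with ha | ha <;> rcases hb with hb | hb
        · exact Or.inl (mul_mem ha hb)
        · exact Or.inr (by rw [← mul_assoc, ← e1, mul_assoc]; exact mul_mem ha hb)
        · exact Or.inr (by rw [← mul_assoc]; exact mul_mem ha hb)
        · refine Or.inl ?_
          have := mul_mem ha hb
          rwa [← e1, show a * S.t * (S.t * b) = a * (S.t * S.t) * b by group, S.sq_t, mul_one] at this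
      inv_mem' := by
        rintro a ⟨haC, ha⟩
        refine ⟨inv_mem haC, ha.imp inv_mem fun h => ?_⟩
        have := inv_mem h
        rwa [mul_inv_rev, S.inv_t, S.mem_C.1 (inv_mem haC)] at this }
  have hle : zpowers S.t ⊔ S.K ≤ M :=
    sup_le (zpowers_le.2 ⟨S.t_mem_C, Or.inr (by rw [S.sq_t]; exact one_mem _)⟩)
      fun e he => ⟨S.K_le he, Or.inl he⟩
  rw [S.hK.2.2.2.2] at hle
  exact (hle hc).2

theorem not_both {c : G} (h : c ∈ S.K) : S.t * c ∉ S.K := fun h' =>
  S.t_not_mem (by simpa using mul_mem h' (inv_mem h))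

/-- The projection on `K`. -/
noncomputable def proj : S.C →* S.K where
  toFun c := if h : (c : G) ∈ S.K then ⟨c, h⟩ else ⟨S.t * c, (S.split c.2).resolve_left h⟩
  map_one' := by rw [dif_pos (show ((1 : S.C) : G) ∈ S.K from one_mem _)]; rfl
  map_mul' := by
    intro a b
    have e1 : (a : G) * S.t = S.t * a := S.mem_C.1 a.2
    apply Subtype.ext
    rcases S.split a.2 with ha | ha <;> rcases S.split b.2 with hb | hb
    · rw [dif_pos (show ((a * b : S.C) : G) ∈ S.K from mul_mem ha hb), dif_pos ha, dif_pos hb]; rfl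
    · have hb' : (b : G) ∉ S.K := fun h => S.not_both h hb
      rw [dif_neg (show ¬ ((a * b : S.C) : G) ∈ S.K from fun h => hb' (by
        simpa using mul_mem (inv_mem ha) h)), dif_pos ha, dif_neg hb']
      show S.t * (a * b : G) = a * (S.t * b)
      rw [← mul_assoc, ← e1, mul_assoc]
    · have ha' : (a : G) ∉ S.K := fun h => S.not_both h ha
      rw [dif_neg (show ¬ ((a * b : S.C) : G) ∈ S.K from fun h => ha' (by
        simpa using mul_mem h (inv_mem hb))), dif_neg ha', dif_pos hb]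
      show S.t * (a * b : G) = S.t * a * b
      rw [mul_assoc]
    · have ha' : (a : G) ∉ S.K := fun h => S.not_both h ha
      have hb' : (b : G) ∉ S.K := fun h => S.not_both h hb
      have hab : S.t * (a : G) * (S.t * b) = a * b := by
        calc S.t * (a : G) * (S.t * b) = S.t * (a * S.t) * b := by group
          _ = a * b := by rw [e1, ← mul_assoc S.t, S.sq_t, one_mul]
      rw [dif_pos (show ((a * b : S.C) : G) ∈ S.K from (show (a : G) * b ∈ S.K from hab ▸ mul_mem ha hb)), dif_neg ha', dif_neg hb']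
      exact hab.symm

/-- The linear character with kernel `K`. -/
noncomputable def sign : S.C →* ℂˣ where
  toFun c := if (c : G) ∈ S.K then 1 else -1
  map_one' := if_pos (one_mem _)
  map_mul' := by
    intro a b
    have e1 : (a : G) * S.t = S.t * a := S.mem_C.1 a.2
    rw [Subgroup.coe_mul]
    rcases S.split a.2 with ha | ha <;> rcases S.split b.2 with hb | hb
    · rw [if_pos (mul_mem ha hb), if_pos ha, if_pos hb, one_mul]
    · have hb' : (b : G) ∉ S.K := fun h => S.not_both h hb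
      rw [if_neg (fun h => hb' (by simpa using mul_mem (inv_mem ha) h)), if_pos ha, if_neg hb', one_mul]
    · have ha' : (a : G) ∉ S.K := fun h => S.not_both h ha
      rw [if_neg (fun h => ha' (by simpa using mul_mem h (inv_mem hb))), if_neg ha', if_pos hb, mul_one]
    · have ha' : (a : G) ∉ S.K := fun h => S.not_both h ha
      have hb' : (b : G) ∉ S.K := fun h => S.not_both h hb
      have hab : S.t * (a : G) * (S.t * b) = a * b := by
        calc S.t * (a : G) * (S.t * b) = S.t * (a * S.t) * b := by group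
          _ = a * b := by rw [e1, ← mul_assoc S.t, S.sq_t, one_mul]
      rw [if_pos (hab ▸ mul_mem ha hb), if_neg ha', if_neg hb', neg_one_mul, neg_neg]

/-- `(1 - sign) ⊗ Ψ`. -/
noncomputable def sec (Ψ : S.K → ℂ) : S.C → ℂ := fun c => (1 - (S.sign c : ℂ)) * Ψ (S.proj c)

theorem sec_K (Ψ : S.K → ℂ) {c : S.C} (h : (c : G) ∈ S.K) : S.sec Ψ c = 0 := by
  simp [sec, sign, h]

theorem sec_tK (Ψ : S.K → ℂ) (z : S.K) :
    S.sec Ψ ⟨S.t * z, mul_mem S.t_mem_C (S.K_le z.2)⟩ = 2 * Ψ z := by
  have h : S.t * (z : G) ∉ S.K := S.not_both z.2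
  simp only [sec, sign, proj, MonoidHom.coe_mk, OneHom.coe_mk]
  rw [if_neg h, dif_neg h]
  have : (⟨S.t * (S.t * (z : G)), (S.split (mul_mem S.t_mem_C (S.K_le z.2))).resolve_left h⟩ : S.K) = z :=
    Subtype.ext (show S.t * (S.t * (z : G)) = z by rw [← mul_assoc, S.sq_t, one_mul])
  rw [this]
  norm_num

theorem gen_sec {Ψ : S.K → ℂ} (h : IsGeneralizedCharacter S.K Ψ) : IsGeneralizedCharacter S.C (S.sec Ψ) := by
  obtain ⟨a, b, ha, hb, rfl⟩ := h
  refine ⟨(fun c => a (S.proj c)) + (fun c => (S.sign c : ℂ)) * (fun c => b (S.proj c)),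
    (fun c => b (S.proj c)) + (fun c => (S.sign c : ℂ)) * (fun c => a (S.proj c)),
    isCharacter_add (isCharacter_comp S.proj ha) (isCharacter_mul (isCharacter_linear S.sign) (isCharacter_comp S.proj hb)),
    isCharacter_add (isCharacter_comp S.proj hb) (isCharacter_mul (isCharacter_linear S.sign) (isCharacter_comp S.proj ha)),
    ?_⟩
  funext c
  simp only [sec, Pi.sub_apply, Pi.add_apply, Pi.mul_apply]
  ring

theorem isClassFunction_sec {Ψ : S.K → ℂ} (h : IsClassFunction S.K Ψ) : IsClassFunction S.C (S.sec Ψ) := by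
  intro g k
  simp only [sec, map_mul, map_inv]
  rw [h, mul_inv_cancel_comm]

variable [Fintype G]

/-- The virtual character of `G` attached to `Ψ`. -/
noncomputable def lift (Ψ : S.K → ℂ) : G → ℂ := indFun S.C (S.sec Ψ)

theorem gen_lift {Ψ : S.K → ℂ} (h : IsGeneralizedCharacter S.K Ψ) : IsGeneralizedCharacter G (S.lift Ψ) := by
  obtain ⟨a, b, ha, hb, hab⟩ := S.gen_sec h
  exact ⟨_, _, isCharacter_indFun _ ha, isCharacter_indFun _ hb, by rw [lift, hab, indFun_sub]⟩

theorem lift_one (Ψ : S.K → ℂ) : S.lift Ψ 1 = 0 := by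
  rw [lift, indFun_one, S.sec_K Ψ (show ((1 : S.C) : G) ∈ S.K from one_mem _), mul_zero]

/-- Sums over `C(t)` of functions vanishing on `K`. -/
theorem sum_C (F : S.C → ℂ) (hF : ∀ c : S.C, (c : G) ∈ S.K → F c = 0) :
    ∑ c : S.C, F c = ∑ z : S.K, F ⟨S.t * z, mul_mem S.t_mem_C (S.K_le z.2)⟩ := by
  rw [← Finset.sum_subset (Finset.subset_univ (Finset.univ.filter fun c : S.C => (c : G) ∉ S.K))
    fun c _ hc => hF c (by simpa using hc)]
  refine Finset.sum_bij' (fun c hc => ⟨S.t * c, (S.split c.2).resolve_left (Finset.mem_filter.1 hc).2⟩)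
    (fun z _ => ⟨S.t * z, mul_mem S.t_mem_C (S.K_le z.2)⟩) (fun c _ => Finset.mem_univ _)
    (fun z _ => Finset.mem_filter.2 ⟨Finset.mem_univ _, S.not_both z.2⟩)
    (fun c _ => Subtype.ext (by simp [← mul_assoc, S.sq_t]))
    (fun z _ => Subtype.ext (by simp [← mul_assoc, S.sq_t]))
    (fun c _ => congrArg F (Subtype.ext (by simp [← mul_assoc, S.sq_t])))

theorem card_C : Nat.card S.C = 2 * Nat.card S.K := by
  let e : Bool × S.K → S.C := fun p =>
    if p.1 then ⟨S.t * p.2, mul_mem S.t_mem_C (S.K_le p.2.2)⟩ else ⟨p.2, S.K_le p.2.2⟩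
  have he : Function.Bijective e := by
    refine ⟨?_, fun c => ?_⟩
    · rintro ⟨i, a⟩ ⟨j, b⟩ h
      have h' := congrArg Subtype.val h
      cases i <;> cases j <;> simp [e] at h'
      · exact Prod.ext rfl h'
      · exact absurd (h' ▸ a.2) (S.not_both b.2)
      · exact absurd (h' ▸ b.2) (S.not_both a.2)
      · exact Prod.ext rfl h'
    · rcases S.split c.2 with h | h
      · exact ⟨(false, ⟨c, h⟩), rfl⟩
      · exact ⟨(true, ⟨_, h⟩), Subtype.ext (by simp [e, ← mul_assoc, S.sq_t])⟩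
  rw [← Nat.card_congr (Equiv.ofBijective e he), Nat.card_prod, Nat.card_eq_fintype_card, Fintype.card_bool]

theorem inner_lift (Ψ : S.K → ℂ) {χ : G → ℂ} (hχ : IsClassFunction G χ) :
    classInner (S.lift Ψ) χ = (Nat.card S.K : ℂ)⁻¹ * ∑ z : S.K, Ψ z * conj (χ (S.t * z)) := by
  rw [lift, frobenius _ _ hχ, classInner,
    S.sum_C (fun c => S.sec Ψ c * conj (χ (c : G))) fun c hc => by rw [S.sec_K Ψ hc, zero_mul]]
  simp only [S.sec_tK]
  rw [S.card_C, Finset.mul_sum, Finset.mul_sum]
  refine Finset.sum_congr rfl fun z _ => ?_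
  push_cast
  field_simp

theorem pow_t {z : S.K} (hz : Odd (orderOf z)) :
    orderOf (S.t * (z : G)) = 2 * orderOf z ∧ (S.t * (z : G)) ^ orderOf z = S.t := by
  have hc : Commute S.t (z : G) := (S.comm_t z.2).symm
  constructor
  · rw [hc.orderOf_mul_eq_mul_orderOf_of_coprime (by rw [S.ht, Subgroup.orderOf_coe, Nat.coprime_two_left]; exact hz),
      S.ht, Subgroup.orderOf_coe]
  · obtain ⟨k, hk⟩ := hz
    rw [hc.mul_pow, ← Subgroup.coe_pow, pow_orderOf_eq_one, OneMemClass.coe_one, mul_one, hk, pow_succ, pow_mul,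
      pow_two, S.sq_t, one_pow, one_mul]

variable {Ψ : S.K → ℂ} (hΨ : IsClassFunction S.K Ψ) (hodd : ∀ z : S.K, ¬ Odd (orderOf z) → Ψ z = 0)

include hΨ hodd in
theorem lift_tK {z : S.K} (hz : Odd (orderOf z)) : S.lift Ψ (S.t * z) = 2 * Ψ z := by
  set c : S.C := ⟨S.t * z, mul_mem S.t_mem_C (S.K_le z.2)⟩
  have hterm : ∀ x : G, extendByZero S.C (S.sec Ψ) (x⁻¹ * (c : G) * x) = if x ∈ S.C then S.sec Ψ c else 0 := by
    intro x
    split_ifs with hx
    · have hm : x⁻¹ * (c : G) * x ∈ S.C := mul_mem (mul_mem (inv_mem hx) c.2) hx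
      rw [extendByZero_mem S.C _ hm, ← S.isClassFunction_sec hΨ c ⟨x⁻¹, inv_mem hx⟩]
      exact congrArg _ (Subtype.ext (by simp))
    · by_cases hm : x⁻¹ * (c : G) * x ∈ S.C
      · rw [extendByZero_mem S.C _ hm]
        rcases S.split hm with hk | hk
        · exact S.sec_K Ψ hk
        · set z' : S.K := ⟨_, hk⟩ with hz'
          have e : (⟨x⁻¹ * (c : G) * x, hm⟩ : S.C) = ⟨S.t * z', mul_mem S.t_mem_C (S.K_le z'.2)⟩ :=
            Subtype.ext (by simp [hz', ← mul_assoc, S.sq_t])
          rw [e, S.sec_tK, hodd z', mul_zero]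
          intro ho
          apply hx
          obtain ⟨o1, p1⟩ := S.pow_t hz
          obtain ⟨o2, p2⟩ := S.pow_t ho
          have e' : S.t * (z' : G) = x⁻¹ * (S.t * z) * x := (congrArg Subtype.val e).symm
          have e'' : x⁻¹ * (S.t * (z : G)) * x = MulAut.conj x⁻¹ (S.t * z) := by simp [MulAut.conj_apply]
          rw [e', e'', MulEquiv.orderOf_eq, o1] at o2
          rw [e', e'', ← map_pow, show orderOf z' = orderOf z by omega, p1, MulAut.conj_apply, inv_inv] at p2
          rw [S.mem_C]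
          calc x * S.t = x * (x⁻¹ * S.t * x) := by rw [p2]
            _ = S.t * x := by group
      · exact extendByZero_not_mem S.C _ hm
  show indFun S.C (S.sec Ψ) (c : G) = _
  simp only [indFun, hterm, Finset.sum_ite, Finset.sum_const_zero, add_zero, Finset.sum_const, nsmul_eq_mul]
  rw [← Fintype.card_subtype, ← Nat.card_eq_fintype_card, ← mul_assoc, inv_mul_cancel₀, one_mul, S.sec_tK]
  exact Nat.cast_ne_zero.mpr Nat.card_pos.ne'

include hΨ hodd in
theorem isometry (Φ : S.K → ℂ) (h : ∀ z : S.K, ¬ Odd (orderOf z) → Φ z = 0) :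
    classInner (S.lift Φ) (S.lift Ψ) = 2 * classInner Φ Ψ := by
  rw [S.inner_lift Φ (χ := S.lift Ψ) (isClassFunction_indFun _ _), classInner, Finset.mul_sum, Finset.mul_sum,
    Finset.mul_sum]
  refine Finset.sum_congr rfl fun z _ => ?_
  by_cases hz : Odd (orderOf z)
  · rw [S.lift_tK hΨ hodd hz, map_mul, map_ofNat]
    ring
  · rw [h z hz]; ring

/-- The class-algebra equation. -/
theorem pair_equation (hconj : ∀ u : G, orderOf u = 2 → IsConj S.t u) (Ψ : S.K → ℂ) :
    ∑ a : G, ∑ b : G, S.lift Ψ (a * S.t * a⁻¹ * (b * S.t * b⁻¹)) =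
      (Nat.card G : ℂ) * (Nat.card S.C : ℂ) ^ 2 *
        ((Nat.card S.K : ℂ)⁻¹ * ∑ z : S.K, Ψ z * (pairs (S.t * (z : G)) : ℂ)) := by
  have hN : ∀ f : G → ℂ, ∑ a : G, f (a * S.t * a⁻¹) =
      (Nat.card S.C : ℂ) * ∑ y : G with orderOf y = 2, f y := by
    intro f
    rw [show Finset.univ.filter (fun y : G => orderOf y = 2) = Finset.univ.filter (fun y : G => IsConj S.t y) from
      Finset.filter_congr fun y _ => ⟨hconj y, fun h => by
        obtain ⟨c, hc⟩ := isConj_iff.1 h
        rw [← hc, show c * S.t * c⁻¹ = MulAut.conj c S.t from rfl, MulEquiv.orderOf_eq, S.ht]⟩, ← sum_conj_eq S.t f]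
    exact Fintype.sum_equiv (Equiv.inv G) _ _ fun a => by simp
  rw [hN (fun u => ∑ b : G, S.lift Ψ (u * (b * S.t * b⁻¹))),
    Finset.sum_congr rfl fun u _ => hN (fun v => S.lift Ψ (u * v)), ← Finset.mul_sum]
  have hre : ∀ u : G, orderOf u = 2 → (∑ v : G with orderOf v = 2, S.lift Ψ (u * v)) =
      ∑ g : G, if orderOf (u * g) = 2 then S.lift Ψ g else 0 := by
    intro u hu
    have a : u * u = 1 := by rw [← pow_two, ← hu, pow_orderOf_eq_one]
    rw [Finset.sum_filter]
    exact Fintype.sum_equiv (Equiv.mulLeft u) _ _ fun v => by simp [← mul_assoc, a]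
  rw [Finset.sum_congr rfl fun u hu => hre u (Finset.mem_filter.1 hu).2, Finset.sum_comm]
  have hcnt : ∀ g : G, (∑ u : G with orderOf u = 2, if orderOf (u * g) = 2 then S.lift Ψ g else 0) =
      S.lift Ψ g * conj ((pairs g : ℕ) : ℂ) := by
    intro g
    rw [map_natCast, ← Finset.sum_filter, Finset.sum_const, nsmul_eq_mul, mul_comm, pairs,
      Nat.card_eq_fintype_card, Fintype.card_subtype, Finset.filter_filter]
  rw [Finset.sum_congr rfl fun g _ => hcnt g]
  have hfr := S.inner_lift Ψ (χ := fun g => ((pairs g : ℕ) : ℂ)) (fun g h => by simp only [pairs_class])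
  rw [classInner, inv_mul_eq_iff_eq_mul₀ (Nat.cast_ne_zero.2 Nat.card_pos.ne')] at hfr
  rw [hfr]
  simp only [map_natCast]
  ring

end Split

end Cfsg.Agent.Char.ReeThree
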