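import Cfsg.Agent.Lib.Char.ReeThree.Local
import Cfsg.Agent.Lib.Char.ReeThree.TSection

/-!
# Pairs of involutions with product in the `t`-section
-/

set_option autoImplicit false
set_option linter.unusedSectionVars false

namespace Cfsg.Agent.Char.ReeThree

open Cfsg Subgroup
open scoped Classical

universe u

namespace Split

variable {G : Type u} [Group G] [Finite G] (S : Split G)

theorem orderOf_two' {H : Type u} [Group H] {g : H} : orderOf g = 2 ↔ (g * g = 1 ∧ g ≠ 1) := by
  refine ⟨fun h => ⟨by rw [← pow_two, ← h, pow_orderOf_eq_one], fun e => by simp [e] at h⟩,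
    fun ⟨h, h'⟩ => orderOf_eq_prime (by rw [pow_two, h]) h'⟩

theorem pairs_tK {z : S.K} (hz : Odd (orderOf z)) :
    pairs (S.t * (z : G)) = 2 * Nat.card {x : S.K // orderOf x = 2 ∧ x * z * x⁻¹ = z⁻¹} := by
  have htz : ∀ x : S.K, (x : G) * S.t = S.t * x := fun x => S.comm_t x.2
  have hT : ∀ x : S.K, ∀ b : Bool, orderOf ((if b then S.t else 1) * (x : G)) = 2 ↔
      (x * x = 1 ∧ (b = true ∨ x ≠ 1)) := by
    intro x b
    cases b
    · rw [if_neg Bool.false_ne_true, one_mul, Subgroup.orderOf_coe, orderOf_two']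
      simp
    · rw [if_pos rfl, orderOf_two']
      have e : S.t * (x : G) * (S.t * x) = ((x * x : S.K) : G) := by
        calc S.t * (x : G) * (S.t * x) = S.t * ((x : G) * S.t) * x := by group
          _ = ((x * x : S.K) : G) := by rw [htz, ← mul_assoc, S.sq_t, one_mul]; rfl
      rw [e, OneMemClass.coe_eq_one]
      refine ⟨fun h => ⟨h.1, Or.inl rfl⟩, fun h => ⟨h.1, fun h1 => S.not_both x.2 ?_⟩⟩
      rw [h1]; exact one_mem _
  have hu : ∀ u : G, orderOf u = 2 → orderOf (u * (S.t * z)) = 2 → u ∈ S.C := by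
    intro u h1 h2
    obtain ⟨a, -⟩ := orderOf_two'.1 h1
    obtain ⟨b, -⟩ := orderOf_two'.1 h2
    have hinv : u * (S.t * z) * u⁻¹ = (S.t * (z : G))⁻¹ := by
      rw [inv_eq_of_mul_eq_one_left a]
      exact eq_inv_of_mul_eq_one_left (by rw [mul_assoc]; exact b)
    have hp : (S.t * (z : G)) ^ orderOf z = S.t := by
      obtain ⟨k, hk⟩ := hz
      rw [(show Commute S.t (z : G) from (htz z).symm).mul_pow, ← Subgroup.coe_pow, pow_orderOf_eq_one,
        OneMemClass.coe_one, mul_one, hk, pow_succ, pow_mul, pow_two, S.sq_t, one_pow, one_mul]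
    have := congrArg (fun w => w ^ orderOf z) hinv
    simp only [conj_pow, inv_pow, hp, S.inv_t] at this
    rw [S.mem_C]
    calc u * S.t = (u * S.t * u⁻¹) * u := by group
      _ = S.t * u := by rw [this]
  have key : ∀ (x : S.K) (b : Bool),
      (orderOf ((if b then S.t else 1) * (x : G)) = 2 ∧
        orderOf ((if b then S.t else 1) * (x : G) * (S.t * z)) = 2) ↔
      (orderOf x = 2 ∧ x * z * x⁻¹ = z⁻¹) := by
    intro x b
    have e : (if b then S.t else 1) * (x : G) * (S.t * z) = (if !b then S.t else 1) * ((x * z : S.K) : G) := by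
      cases b
      · simp [← mul_assoc, htz]
      · simp only [if_true, Bool.not_true, Bool.false_eq_true, if_false, one_mul, Subgroup.coe_mul]
        calc S.t * (x : G) * (S.t * z) = S.t * ((x : G) * S.t) * z := by group
          _ = x * z := by rw [htz, ← mul_assoc, S.sq_t, one_mul]
    rw [hT, e, hT, orderOf_two']
    constructor
    · rintro ⟨⟨h1, hb⟩, h2, hb'⟩
      refine ⟨⟨h1, fun hx => ?_⟩, ?_⟩
      · subst hx
        rw [one_mul] at h2 hb'
        have hz1 : z = 1 := by
          obtain ⟨k, hk⟩ := hz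
          have := pow_orderOf_eq_one z
          rw [hk, pow_succ, pow_mul, pow_two, h2, one_pow, one_mul] at this
          exact this
        cases b
        · simp at hb
        · simp [hz1] at hb'
      · rw [inv_eq_of_mul_eq_one_left h1]
        exact eq_inv_of_mul_eq_one_left (by rw [mul_assoc]; exact h2)
    · rintro ⟨⟨h1, hx⟩, h2⟩
      have h3 : x * z * (x * z) = 1 := by
        calc x * z * (x * z) = x * z * x⁻¹ * (x * x) * z := by group
          _ = 1 := by rw [h2, h1, mul_one, inv_mul_cancel]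
      refine ⟨⟨h1, Or.inr hx⟩, h3, Or.inr fun e1 => hx ?_⟩
      have hzx : z = x⁻¹ := eq_inv_of_mul_eq_one_right e1
      have hoz : Odd (orderOf x) := by rw [← orderOf_inv, ← hzx]; exact hz
      obtain ⟨k, hk⟩ := hoz
      have := pow_orderOf_eq_one x
      rw [hk, pow_succ, pow_mul, pow_two, h1, one_pow, one_mul] at this
      exact this
  let F : Bool × {x : S.K // orderOf x = 2 ∧ x * z * x⁻¹ = z⁻¹} →
      {u : G // orderOf u = 2 ∧ orderOf (u * (S.t * z)) = 2} :=
    fun p => ⟨(if p.1 then S.t else 1) * (p.2.1 : G), (key p.2.1 p.1).2 p.2.2⟩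
  have hF : Function.Bijective F := by
    constructor
    · rintro ⟨i, a, ha⟩ ⟨j, b, hb⟩ e
      have e' := congrArg Subtype.val e
      cases i <;> cases j <;> simp [F] at e'
      · exact Prod.ext rfl (Subtype.ext e')
      · exact absurd (e' ▸ a.2) (S.not_both b.2)
      · exact absurd (e' ▸ b.2) (S.not_both a.2)
      · exact Prod.ext rfl (Subtype.ext e')
    · rintro ⟨u, h1, h2⟩
      rcases S.split (hu u h1 h2) with h | h
      · exact ⟨(false, ⟨⟨u, h⟩, (key ⟨u, h⟩ false).1 (by simpa using ⟨h1, h2⟩)⟩), Subtype.ext (by simp [F])⟩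
      · have e1 : S.t * (S.t * u) = u := by rw [← mul_assoc, S.sq_t, one_mul]
        refine ⟨(true, ⟨⟨S.t * u, h⟩, (key ⟨_, h⟩ true).1 ?_⟩), Subtype.ext ?_⟩
        · simp only [if_true, e1]; exact ⟨h1, h2⟩
        · simp only [F, if_true]; exact e1
  rw [pairs, ← Nat.card_congr (Equiv.ofBijective F hF), Nat.card_prod, Nat.card_eq_fintype_card,
    Fintype.card_bool]

variable (D : KData S.K)

theorem pairs_t : pairs (S.t * ((1 : S.K) : G)) = D.q * (D.q - 1) := by
  rw [S.pairs_tK (by rw [orderOf_one]; exact odd_one), ← D.card_inv]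
  refine congrArg (2 * ·) (Nat.card_congr (Equiv.subtypeEquivRight fun x => ?_))
  simp

theorem pairs_U {y : S.K} (hy : y ∈ D.U) (hy1 : y ≠ 1) : pairs (S.t * (y : G)) = 0 := by
  rw [S.pairs_tK (D.odd_of_mem_U hy)]
  have : IsEmpty {x : S.K // orderOf x = 2 ∧ x * y * x⁻¹ = y⁻¹} := ⟨fun x => D.not_inv_U hy hy1 x.2.2⟩
  rw [Nat.card_of_isEmpty]

theorem pairs_A {a : S.K} (ha : a ∈ D.A) (ha1 : a ≠ 1) : pairs (S.t * (a : G)) = 4 * D.m := by
  rw [S.pairs_tK (D.odd_of_mem_A ha), D.card_inv_A ha ha1]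
  ring

end Split

end Cfsg.Agent.Char.ReeThree
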