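import Mathlib

/-!
# Three orthogonal vectors of norm four with the same odd positions
-/

set_option autoImplicit false
set_option linter.unusedSectionVars false

namespace Cfsg.Agent.Char.ReeThree

/-- The sign of a boolean. -/
def sg (b : Bool) : ℤ := if b then 1 else -1

theorem complete_check : ∀ A B C : Fin 4 → Bool,
    (∑ i, sg (A i) * sg (B i)) = 0 → (∑ i, sg (A i) * sg (C i)) = 0 → (∑ i, sg (B i) * sg (C i)) = 0 →
    (∀ i k : Fin 4, sg (A i) * sg (A k) + sg (B i) * sg (B k) + sg (C i) * sg (C k) +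
      sg (A i) * sg (B i) * sg (C i) * (sg (A k) * sg (B k) * sg (C k)) = if i = k then 4 else 0) ∧
    (∑ i, sg (B i) * sg (C i) * (sg (A i) * sg (A i))) = 0 ∧ (∑ i, sg (B i) * sg (C i)) = 0 ∧
    (∑ i, sg (A i) * sg (A i) * sg (B i) * sg (B i)) = 4 := by
  decide +kernel

theorem ortho4 (a b c X : Fin 4 → ℤ) (ha : ∀ i, a i = 1 ∨ a i = -1) (hb : ∀ i, b i = 1 ∨ b i = -1)
    (hc : ∀ i, c i = 1 ∨ c i = -1) (hab : ∑ i, a i * b i = 0) (hac : ∑ i, a i * c i = 0)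
    (hbc : ∑ i, b i * c i = 0) (hX : ∀ i, 0 < X i) (hXa : ∑ i, a i * X i = 0) (hXb : ∑ i, b i * X i = 0)
    (hXc : ∑ i, c i * X i = 0) :
    ∃ p x : ℤ, (p = 1 ∨ p = -1) ∧ 0 < x ∧ (∀ i, a i * b i * c i = p) ∧ (∀ i, X i = x) ∧
      (∀ L : Fin 4 → ℤ, ∑ i, a i * L i = 0 → ∑ i, b i * L i = 0 → ∑ i, c i * L i = 0 → ∀ i k, L i = L k) := by
  have hsg : ∀ f : Fin 4 → ℤ, (∀ i, f i = 1 ∨ f i = -1) → f = fun i => sg (decide (f i = 1)) := by
    intro f hf
    funext i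
    rcases hf i with h | h <;> simp [sg, h]
  obtain ⟨A, rfl⟩ : ∃ A : Fin 4 → Bool, a = fun i => sg (A i) := ⟨_, hsg a ha⟩
  obtain ⟨B, rfl⟩ : ∃ B : Fin 4 → Bool, b = fun i => sg (B i) := ⟨_, hsg b hb⟩
  obtain ⟨C, rfl⟩ : ∃ C : Fin 4 → Bool, c = fun i => sg (C i) := ⟨_, hsg c hc⟩
  obtain ⟨hcomp, -⟩ := complete_check A B C hab hac hbc
  set n : Fin 4 → ℤ := fun i => sg (A i) * sg (B i) * sg (C i) with hn
  have key : ∀ L : Fin 4 → ℤ, ∑ i, sg (A i) * L i = 0 → ∑ i, sg (B i) * L i = 0 → ∑ i, sg (C i) * L i = 0 →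
      ∀ i, 4 * L i = n i * ∑ k, n k * L k := by
    intro L h1 h2 h3 i
    calc 4 * L i = ∑ k, (if i = k then 4 else 0) * L k := by simp
      _ = ∑ k, (sg (A i) * (sg (A k) * L k) + sg (B i) * (sg (B k) * L k) + sg (C i) * (sg (C k) * L k) +
            n i * (n k * L k)) := Finset.sum_congr rfl fun k _ => by rw [← hcomp i k, hn]; ring
      _ = _ := by
        rw [Finset.sum_add_distrib, Finset.sum_add_distrib, Finset.sum_add_distrib, ← Finset.mul_sum,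
          ← Finset.mul_sum, ← Finset.mul_sum, ← Finset.mul_sum, h1, h2, h3]
        ring
  have hn1 : ∀ i, n i = 1 ∨ n i = -1 := fun i => by
    rcases ha i with h | h <;> rcases hb i with h' | h' <;> rcases hc i with h'' | h'' <;>
      simp only [hn] at * <;> simp [h, h', h'']
  set N := ∑ k, n k * X k
  have hk := key X hXa hXb hXc
  have hsame : ∀ i, n i = n 0 := by
    intro i
    have h1 := hk i
    have h2 := hk 0
    have p1 := hX i
    have p2 := hX 0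
    rcases hn1 i with e | e <;> rcases hn1 0 with e' | e' <;> rw [e] at h1 <;> rw [e'] at h2 <;> omega
  refine ⟨n 0, X 0, hn1 0, hX 0, hsame, fun i => ?_, fun L h1 h2 h3 i k => ?_⟩
  · have h1 := hk i
    have h2 := hk 0
    rw [hsame i] at h1
    omega
  · have e1 := key L h1 h2 h3 i
    have e2 := key L h1 h2 h3 k
    rw [hsame] at e1 e2
    omega

theorem sigma_sums (a b c : Fin 4 → ℤ) (p : ℤ) (ha : ∀ i, a i = 1 ∨ a i = -1) (hb : ∀ i, b i = 1 ∨ b i = -1)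
    (hc : ∀ i, c i = 1 ∨ c i = -1) (hab : ∑ i, a i * b i = 0) (hac : ∑ i, a i * c i = 0) (hbc : ∑ i, b i * c i = 0)
    (sa : ∑ i, a i = 0) (sb : ∑ i, b i = 0) (sc : ∑ i, c i = 0) (hp : ∀ i, a i * b i * c i = p) :
    ∑ i, a i * (a i + b i + c i) = 4 ∧ ∑ i, a i * (a i + b i + c i) ^ 2 = 8 * p := by
  have a2 : ∀ i, a i ^ 2 = 1 := fun i => by rcases ha i with h | h <;> simp [h]
  have b2 : ∀ i, b i ^ 2 = 1 := fun i => by rcases hb i with h | h <;> simp [h]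
  have c2 : ∀ i, c i ^ 2 = 1 := fun i => by rcases hc i with h | h <;> simp [h]
  constructor
  · rw [Finset.sum_congr rfl (g := fun i => 1 + (a i * b i + a i * c i)) fun i _ => by
      linear_combination a2 i]
    rw [Finset.sum_add_distrib, Finset.sum_add_distrib, hab, hac]; simp
  · rw [Finset.sum_congr rfl (g := fun i => 3 * a i + 2 * b i + 2 * c i + 2 * p) fun i _ => by
      linear_combination (a i + 2 * b i + 2 * c i) * a2 i + a i * b2 i + a i * c2 i + 2 * hp i]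
    rw [Finset.sum_add_distrib, Finset.sum_add_distrib, Finset.sum_add_distrib, ← Finset.mul_sum,
      ← Finset.mul_sum, ← Finset.mul_sum, sa, sb, sc]
    simp [Finset.sum_const]; ring

variable {ι : Type*} [Fintype ι] [DecidableEq ι]

/-- The data of the three vectors. -/
structure Triple (deg : ι → ℕ) (d : Fin 3 → ι → ℤ) : Prop where
  pos : ∀ χ, 0 < deg χ
  norm : ∀ k, ∑ χ, d k χ ^ 2 = 4
  degree : ∀ k, ∑ χ, d k χ * deg χ = 0
  orth : ∀ k l, k ≠ l → ∑ χ, d k χ * d l χ = 0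
  parity : ∀ k χ, (2 : ℤ) ∣ d k χ - d 0 χ

namespace Triple

variable {deg : ι → ℕ} {d : Fin 3 → ι → ℤ} (T : Triple deg d)
include T

theorem small (k : Fin 3) (χ : ι) : d k χ = 0 ∨ d k χ = 1 ∨ d k χ = -1 := by
  have hle : d k χ ^ 2 ≤ 4 := T.norm k ▸
    Finset.single_le_sum (f := fun ψ => d k ψ ^ 2) (fun ψ _ => sq_nonneg _) (Finset.mem_univ χ)
  have hb : d k χ ≤ 2 ∧ -2 ≤ d k χ := ⟨by nlinarith, by nlinarith⟩
  by_contra hne
  have h2 : d k χ ^ 2 = 4 := by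
    rcases (show d k χ = 2 ∨ d k χ = -2 by omega) with h | h <;> simp [h]
  have h0 : ∀ ψ, ψ ≠ χ → d k ψ = 0 := by
    intro ψ hψ
    have h := T.norm k
    rw [← Finset.add_sum_erase _ _ (Finset.mem_univ χ), h2] at h
    have := (Finset.sum_eq_zero_iff_of_nonneg fun ψ _ => sq_nonneg (d k ψ)).1 (by linarith) ψ
      (Finset.mem_erase.2 ⟨hψ, Finset.mem_univ ψ⟩)
    simpa using this
  have h := T.degree k
  rw [Finset.sum_eq_single χ (fun ψ _ hψ => by rw [h0 ψ hψ, zero_mul]) (fun h => absurd (Finset.mem_univ χ) h)] at h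
  have := T.pos χ
  rcases mul_eq_zero.1 h with h | h <;> omega

theorem supp_iff (k : Fin 3) (χ : ι) : d k χ ≠ 0 ↔ d 0 χ ≠ 0 := by
  have hp := T.parity k χ
  rcases T.small k χ with h | h | h <;> rcases T.small 0 χ with h' | h' | h' <;> omega

/-- The four common positions. -/
theorem exists_four : ∃ j : Fin 4 → ι, Function.Injective j ∧ (∀ k i, d k (j i) = 1 ∨ d k (j i) = -1) ∧
    (∀ k χ, d k χ ≠ 0 → ∃ i, j i = χ) := by
  set S := Finset.univ.filter fun χ => d 0 χ ≠ 0 with hS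
  have hcard : S.card = 4 := by
    have h := T.norm 0
    rw [← Finset.sum_filter_of_ne (p := fun χ => d 0 χ ≠ 0) (fun χ _ hne e => hne (by simp [e])), ← hS,
      Finset.sum_congr rfl (g := fun _ => (1 : ℤ)) fun χ hχ => by
        have h0 : d 0 χ ≠ 0 := (Finset.mem_filter.1 hχ).2
        rcases T.small 0 χ with e | e | e <;> simp_all] at h
    simp at h
    exact_mod_cast h
  let e := (S.equivFinOfCardEq hcard).symm
  refine ⟨fun i => (e i : ι), fun i i' h => e.injective (Subtype.ext h), fun k i => ?_, fun k χ hχ => ?_⟩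
  · have h0 : d 0 (e i) ≠ 0 := (Finset.mem_filter.1 (e i).2).2
    exact ((T.small k _).resolve_left ((T.supp_iff k _).2 h0))
  · exact ⟨e.symm ⟨χ, Finset.mem_filter.2 ⟨Finset.mem_univ _, (T.supp_iff k χ).1 hχ⟩⟩, by simp⟩

/-- Restriction to the four positions. -/
theorem sum_four {j : Fin 4 → ι} (hj : Function.Injective j) (k : Fin 3) (hsup : ∀ χ, d k χ ≠ 0 → ∃ i, j i = χ)
    (f : ι → ℤ) : ∑ χ, d k χ * f χ = ∑ i, d k (j i) * f (j i) := by
  rw [← Finset.sum_subset (Finset.subset_univ (Finset.univ.image j)) fun χ _ hχ => ?_,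
    Finset.sum_image fun i _ i' _ h => hj h]
  by_cases h0 : d k χ = 0
  · rw [h0, zero_mul]
  · obtain ⟨i, rfl⟩ := hsup χ h0
    exact absurd (Finset.mem_image.2 ⟨i, Finset.mem_univ _, rfl⟩) hχ

/-- The shape of the three vectors. -/
theorem shape : ∃ (j : Fin 4 → ι) (p x : ℤ), Function.Injective j ∧ (p = 1 ∨ p = -1) ∧ 0 < x ∧
    (∀ k χ, d k χ ≠ 0 → ∃ i, j i = χ) ∧ (∀ i, (deg (j i) : ℤ) = x) ∧ (∀ k i, d k (j i) = 1 ∨ d k (j i) = -1) ∧
    (∀ k, ∑ i, d k (j i) = 0) ∧ (∀ i, d 0 (j i) * d 1 (j i) * d 2 (j i) = p) ∧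
    (∀ f : ι → ℤ, (∀ k, ∑ χ, d k χ * f χ = 0) → ∀ i i', f (j i) = f (j i')) := by
  obtain ⟨j, hj, hpm, hsup⟩ := T.exists_four
  have s : ∀ k (f : ι → ℤ), ∑ χ, d k χ * f χ = ∑ i, d k (j i) * f (j i) := fun k => T.sum_four hj k (hsup k)
  have hdeg : ∀ k, ∑ i, d k (j i) * (deg (j i) : ℤ) = 0 := fun k =>
    (s k fun χ => (deg χ : ℤ)).symm.trans (T.degree k)
  obtain ⟨p, x, hp, hx, hprod, hX, hL⟩ := ortho4 (fun i => d 0 (j i)) (fun i => d 1 (j i)) (fun i => d 2 (j i))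
    (fun i => (deg (j i) : ℤ)) (hpm 0) (hpm 1) (hpm 2)
    ((s 0 (d 1)).symm.trans (T.orth 0 1 (by decide))) ((s 0 (d 2)).symm.trans (T.orth 0 2 (by decide)))
    ((s 1 (d 2)).symm.trans (T.orth 1 2 (by decide))) (fun i => by exact_mod_cast T.pos (j i))
    (hdeg 0) (hdeg 1) (hdeg 2)
  refine ⟨j, p, x, hj, hp, hx, hsup, hX, hpm, fun k => ?_, hprod, fun f hf => hL (fun i => f (j i))
    ((s 0 f).symm.trans (hf 0)) ((s 1 f).symm.trans (hf 1)) ((s 2 f).symm.trans (hf 2))⟩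
  have h := hdeg k
  simp only [hX, ← Finset.sum_mul] at h
  exact (mul_eq_zero.1 h).resolve_right hx.ne'

theorem sq_on_four {j : Fin 4 → ι} (hj : Function.Injective j) (f : ι → ℤ) {L : ℤ} (hL : ∀ i, f (j i) = L) :
    4 * L ^ 2 ≤ ∑ χ, f χ ^ 2 := by
  calc 4 * L ^ 2 = ∑ i, f (j i) ^ 2 := by simp [hL]
    _ = ∑ χ ∈ Finset.univ.image j, f χ ^ 2 :=
        (Finset.sum_image (f := fun χ => f χ ^ 2) fun i _ i' _ h => hj h).symm
    _ ≤ _ := Finset.sum_le_sum_of_subset_of_nonneg (Finset.subset_univ _) fun χ _ _ => sq_nonneg _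

/-- Short vectors orthogonal to the three and to the degrees vanish on the common support. -/
theorem supp_zero (f : ι → ℤ) (hn : ∑ χ, f χ ^ 2 ≤ 4) (hf : ∑ χ, f χ * deg χ = 0)
    (ho : ∀ k, ∑ χ, d k χ * f χ = 0) {χ : ι} (hχ : d 0 χ ≠ 0) : f χ = 0 := by
  obtain ⟨j, p, x, hj, -, hx, hsup, hX, -, -, -, hL⟩ := T.shape
  obtain ⟨i, rfl⟩ := hsup 0 χ hχ
  have hc : ∀ i', f (j i') = f (j i) := fun i' => hL f ho i' i
  by_contra hne
  have h1 := T.sq_on_four hj f hc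
  have h2 : f (j i) ^ 2 = 1 := le_antisymm (by linarith) ((sq_pos_of_ne_zero hne))
  have hout : ∀ ψ, ψ ∉ Finset.univ.image j → f ψ = 0 := by
    intro ψ hψ
    by_contra h0
    have h3 : ∑ χ ∈ Finset.univ.image j, f χ ^ 2 + f ψ ^ 2 ≤ ∑ χ, f χ ^ 2 := by
      rw [add_comm, ← Finset.sum_insert (f := fun χ => f χ ^ 2) hψ]
      exact Finset.sum_le_sum_of_subset_of_nonneg (Finset.subset_univ _) fun χ _ _ => sq_nonneg _
    rw [Finset.sum_image fun i _ i' _ h => hj h] at h3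
    simp only [hc, h2, Finset.sum_const, Finset.card_univ, Fintype.card_fin, nsmul_one] at h3
    have := sq_pos_of_ne_zero h0
    omega
  rw [← Finset.sum_subset (Finset.subset_univ (Finset.univ.image j)) fun ψ _ hψ => by rw [hout ψ hψ, zero_mul],
    Finset.sum_image fun i _ i' _ h => hj h] at hf
  simp only [hc, hX, Finset.sum_const, Finset.card_univ, Fintype.card_fin, nsmul_eq_mul] at hf
  rcases mul_eq_zero.1 hf with h | h
  · norm_num at h
  · rcases mul_eq_zero.1 h with h | h <;> omega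

/-- The arithmetic conclusion. -/
theorem three_dvd (v e : ι → ℤ) (hn : ∑ χ, e χ ^ 2 ≤ 8) (ho : ∀ k, ∑ χ, d k χ * e χ = 0) {c q I : ℕ}
    (hv : ∀ χ, d 0 χ ≠ 0 → v χ = c * (e χ + 2 * (d 0 χ + d 1 χ + d 2 χ))) (hc : q = 2 * c + 1)
    (hq : ∃ k, 2 ≤ k ∧ q = 3 ^ k)
    (heq : (I : ℚ) * ∑ χ, (d 0 χ : ℚ) * (v χ : ℚ) ^ 2 / (deg χ : ℚ) = 8 * (q : ℚ) ^ 2 * (2 * c)) : 3 ∣ I := by
  obtain ⟨j, p, x, hj, hp, hx, hsup, hX, hpm, hsum, hprod, hL⟩ := T.shape
  set L := e (j 0)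
  have hLc : ∀ i, e (j i) = L := fun i => hL e ho i 0
  have hLb : -1 ≤ L ∧ L ≤ 1 := by
    have := T.sq_on_four hj e hLc
    constructor <;> nlinarith
  have hS : ∑ χ, (d 0 χ : ℚ) * (v χ : ℚ) ^ 2 / (deg χ : ℚ) =
      ((∑ i, d 0 (j i) * v (j i) ^ 2 : ℤ) : ℚ) / (x : ℚ) := by
    rw [← Finset.sum_subset (Finset.subset_univ (Finset.univ.image j)) fun χ _ hχ => ?_,
      Finset.sum_image fun i _ i' _ h => hj h, Int.cast_sum, Finset.sum_div]
    · refine Finset.sum_congr rfl fun i _ => ?_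
      rw [← hX i]; push_cast; rfl
    · by_cases h0 : d 0 χ = 0
      · simp [h0]
      · obtain ⟨i, rfl⟩ := hsup 0 χ h0
        exact absurd (Finset.mem_image.2 ⟨i, Finset.mem_univ _, rfl⟩) hχ
  have s : ∀ k l, k ≠ l → ∑ i, d k (j i) * d l (j i) = 0 := fun k l h =>
    (T.sum_four hj k (hsup k) (d l)).symm.trans (T.orth k l h)
  obtain ⟨hs1, hs2⟩ := sigma_sums _ _ _ p (hpm 0) (hpm 1) (hpm 2) (s 0 1 (by decide)) (s 0 2 (by decide))
    (s 1 2 (by decide)) (hsum 0) (hsum 1) (hsum 2) hprod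
  have hT : ∑ i, d 0 (j i) * v (j i) ^ 2 = (c : ℤ) ^ 2 * (16 * L + 32 * p) := by
    rw [Finset.sum_congr rfl (g := fun i => (c : ℤ) ^ 2 * L ^ 2 * d 0 (j i) +
        4 * (c : ℤ) ^ 2 * L * (d 0 (j i) * (d 0 (j i) + d 1 (j i) + d 2 (j i))) +
        4 * (c : ℤ) ^ 2 * (d 0 (j i) * (d 0 (j i) + d 1 (j i) + d 2 (j i)) ^ 2)) fun i _ => by
      rw [hv _ (by rcases hpm 0 i with h | h <;> simp [h]), hLc]; ring]
    rw [Finset.sum_add_distrib, Finset.sum_add_distrib, ← Finset.mul_sum, ← Finset.mul_sum, ← Finset.mul_sum,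
      hsum 0, hs1, hs2]
    ring
  rw [hS, hT] at heq
  have hxQ : (x : ℚ) ≠ 0 := Int.cast_ne_zero.2 hx.ne'
  have hc0 : 0 < c := by
    obtain ⟨k, hk, hqk⟩ := hq
    have : 3 ^ 2 ≤ 3 ^ k := Nat.pow_le_pow_right (by norm_num) hk
    omega
  have hcQ : (c : ℚ) ≠ 0 := Nat.cast_ne_zero.2 hc0.ne'
  have hQ : (I : ℚ) * c * (L + 2 * p) = (q : ℚ) ^ 2 * x := by
    field_simp at heq
    push_cast at heq
    refine mul_left_cancel₀ (show (16 : ℚ) * c ≠ 0 from mul_ne_zero (by norm_num) hcQ) ?_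
    linear_combination heq
  have hZ : (I : ℤ) * c * (L + 2 * p) = (q : ℤ) ^ 2 * x := by exact_mod_cast hQ
  by_contra h3
  have h3' : Nat.Coprime I 3 := (Nat.prime_three.coprime_iff_not_dvd.2 h3).symm
  obtain ⟨k, hk, hqk⟩ := hq
  have hc3 : Nat.Coprime c 3 := by
    refine (Nat.prime_three.coprime_iff_not_dvd.2 fun h => ?_).symm
    have h1 : 3 ∣ q := hqk ▸ dvd_pow_self 3 (show k ≠ 0 by omega)
    omega
  have h9 : (9 : ℤ) ∣ (I : ℤ) * c * (L + 2 * p) := by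
    rw [hZ]
    refine Dvd.dvd.mul_right ?_ _
    have h1 : (3 : ℤ) ∣ q := by exact_mod_cast (hqk ▸ dvd_pow_self 3 (show k ≠ 0 by omega) : 3 ∣ q)
    have := pow_dvd_pow_of_dvd h1 2
    norm_num at this
    exact this
  have hcop : Nat.Coprime 9 (I * c) := (Nat.Coprime.pow_right 2 (h3'.mul hc3)).symm
  have h := (Int.natCast_dvd.1 (by exact_mod_cast h9 : ((9 : ℕ) : ℤ) ∣ (I : ℤ) * c * (L + 2 * p)))
  rw [Int.natAbs_mul, show ((I : ℤ) * c).natAbs = I * c by rw [← Nat.cast_mul, Int.natAbs_natCast]] at h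
  have h' := hcop.dvd_of_dvd_mul_left h
  have hle : (L + 2 * p).natAbs ≤ 3 ∧ 0 < (L + 2 * p).natAbs := by omega
  have := Nat.le_of_dvd hle.2 h'
  omega

end Triple

end Cfsg.Agent.Char.ReeThree
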