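import Mathlib
import Cfsg.Prelude.Def_LocalEven

/-!
# Data for the character argument on `C(t) = ⟨t⟩ × PSL₂(q)`, `q = 3^(2n+1)`

`KData P` records what is used of `P ≅ PSL₂(q)`; `GData G` records the local configuration in `G`. The character
argument shows that `3` divides the index of `C(t)` in a group with a `GData`.
-/

set_option autoImplicit false

namespace Cfsg.Agent.Char.ReeThree

open Subgroup

universe u

/-- The facts about `PSL₂(q)`, `q = 3^(2n+1) ≥ 27`: `m = (q+1)/4`, `B = N(U)`, `A` the odd part of the torus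
centralising the involution `s`. -/
structure KData (P : Type u) [Group P] where
  q : ℕ
  m : ℕ
  U : Subgroup P
  B : Subgroup P
  A : Subgroup P
  s : P
  hq : q + 1 = 4 * m
  hpow : ∃ k : ℕ, q = 3 ^ k
  q27 : 27 ≤ q
  hm : Odd m
  h3 : ¬ 3 ∣ m
  h5 : ¬ 5 ∣ m
  card_P : 2 * Nat.card P = q * (q ^ 2 - 1)
  U_le_B : U ≤ B
  card_U : Nat.card U = q
  card_B : Nat.card B = q * (2 * m - 1)
  U_comm : ∀ x ∈ U, ∀ y ∈ U, x * y = y * x
  U_normal : ∀ b ∈ B, ∀ y ∈ U, b * y * b⁻¹ ∈ U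
  B_comm : ∀ a ∈ B, ∀ b ∈ B, a * b * a⁻¹ * b⁻¹ ∈ U
  U_ti : ∀ g y : P, y ∈ U → y ≠ 1 → g * y * g⁻¹ ∈ U → g ∈ B
  U_cent : ∀ g y : P, y ∈ U → y ≠ 1 → g * y = y * g → g ∈ U
  hs : orderOf s = 2
  s_conj : ∀ x : P, orderOf x = 2 → IsConj s x
  card_cent : Nat.card (centralizer ({s} : Set P)) = 4 * m
  card_A : Nat.card A = m
  A_comm : ∀ x ∈ A, ∀ y ∈ A, x * y = y * x
  A_s : ∀ a ∈ A, s * a = a * s
  A_inv : ∃ u : P, orderOf u = 2 ∧ u * s = s * u ∧ ∀ a ∈ A, u * a * u⁻¹ = a⁻¹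
  A_ti : ∀ g a : P, a ∈ A → a ≠ 1 → g * a * g⁻¹ ∈ A → g ∈ centralizer ({s} : Set P)

/-- The configuration in `G`: one class of involutions, `C(t) = ⟨t⟩ × K` and an element `w` that normalises
`A ≤ K` and induces an automorphism of order `3` on it. -/
structure GData (G : Type u) [Group G] where
  t : G
  K : Subgroup G
  D : KData K
  ht : orderOf t = 2
  hconj : ∀ u : G, orderOf u = 2 → IsConj t u
  hK : Cfsg.IsInternalDirectProduct (zpowers t) K (centralizer ({t} : Set G))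
  w : G
  w_norm : ∀ a ∈ D.A.map K.subtype, w * a * w⁻¹ ∈ D.A.map K.subtype
  w_three : ∀ a ∈ D.A.map K.subtype, w ^ 3 * a = a * w ^ 3
  w_move : ∃ a ∈ D.A.map K.subtype, w * a ≠ a * w

end Cfsg.Agent.Char.ReeThree
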