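import Cfsg.Agent.Lib.Char.ReeThree.Local
import Cfsg.Agent.Lib.Char.IndValue
import Cfsg.Agent.Lib.Char.FreeTrace
import Cfsg.Agent.Lib.Char.Exceptional
import Cfsg.Agent.Lib.Char.DadeGen

/-!
# The class functions `Φ_θ` and `Ind_B μ` on `K`
-/

set_option autoImplicit false
set_option linter.unusedSectionVars false

namespace Cfsg.Agent.Char.ReeThree

open Cfsg Subgroup
open scoped ComplexConjugate Classical

universe u

/-- The sum of the values of a linear character. -/
theorem sum_linear_values {H : Type u} [Group H] [Fintype H] (θ : H →* ℂˣ) :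
    ∑ h : H, (θ h : ℂ) = if θ = 1 then (Nat.card H : ℂ) else 0 := by
  split_ifs with h
  · subst h; simp
  · obtain ⟨a, ha⟩ : ∃ a, (θ a : ℂ) ≠ 1 := by
      by_contra! hh
      exact h (MonoidHom.ext fun a => Units.ext (hh a))
    have e := Fintype.sum_equiv (Equiv.mulLeft a) (fun x : H => (θ a : ℂ) * θ x) (fun x => (θ x : ℂ))
      (fun x => by simp)
    rw [← Finset.mul_sum] at e
    exact (mul_left_eq_self₀.mp e).resolve_left ha

theorem conj_linear {H : Type u} [Group H] [Finite H] (θ : H →* ℂˣ) (h : H) :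
    conj (θ h : ℂ) = (θ h⁻¹ : ℂ) := (char_inv (isCharacter_linear θ) h).symm

namespace KData

variable {P : Type u} [Group P] [Fintype P] (D : KData P)

theorem indFun_eq_zero {H : Subgroup P} (f : H → ℂ) {g : P} (h : ∀ x : P, x⁻¹ * g * x ∉ H) :
    indFun H f g = 0 := by
  rw [indFun, Finset.sum_eq_zero fun x _ => extendByZero_not_mem H f (h x), mul_zero]

theorem exists_lam : ∃ l : D.U →* ℂˣ, l ≠ 1 := by
  haveI : Nontrivial D.U := Finite.one_lt_card_iff_nontrivial.1 (by rw [D.card_U]; have := D.q27; omega)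
  letI : CommGroup D.U :=
    { (inferInstance : Group D.U) with mul_comm := fun a b => Subtype.ext (D.U_comm a a.2 b b.2) }
  haveI : NeZero (Monoid.exponent D.U) := ⟨Monoid.exponent_ne_zero_of_finite⟩
  obtain ⟨a, ha⟩ := exists_ne (1 : D.U)
  obtain ⟨l, hl⟩ := CommGroup.exists_apply_ne_one_of_hasEnoughRootsOfUnity D.U ℂ ha
  exact ⟨l, fun e => hl (by rw [e]; rfl)⟩

/-- A nontrivial linear character of `U`. -/
noncomputable def lam : D.U →* ℂˣ := D.exists_lam.choose

theorem lam_ne : D.lam ≠ 1 := D.exists_lam.choose_spec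

/-- The trivial character induced from `U`. -/
noncomputable def indU1 : P → ℂ := indFun D.U (fun _ => 1)

/-- `Ind_U λ + Ind_U λ̄`. -/
noncomputable def Lam : P → ℂ := indFun D.U (fun y => (D.lam y : ℂ) + (D.lam y⁻¹ : ℂ))

/-- The function induced from a linear character of `A`. -/
noncomputable def indA (θ : D.A →* ℂˣ) : P → ℂ := indFun D.A (fun a => (θ a : ℂ))

/-- `Φ_θ = 2 Λ - Ind_A θ`. -/
noncomputable def Phi (θ : D.A →* ℂˣ) : P → ℂ := (2 : ℂ) • D.Lam - D.indA θ

theorem isClassFunction_Lam : IsClassFunction P D.Lam := isClassFunction_indFun _ _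

theorem isClassFunction_indA (θ : D.A →* ℂˣ) : IsClassFunction P (D.indA θ) := isClassFunction_indFun _ _

theorem isClassFunction_Phi (θ : D.A →* ℂˣ) : IsClassFunction P (D.Phi θ) := fun g h => by
  simp [Phi, D.isClassFunction_Lam g h, D.isClassFunction_indA θ g h]

theorem gen_Lam : IsCharacter P D.Lam := by
  refine isCharacter_indFun _ (isCharacter_add (isCharacter_linear D.lam) ?_)
  simpa [conj_linear] using isCharacter_conj (isCharacter_linear D.lam)

theorem gen_Phi (θ : D.A →* ℂˣ) : IsGeneralizedCharacter P (D.Phi θ) :=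
  ⟨D.Lam + D.Lam, D.indA θ, isCharacter_add D.gen_Lam D.gen_Lam,
    isCharacter_indFun _ (isCharacter_linear θ), by rw [Phi, two_smul]⟩

theorem index_U : D.U.index = 2 * D.m * (D.q - 1) := by
  have h := D.U.card_mul_index
  rw [D.card_U, D.card_P', show 2 * D.q * D.m * (D.q - 1) = D.q * (2 * D.m * (D.q - 1)) by ring] at h
  exact Nat.eq_of_mul_eq_mul_left (by have := D.q27; omega) h

theorem index_A : D.A.index = 2 * D.q * (D.q - 1) := by
  have h := D.A.card_mul_index
  rw [D.card_A, D.card_P', show 2 * D.q * D.m * (D.q - 1) = D.m * (2 * D.q * (D.q - 1)) by ring] at h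
  exact Nat.eq_of_mul_eq_mul_left (by have := D.m_seven; omega) h

/-- The conjugates in `U` of `y ∈ U`. -/
noncomputable def orbit (y : P) : Finset D.U := Finset.univ.filter fun z => IsConj y (z : P)

theorem mem_orbit {y : P} {z : D.U} : z ∈ D.orbit y ↔ IsConj y (z : P) := by simp [orbit]

theorem card_orbit {y : P} (hy : y ∈ D.U) (hy1 : y ≠ 1) : (D.orbit y).card = 2 * D.m - 1 := by
  classical
  let yB : D.B := ⟨y, D.U_le_B hy⟩
  have e1 : Nat.card {x : D.B // IsConj yB x} = (D.orbit y).card := by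
    rw [← Nat.card_eq_finsetCard]
    refine Nat.card_congr
      { toFun := fun x => ⟨⟨(x : D.B), ?_⟩, ?_⟩
        invFun := fun z => ⟨⟨(z : D.U), D.U_le_B z.1.2⟩, ?_⟩
        left_inv := fun x => rfl
        right_inv := fun z => rfl }
    · obtain ⟨c, hc⟩ := isConj_iff.1 x.2
      rw [← hc]
      exact D.U_normal c c.2 y hy
    · obtain ⟨c, hc⟩ := isConj_iff.1 x.2
      exact D.mem_orbit.2 (isConj_iff.2 ⟨(c : P), congrArg Subtype.val hc⟩)
    · obtain ⟨c, hc⟩ := isConj_iff.1 (D.mem_orbit.1 z.2)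
      exact isConj_iff.2 ⟨⟨c, D.U_ti c y hy hy1 (hc ▸ z.1.2)⟩, Subtype.ext hc⟩
  have e2 : Nat.card (centralizer ({yB} : Set D.B)) = D.q := by
    rw [← D.card_U]
    refine Nat.card_congr
      { toFun := fun g => ⟨((g : D.B) : P), D.U_cent _ y hy hy1 ?_⟩
        invFun := fun z => ⟨⟨z, D.U_le_B z.2⟩, ?_⟩
        left_inv := fun g => rfl
        right_inv := fun z => rfl }
    · exact congrArg Subtype.val (mem_centralizer_singleton_iff.1 g.2)
    · exact mem_centralizer_singleton_iff.2 (Subtype.ext (D.U_comm z z.2 y hy))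
  have h := card_conjClass_mul_centralizer yB
  rw [e1, e2, D.card_B, mul_comm D.q] at h
  exact Nat.eq_of_mul_eq_mul_right (by have := D.q27; omega) h

theorem indFun_U_apply (f : D.U → ℂ) {y : P} (hy : y ∈ D.U) (hy1 : y ≠ 1) :
    indFun D.U f y = ∑ z ∈ D.orbit y, f z := by
  classical
  rw [indFun_eq_classSum]
  have e : (centralizer ({y} : Set P)) = D.U := le_antisymm
    (fun g hg => D.U_cent g y hy hy1 (mem_centralizer_singleton_iff.1 hg))
    (fun g hg => mem_centralizer_singleton_iff.2 (D.U_comm g hg y hy))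
  rw [e, inv_mul_cancel₀ (Nat.cast_ne_zero.2 Nat.card_pos.ne'), one_mul, Finset.sum_filter]
  have h := sum_extendByZero_mul D.U f (fun z => if IsConj y z then (1 : ℂ) else 0)
  simp only [mul_ite, mul_one, mul_zero] at h
  rw [h, orbit, Finset.sum_filter]

theorem indU1_U {y : P} (hy : y ∈ D.U) (hy1 : y ≠ 1) : D.indU1 y = (2 * D.m - 1 : ℕ) := by
  rw [indU1, D.indFun_U_apply _ hy hy1, Finset.sum_const, D.card_orbit hy hy1, nsmul_eq_mul, mul_one]

theorem Lam_U {y : P} (hy : y ∈ D.U) (hy1 : y ≠ 1) : D.Lam y = -1 := by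
  classical
  rw [Lam, D.indFun_U_apply _ hy hy1, Finset.sum_add_distrib]
  have hd : Disjoint (D.orbit y) ((D.orbit y).map (Equiv.inv D.U).toEmbedding) := by
    rw [Finset.disjoint_left]
    intro z hz hz'
    obtain ⟨w, hw, hwz⟩ := Finset.mem_map.1 hz'
    obtain ⟨a, ha⟩ := isConj_iff.1 (D.mem_orbit.1 hz)
    obtain ⟨b, hb⟩ := isConj_iff.1 (D.mem_orbit.1 hw)
    have e : (z : P) = (w : P)⁻¹ := by rw [← hwz]; rfl
    apply D.not_inv_U (g := b⁻¹ * a) hy hy1
    calc b⁻¹ * a * y * (b⁻¹ * a)⁻¹ = b⁻¹ * (a * y * a⁻¹) * b := by group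
      _ = b⁻¹ * (b * y * b⁻¹)⁻¹ * b := by rw [ha, e, ← hb]
      _ = y⁻¹ := by group
  have hu : (D.orbit y).disjUnion ((D.orbit y).map (Equiv.inv D.U).toEmbedding) hd =
      Finset.univ.erase 1 := by
    refine Finset.eq_of_subset_of_card_le (fun z hz => Finset.mem_erase.2 ⟨?_, Finset.mem_univ _⟩) ?_
    · rintro rfl
      rcases Finset.mem_disjUnion.1 hz with h | h
      · exact hy1 (isConj_one_left.1 (D.mem_orbit.1 h))
      · obtain ⟨w, hw, hwz⟩ := Finset.mem_map.1 h
        obtain rfl : w = 1 := inv_eq_one.1 hwz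
        exact hy1 (isConj_one_left.1 (D.mem_orbit.1 hw))
    · rw [Finset.card_disjUnion, Finset.card_map, D.card_orbit hy hy1,
        Finset.card_erase_of_mem (Finset.mem_univ _), Finset.card_univ, ← Nat.card_eq_fintype_card, D.card_U]
      have := D.hq; omega
  calc ∑ z ∈ D.orbit y, (D.lam z : ℂ) + ∑ z ∈ D.orbit y, (D.lam z⁻¹ : ℂ)
      = ∑ z ∈ (Finset.univ : Finset D.U).erase 1, (D.lam z : ℂ) := by
        rw [← hu, Finset.sum_disjUnion, Finset.sum_map]; rfl
    _ = -1 := by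
        rw [Finset.sum_erase_eq_sub (Finset.mem_univ _), sum_linear_values, if_neg D.lam_ne, map_one,
          Units.val_one, zero_sub]

theorem Lam_one : D.Lam 1 = 4 * D.m * (D.q - 1 : ℕ) := by
  rw [Lam, indFun_one, D.index_U, inv_one, map_one, Units.val_one]
  push_cast; ring

theorem indU1_one : D.indU1 1 = 2 * D.m * (D.q - 1 : ℕ) := by
  rw [indU1, indFun_one, D.index_U]
  push_cast; ring

theorem Lam_eq_zero {g : P} (h : ∀ x : P, x⁻¹ * g * x ∉ D.U) : D.Lam g = 0 := indFun_eq_zero _ h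

theorem indA_eq_zero (θ : D.A →* ℂˣ) {g : P} (h : ∀ x : P, x⁻¹ * g * x ∉ D.A) : D.indA θ g = 0 :=
  indFun_eq_zero _ h

theorem indA_one (θ : D.A →* ℂˣ) : D.indA θ 1 = 2 * D.q * (D.q - 1 : ℕ) := by
  rw [indA, indFun_one, D.index_A, map_one, Units.val_one]
  push_cast; ring

theorem indA_A (θ : D.A →* ℂˣ) {a : D.A} (ha1 : a ≠ 1) :
    D.indA θ a = 2 * ((θ a : ℂ) + (θ a⁻¹ : ℂ)) := by
  classical
  have ha1' : (a : P) ≠ 1 := fun e => ha1 (Subtype.ext e)
  obtain ⟨u, -, hus, hinv, hcase⟩ := D.cent_cases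
  have hne : ¬ (a : P)⁻¹ = a := fun e => ha1' (sq_eq_one_of_odd (D.odd_of_mem_A a.2) (by
    calc (a : P) * a = (a : P)⁻¹ * a := by rw [e]
      _ = 1 := inv_mul_cancel _))
  have hsA : D.s ∉ D.A := fun h => by
    have := D.odd_of_mem_A h; rw [D.hs] at this; exact absurd this (by decide)
  have hC : Nat.card (centralizer ({(a : P)} : Set P)) = 2 * D.m := by
    let F : Bool × D.A → centralizer ({(a : P)} : Set P) := fun p =>
      ⟨(if p.1 then D.s else 1) * p.2, by
        rw [mem_centralizer_singleton_iff]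
        cases p.1
        · simpa using D.A_comm _ p.2.2 _ a.2
        · simp only [if_true]
          rw [mul_assoc, D.A_comm _ p.2.2 _ a.2, ← mul_assoc, D.A_s _ a.2, mul_assoc]⟩
    have hF : Function.Bijective F := by
      constructor
      · rintro ⟨i, b, hb⟩ ⟨j, c, hc⟩ e
        have e' := congrArg Subtype.val e
        cases i <;> cases j <;> simp [F] at e' <;> try (subst e'; rfl)
        · exact absurd (by
            have := mul_mem hb (inv_mem hc); rwa [e', mul_inv_cancel_right] at this) hsA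
        · exact absurd (by
            have := mul_mem hc (inv_mem hb); rwa [← e', mul_inv_cancel_right] at this) hsA
      · rintro ⟨g, hg⟩
        have hg' := mem_centralizer_singleton_iff.1 hg
        have hfix : g * a * g⁻¹ = (a : P) := by rw [hg', mul_inv_cancel_right]
        obtain ⟨b, hb, h | h | h | h⟩ := hcase g (D.A_ti g a a.2 ha1' (by rw [hfix]; exact a.2))
        · exact ⟨(false, ⟨b, hb⟩), Subtype.ext (by simp [F, h])⟩
        · exact ⟨(true, ⟨b, hb⟩), Subtype.ext (by simp [F, h])⟩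
        · refine absurd ?_ hne
          rw [h, mul_assoc u b, D.A_comm _ hb _ a.2] at hfix
          calc (a : P)⁻¹ = u * a * u⁻¹ := (hinv a a.2).symm
            _ = u * (a * b) * (u * b)⁻¹ := by group
            _ = a := hfix
        · refine absurd ?_ hne
          rw [h, mul_assoc (u * D.s), D.A_comm _ hb _ a.2] at hfix
          calc (a : P)⁻¹ = u * (a * D.s) * D.s⁻¹ * u⁻¹ := by rw [← hinv a a.2]; group
            _ = u * (D.s * a) * D.s⁻¹ * u⁻¹ := by rw [D.A_s a a.2]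
            _ = u * D.s * (a * b) * (u * D.s * b)⁻¹ := by group
            _ = a := hfix
    rw [← Nat.card_congr (Equiv.ofBijective F hF), Nat.card_prod, D.card_A, Nat.card_eq_fintype_card,
      Fintype.card_bool]
  have hcl : (Finset.univ.filter fun z : D.A => IsConj (a : P) z) = {a, a⁻¹} := by
    ext z
    simp only [Finset.mem_filter, Finset.mem_univ, true_and, Finset.mem_insert, Finset.mem_singleton]
    refine ⟨fun hz => ?_, fun hz => ?_⟩
    · obtain ⟨c, hc⟩ := isConj_iff.1 hz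
      rcases D.A_action (D.A_ti c a a.2 ha1' (hc ▸ z.2)) a.2 with h | h
      · exact Or.inl (Subtype.ext (hc ▸ h))
      · exact Or.inr (Subtype.ext (hc ▸ h))
    · rcases hz with rfl | rfl
      · rfl
      · exact isConj_iff.2 ⟨u, hinv a a.2⟩
  rw [indA, indFun_eq_classSum, hC, D.card_A, Finset.sum_filter]
  have h := sum_extendByZero_mul D.A (fun z => (θ z : ℂ)) (fun z => if IsConj (a : P) z then (1 : ℂ) else 0)
  simp only [mul_ite, mul_one, mul_zero] at h
  rw [h, ← Finset.sum_filter, hcl, Finset.sum_pair (fun e => hne (congrArg Subtype.val e).symm)]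
  have hm0 : (D.m : ℂ) ≠ 0 := Nat.cast_ne_zero.2 (by have := D.m_seven; omega)
  push_cast
  field_simp

theorem Phi_one (θ : D.A →* ℂˣ) : D.Phi θ 1 = 2 * (D.q - 1 : ℕ) := by
  have h : (D.q : ℂ) + 1 = 4 * D.m := by exact_mod_cast D.hq
  simp only [Phi, Pi.sub_apply, Pi.smul_apply, smul_eq_mul, Lam_one, indA_one]
  linear_combination -2 * ((D.q - 1 : ℕ) : ℂ) * h

theorem Phi_U (θ : D.A →* ℂˣ) {y : P} (hy : y ∈ D.U) (hy1 : y ≠ 1) : D.Phi θ y = -2 := by
  simp only [Phi, Pi.sub_apply, Pi.smul_apply, smul_eq_mul, D.Lam_U hy hy1]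
  rw [D.indA_eq_zero θ fun x h => hy1 (D.A_B_one (D.U_le_B hy) h)]
  ring

theorem Phi_A (θ : D.A →* ℂˣ) {a : D.A} (ha : a ≠ 1) :
    D.Phi θ a = -2 * ((θ a : ℂ) + (θ a⁻¹ : ℂ)) := by
  simp only [Phi, Pi.sub_apply, Pi.smul_apply, smul_eq_mul, D.indA_A θ ha]
  rw [D.Lam_eq_zero fun x h => ha (Subtype.ext (D.U_A_one a.2 h))]
  ring

theorem Phi_B (θ : D.A →* ℂˣ) {b : P} (hb : b ∈ D.B) (hbU : b ∉ D.U) : D.Phi θ b = 0 := by
  have hb1 : b ≠ 1 := fun e => hbU (e ▸ D.U.one_mem)
  simp only [Phi, Pi.sub_apply, Pi.smul_apply, smul_eq_mul]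
  rw [D.Lam_eq_zero fun x h => hbU (D.B_mem_U_of_conj hb h), D.indA_eq_zero θ fun x h => hb1 (D.A_B_one hb h)]
  ring

theorem even_order_eq_zero (θ : D.A →* ℂˣ) {g : P} (hg : ¬ Odd (orderOf g)) : D.Phi θ g = 0 := by
  simp only [Phi, Pi.sub_apply, Pi.smul_apply, smul_eq_mul]
  rw [D.Lam_eq_zero fun x h => hg (orderOf_conj' x g ▸ D.odd_of_mem_U h),
    D.indA_eq_zero θ fun x h => hg (orderOf_conj' x g ▸ D.odd_of_mem_A h)]
  ring

/-- `⟨Λ, Ψ⟩` for a class function constant on `U∖1`. -/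
theorem inner_Lam {Ψ : P → ℂ} (hΨ : IsClassFunction P Ψ) {e c : ℂ} (h1 : Ψ 1 = e)
    (hU : ∀ y ∈ D.U, y ≠ 1 → Ψ y = c) :
    classInner D.Lam Ψ = (D.q : ℂ)⁻¹ * (2 * conj e - 2 * conj c) := by
  classical
  rw [Lam, frobenius _ _ hΨ, classInner, D.card_U]
  congr 1
  have hs : ∑ y : D.U, ((D.lam y : ℂ) + (D.lam y⁻¹ : ℂ)) = 0 := by
    rw [Finset.sum_add_distrib, Fintype.sum_equiv (Equiv.inv D.U) (fun y => (D.lam y⁻¹ : ℂ))
      (fun y => (D.lam y : ℂ)) (fun y => rfl), sum_linear_values, if_neg D.lam_ne, add_zero]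
  rw [← Finset.add_sum_erase _ _ (Finset.mem_univ (1 : D.U)), map_one, inv_one, map_one, Units.val_one,
    OneMemClass.coe_one, h1, Finset.sum_congr rfl fun y hy => by
      rw [hU y y.2 fun e' => (Finset.mem_erase.1 hy).1 (Subtype.ext e')]]
  rw [← Finset.sum_mul, Finset.sum_erase_eq_sub (Finset.mem_univ _), hs, map_one, inv_one, map_one,
    Units.val_one]
  ring

/-- `⟨Ind_A θ, Ψ⟩`. -/
theorem inner_indA (θ : D.A →* ℂˣ) {Ψ : P → ℂ} (hΨ : IsClassFunction P Ψ) (g : D.A → ℂ)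
    (h : ∀ a : D.A, a ≠ 1 → Ψ a = g a) :
    classInner (D.indA θ) Ψ =
      (D.m : ℂ)⁻¹ * (conj (Ψ 1) - conj (g 1) + ∑ a : D.A, (θ a : ℂ) * conj (g a)) := by
  classical
  rw [indA, frobenius _ _ hΨ, classInner, D.card_A]
  congr 1
  rw [← Finset.add_sum_erase _ _ (Finset.mem_univ (1 : D.A)), ← Finset.add_sum_erase _ _ (Finset.mem_univ (1 : D.A)),
    Finset.sum_congr rfl fun a ha => by rw [h a (Finset.mem_erase.1 ha).1]]
  simp only [map_one, Units.val_one, OneMemClass.coe_one]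
  ring

theorem inner_Lam_Phi (θ : D.A →* ℂˣ) : classInner D.Lam (D.Phi θ) = 4 := by
  rw [D.inner_Lam (D.isClassFunction_Phi θ) (D.Phi_one θ) fun y hy hy1 => D.Phi_U θ hy hy1]
  have hq0 : (D.q : ℂ) ≠ 0 := Nat.cast_ne_zero.2 (by have := D.q27; omega)
  rw [inv_mul_eq_iff_eq_mul₀ hq0]
  simp only [map_mul, map_neg, map_ofNat, map_natCast]
  rw [Nat.cast_sub (show 1 ≤ D.q by have := D.q27; omega)]
  push_cast; ring

theorem inner_indA_Phi (θ θ' : D.A →* ℂˣ) :
    classInner (D.indA θ) (D.Phi θ') =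
      8 - 2 * ((if θ = θ' then 1 else 0) + (if θ * θ' = 1 then 1 else 0)) := by
  classical
  rw [D.inner_indA θ (D.isClassFunction_Phi θ') (fun a => -2 * ((θ' a : ℂ) + (θ' a⁻¹ : ℂ)))
    fun a ha => D.Phi_A θ' ha]
  have h1 : ∀ a : D.A, (θ a : ℂ) * conj (-2 * ((θ' a : ℂ) + (θ' a⁻¹ : ℂ))) =
      -2 * (((θ * θ'⁻¹) a : ℂˣ) : ℂ) + -2 * (((θ * θ') a : ℂˣ) : ℂ) := fun a => by
    simp only [map_mul, map_add, map_neg, map_ofNat, conj_linear, inv_inv]
    simp only [MonoidHom.mul_apply, MonoidHom.inv_apply, Units.val_mul, map_inv]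
    ring
  rw [Finset.sum_congr rfl fun a _ => h1 a]
  simp only [Finset.sum_add_distrib, ← Finset.mul_sum, sum_linear_values, D.card_A, D.Phi_one,
    map_one, inv_one, Units.val_one, map_mul, map_add, map_neg, map_ofNat, map_natCast]
  have hm0 : (D.m : ℂ) ≠ 0 := Nat.cast_ne_zero.2 (by have := D.m_seven; omega)
  rw [inv_mul_eq_iff_eq_mul₀ hm0, Nat.cast_sub (show 1 ≤ D.q by have := D.q27; omega)]
  have hq : (D.q : ℂ) + 1 = 4 * D.m := by exact_mod_cast D.hq
  have hiff : θ * θ'⁻¹ = 1 ↔ θ = θ' := by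
    constructor
    · exact fun h => MonoidHom.ext fun a => mul_inv_eq_one.1 (DFunLike.congr_fun h a)
    · rintro rfl; exact MonoidHom.ext fun a => mul_inv_cancel (θ a)
  simp only [hiff]
  push_cast
  split_ifs <;> linear_combination 2 * hq

theorem inner_Phi (θ θ' : D.A →* ℂˣ) :
    classInner (D.Phi θ) (D.Phi θ') = 2 * ((if θ = θ' then 1 else 0) + (if θ * θ' = 1 then 1 else 0)) := by
  conv_lhs => arg 1; rw [Phi]
  rw [classInner_sub_left, classInner_smul_left, D.inner_Lam_Phi, D.inner_indA_Phi]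
  ring

/-- `⟨Φ_θ, r⟩` for the pair count. -/
theorem inner_Phi_count {θ : D.A →* ℂˣ} (hθ : θ ≠ 1) {r : P → ℂ} (hr : IsClassFunction P r)
    (h1 : r 1 = (D.q * (D.q - 1) : ℕ)) (hU : ∀ y ∈ D.U, y ≠ 1 → r y = 0)
    (hA : ∀ a : D.A, a ≠ 1 → r a = (4 * D.m : ℕ)) :
    classInner (D.Phi θ) r * (Nat.card P : ℂ) = (4 * D.q ^ 2 * (D.q - 1) : ℕ) := by
  classical
  rw [Phi, classInner_sub_left, classInner_smul_left, D.inner_Lam hr h1 hU,
    D.inner_indA θ hr (fun _ => ((4 * D.m : ℕ) : ℂ)) hA, ← Finset.sum_mul, sum_linear_values, if_neg hθ,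
    zero_mul, add_zero, h1, D.card_P']
  simp only [map_zero, map_natCast]
  have hm0 : (D.m : ℂ) ≠ 0 := Nat.cast_ne_zero.2 (by have := D.m_seven; omega)
  have hq0 : (D.q : ℂ) ≠ 0 := Nat.cast_ne_zero.2 (by have := D.q27; omega)
  have hq : (D.q : ℂ) + 1 = 4 * D.m := by exact_mod_cast D.hq
  push_cast [Nat.cast_sub (show 1 ≤ D.q by have := D.q27; omega)]
  field_simp
  linear_combination (-2 : ℂ) * D.q ^ 2 * (D.q - 1) * hq

/-- `⟨Ind_B μ, Φ_θ⟩ = 0` for `μ` trivial on `U`. -/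
theorem inner_indB_Phi (μ : D.B →* ℂˣ) (hμ : ∀ b : D.B, (b : P) ∈ D.U → μ b = 1) (θ : D.A →* ℂˣ) :
    classInner (indFun D.B (fun b => (μ b : ℂ))) (D.Phi θ) = 0 := by
  classical
  rw [frobenius _ _ (D.isClassFunction_Phi θ), classInner]
  refine mul_eq_zero_of_right _ ?_
  have h : ∀ b : D.B, (μ b : ℂ) * conj (D.Phi θ b) =
      if (b : P) ∈ D.U then conj (D.Phi θ b) else 0 := fun b => by
    split_ifs with hb
    · rw [hμ b hb, Units.val_one, one_mul]
    · rw [D.Phi_B θ b.2 hb, map_zero, mul_zero]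
  rw [Finset.sum_congr rfl fun b _ => h b, ← Finset.sum_filter]
  have e : ∑ b ∈ Finset.univ.filter (fun b : D.B => (b : P) ∈ D.U), conj (D.Phi θ b) =
      ∑ y : D.U, conj (D.Phi θ y) := by
    refine Finset.sum_bij' (fun b hb => ⟨b, (Finset.mem_filter.1 hb).2⟩) (fun y _ => ⟨y, D.U_le_B y.2⟩)
      (fun b hb => Finset.mem_univ _) (fun y _ => by simp) (fun b hb => rfl) (fun y _ => rfl) (fun b hb => rfl)
  rw [e, ← Finset.add_sum_erase _ _ (Finset.mem_univ (1 : D.U)), Finset.sum_congr rfl fun y hy => by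
    rw [D.Phi_U θ y.2 fun e' => (Finset.mem_erase.1 hy).1 (Subtype.ext e')]]
  rw [Finset.sum_const, Finset.card_erase_of_mem (Finset.mem_univ _), Finset.card_univ,
    ← Nat.card_eq_fintype_card, D.card_U, OneMemClass.coe_one, D.Phi_one, nsmul_eq_mul]
  simp only [map_mul, map_neg, map_ofNat, map_natCast]
  ring

theorem indB_even_zero (f : D.B → ℂ) {g : P} (hg : ¬ Odd (orderOf g)) : indFun D.B f g = 0 :=
  indFun_eq_zero _ fun x h => hg (orderOf_conj' x g ▸ D.odd_of_mem_B h)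

/-- The norm of `Ind_B μ` is at most `2`. -/
theorem norm_indB (μ : D.B →* ℂˣ) :
    ∃ r : ℝ, r ≤ 2 ∧ classInner (indFun D.B (fun b => (μ b : ℂ))) (indFun D.B (fun b => (μ b : ℂ))) = r := by
  classical
  refine ⟨_, ?_, classInner_self_re _⟩
  set c : P → ℕ := fun g => (Finset.univ.filter fun x : P => x⁻¹ * g * x ∈ D.B).card with hc
  have hle : ∀ g, ‖indFun D.B (fun b => (μ b : ℂ)) g‖ ≤ (Nat.card D.B : ℝ)⁻¹ * c g := fun g => by
    rw [indFun, norm_mul, norm_inv, Complex.norm_natCast]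
    refine mul_le_mul_of_nonneg_left ((norm_sum_le _ _).trans ?_) (by positivity)
    simp only [hc, Finset.card_filter]
    push_cast
    refine Finset.sum_le_sum fun x _ => ?_
    split_ifs with h
    · rw [extendByZero_mem D.B _ h]
      exact (char_norm_le (isCharacter_linear μ) _).trans (by simp)
    · rw [extendByZero_not_mem D.B _ h, norm_zero]
  -- the count
  have hBc : ∀ g, (c g : ℝ) ^ 2 = ∑ x : P, if x⁻¹ * g * x ∈ D.B then (c g : ℝ) else 0 := fun g => by
    rw [← Finset.sum_filter, Finset.sum_const, nsmul_eq_mul, pow_two]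
  have hcls : ∀ g x : P, c (x⁻¹ * g * x) = c g := fun g x => by
    refine Finset.card_equiv (Equiv.mulLeft x) fun z => ?_
    simp [mul_assoc]
  have hsq : ∑ g : P, (c g : ℝ) ^ 2 = Nat.card P * ∑ b : D.B, (c b : ℝ) := by
    rw [Finset.sum_congr rfl fun g _ => hBc g, Finset.sum_comm]
    have : ∀ x : P, (∑ g : P, if x⁻¹ * g * x ∈ D.B then (c g : ℝ) else 0) = ∑ b : D.B, (c b : ℝ) := by
      intro x
      rw [← Finset.sum_filter]
      exact Finset.sum_bij' (fun g hg => ⟨x⁻¹ * g * x, (Finset.mem_filter.1 hg).2⟩)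
        (fun b _ => x * b * x⁻¹) (fun g hg => Finset.mem_univ _) (fun b _ => by simp [mul_assoc])
        (fun g hg => by simp [mul_assoc]) (fun b _ => by ext; simp [mul_assoc])
        (fun g hg => by rw [hcls])
    rw [Finset.sum_congr rfl fun x _ => this x, Finset.sum_const, Finset.card_univ, nsmul_eq_mul,
      ← Nat.card_eq_fintype_card]
  have hidx : (D.U.subgroupOf D.B).index = 2 * D.m - 1 := by
    have h1 := (D.U.subgroupOf D.B).card_mul_index
    rw [Nat.card_congr (subgroupOfEquivOfLe D.U_le_B).toEquiv, D.card_U, D.card_B] at h1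
    exact Nat.eq_of_mul_eq_mul_left (by have := D.q27; omega) h1
  have hx : ∀ x : P, (Finset.univ.filter fun b : D.B => x⁻¹ * (b : P) * x ∈ D.B).card ≤
      (2 * D.m - 1) + if x ∈ D.B then Nat.card D.B - (2 * D.m - 1) else 0 := by
    intro x
    split_ifs with h
    · refine (Finset.card_le_univ _).trans ?_
      rw [← Nat.card_eq_fintype_card]; omega
    · rw [add_zero, ← hidx, Subgroup.index, Nat.card_eq_fintype_card, ← Finset.card_univ]
      refine Finset.card_le_card_of_injOn (fun b => (b : D.B ⧸ D.U.subgroupOf D.B))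
        (fun b _ => Finset.mem_univ _) fun b hb b' hb' e => ?_
      have hd : (b : P)⁻¹ * b' ∈ D.U := mem_subgroupOf.1 (QuotientGroup.eq.1 (show (b : D.B ⧸ D.U.subgroupOf D.B) = b' from e))
      have hd' : x⁻¹ * ((b : P)⁻¹ * b') * x ∈ D.B := by
        have h1 := mul_mem (inv_mem (Finset.mem_filter.1 hb).2) (Finset.mem_filter.1 hb').2
        have e1 : x⁻¹ * ((b : P)⁻¹ * b') * x = (x⁻¹ * b * x)⁻¹ * (x⁻¹ * b' * x) := by group
        rwa [e1]
      by_contra hne
      have hne1 : (b : P)⁻¹ * b' ≠ 1 := fun e1 => hne (Subtype.ext (inv_mul_eq_one.1 e1))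
      refine h (inv_inv x ▸ inv_mem (D.U_ti x⁻¹ _ hd hne1 ?_))
      rw [inv_inv]
      refine D.B_mem_U_of_conj hd' (x := x⁻¹) ?_
      simpa [mul_assoc] using hd
  have hsumc : ∑ b : D.B, (c b : ℝ) ≤
      (Nat.card P : ℝ) * ((2 * D.m - 1 : ℕ) : ℝ) + Nat.card D.B * ((Nat.card D.B - (2 * D.m - 1) : ℕ) : ℝ) := by
    have e : ∑ b : D.B, c b = ∑ x : P, (Finset.univ.filter fun b : D.B => x⁻¹ * (b : P) * x ∈ D.B).card := by
      simp only [hc, Finset.card_filter]
      exact Finset.sum_comm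
    have h2 := Finset.sum_le_sum fun x (_ : x ∈ Finset.univ) => hx x
    rw [← e, Finset.sum_add_distrib, Finset.sum_const, ← Finset.sum_filter, Finset.sum_const,
      Finset.card_univ, ← Nat.card_eq_fintype_card] at h2
    rw [show (Finset.univ.filter (· ∈ D.B)).card = Nat.card D.B by
      rw [Nat.card_eq_fintype_card, Fintype.card_subtype]] at h2
    simp only [smul_eq_mul] at h2
    exact_mod_cast h2
  have hBpos : (0 : ℝ) < Nat.card D.B := Nat.cast_pos.2 Nat.card_pos
  calc (Nat.card P : ℝ)⁻¹ * ∑ g, ‖indFun D.B (fun b => (μ b : ℂ)) g‖ ^ 2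
      ≤ (Nat.card P : ℝ)⁻¹ * ∑ g, ((Nat.card D.B : ℝ)⁻¹ * c g) ^ 2 := by
        refine mul_le_mul_of_nonneg_left (Finset.sum_le_sum fun g _ => ?_) (by positivity)
        exact pow_le_pow_left₀ (norm_nonneg _) (hle g) 2
    _ = ((Nat.card D.B : ℝ)⁻¹) ^ 2 * ∑ b : D.B, (c b : ℝ) := by
        simp only [mul_pow, ← Finset.mul_sum, hsq]
        have : (Nat.card P : ℝ) ≠ 0 := Nat.cast_ne_zero.2 Nat.card_pos.ne'
        field_simp
    _ ≤ ((Nat.card D.B : ℝ)⁻¹) ^ 2 * ((Nat.card P : ℝ) * ((2 * D.m - 1 : ℕ) : ℝ) +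
          Nat.card D.B * ((Nat.card D.B - (2 * D.m - 1) : ℕ) : ℝ)) :=
        mul_le_mul_of_nonneg_left hsumc (by positivity)
    _ = 2 := by
        rw [inv_pow, inv_mul_eq_iff_eq_mul₀ (by positivity)]
        have h3 : Nat.card P * (2 * D.m - 1) + Nat.card D.B * (Nat.card D.B - (2 * D.m - 1)) =
            Nat.card D.B ^ 2 * 2 := by
          rw [D.card_B, D.card_P']
          have hq := D.hq
          have h7 := D.m_seven
          obtain ⟨d, hd⟩ : ∃ d, 2 * D.m - 1 = d := ⟨_, rfl⟩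
          obtain ⟨q', hq'⟩ : ∃ q', D.q = q' + 1 := ⟨D.q - 1, by omega⟩
          rw [hd]
          have e1 : D.q * d - d = q' * d := by rw [hq', add_mul, one_mul, Nat.add_sub_cancel]
          have e2 : q' = 2 * d := by omega
          have e3 : 2 * D.m = d + 1 := by omega
          rw [e1, hq', show q' + 1 - 1 = q' by omega, show 2 * (q' + 1) * D.m = (q' + 1) * (2 * D.m) by ring,
            e3, e2]
          ring
        exact_mod_cast h3

end KData

end Cfsg.Agent.Char.ReeThree
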