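import Cfsg.Agent.Lib.Char.ReeThree.KChar

/-!
# The regular character of `K` as a combination of `Ind_B μ` and `Φ_θ`
-/

set_option autoImplicit false
set_option linter.unusedSectionVars false
set_option linter.style.haveILetI false

namespace Cfsg.Agent.Char.ReeThree

open Cfsg Subgroup
open scoped ComplexConjugate Classical

universe u

namespace KData

variable {P : Type u} [Group P] [Fintype P] (D : KData P)

theorem normal_U_B : (D.U.subgroupOf D.B).Normal := ⟨fun y hy g => D.U_normal g g.2 y hy⟩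

/-- The linear characters of `B` trivial on `U`. -/
abbrev BHom : Type u := {μ : D.B →* ℂˣ // D.U.subgroupOf D.B ≤ μ.ker}

theorem index_U_B : (D.U.subgroupOf D.B).index = 2 * D.m - 1 := by
  have h1 := (D.U.subgroupOf D.B).card_mul_index
  rw [Nat.card_congr (subgroupOfEquivOfLe D.U_le_B).toEquiv, D.card_U, D.card_B] at h1
  exact Nat.eq_of_mul_eq_mul_left (by have := D.q27; omega) h1

theorem finite_BHom : Finite D.BHom := by
  haveI := finite_hom_units D.B
  infer_instance

theorem sum_BHom [Fintype D.BHom] (b : D.B) :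
    ∑ μ : D.BHom, (μ.1 b : ℂ) = if (b : P) ∈ D.U then ((2 * D.m - 1 : ℕ) : ℂ) else 0 := by
  haveI := D.normal_U_B
  set N := D.U.subgroupOf D.B
  haveI : Fintype (D.B ⧸ N →* ℂˣ) := by
    haveI := finite_hom_units (D.B ⧸ N)
    exact Fintype.ofFinite _
  have hcomm : ∀ x y : D.B ⧸ N, x * y = y * x := by
    rintro ⟨x⟩ ⟨y⟩
    refine QuotientGroup.eq.2 (mem_subgroupOf.2 ?_)
    have h := D.B_comm _ (inv_mem y.2) _ (inv_mem x.2)
    simpa [mul_assoc] using h
  let e : D.BHom ≃ (D.B ⧸ N →* ℂˣ) :=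
    { toFun := fun μ => QuotientGroup.lift N μ.1 μ.2
      invFun := fun l => ⟨l.comp (QuotientGroup.mk' N), fun x hx => by
        rw [MonoidHom.mem_ker, MonoidHom.comp_apply, QuotientGroup.mk'_apply, (QuotientGroup.eq_one_iff x).2 hx, map_one]⟩
      left_inv := fun μ => Subtype.ext (MonoidHom.ext fun x => rfl)
      right_inv := fun l => MonoidHom.ext fun x => by obtain ⟨x⟩ := x; rfl }
  rw [Fintype.sum_equiv e (fun μ => (μ.1 b : ℂ)) (fun l => (l (b : D.B ⧸ N) : ℂ)) (fun μ => rfl),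
    sum_hom_apply hcomm, ← Subgroup.index_eq_card, D.index_U_B]
  exact if_congr ((QuotientGroup.eq_one_iff b).trans mem_subgroupOf) rfl rfl

theorem sum_indB [Fintype D.BHom] (g : P) :
    ∑ μ : D.BHom, indFun D.B (fun b => (μ.1 b : ℂ)) g = D.indU1 g := by
  rw [indU1, ← Finset.sum_apply, ← indFun_sum]
  simp only [indFun]
  rw [D.card_U, D.card_B, Finset.mul_sum, Finset.mul_sum]
  refine Finset.sum_congr rfl fun x _ => ?_
  by_cases h : x⁻¹ * g * x ∈ D.B
  · rw [extendByZero_mem D.B _ h, Finset.sum_apply, D.sum_BHom]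
    by_cases h' : x⁻¹ * g * x ∈ D.U
    · rw [if_pos h', extendByZero_mem D.U _ h']
      have h0 : ((2 * D.m - 1 : ℕ) : ℂ) ≠ 0 := Nat.cast_ne_zero.2 (by have := D.m_seven; omega)
      have hq0 : (D.q : ℂ) ≠ 0 := Nat.cast_ne_zero.2 (by have := D.q27; omega)
      push_cast
      field_simp
    · rw [if_neg h', extendByZero_not_mem D.U _ h', mul_zero, mul_zero]
  · rw [extendByZero_not_mem D.B _ h, extendByZero_not_mem D.U _ fun h' => h (D.U_le_B h'), mul_zero, mul_zero]

theorem sum_indA [Fintype (D.A →* ℂˣ)] (g : P) :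
    ∑ θ : D.A →* ℂˣ, D.indA θ g = if g = 1 then (Nat.card P : ℂ) else 0 := by
  have hcomm : ∀ x y : D.A, x * y = y * x := fun x y => Subtype.ext (D.A_comm x x.2 y y.2)
  simp only [indA]
  rw [← Finset.sum_apply, ← indFun_sum]
  simp only [indFun]
  split_ifs with hg
  · subst hg
    simp only [mul_one, inv_mul_cancel, extendByZero_mem D.A _ D.A.one_mem, Finset.sum_apply,
      sum_hom_apply hcomm, Finset.sum_const, Finset.card_univ, nsmul_eq_mul]
    rw [if_pos (show (⟨1, D.A.one_mem⟩ : D.A) = 1 from rfl), ← Nat.card_eq_fintype_card]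
    have : (Nat.card D.A : ℂ) ≠ 0 := Nat.cast_ne_zero.2 Nat.card_pos.ne'
    field_simp
  · rw [Finset.sum_eq_zero fun x _ => ?_, mul_zero]
    by_cases h : x⁻¹ * g * x ∈ D.A
    · rw [extendByZero_mem D.A _ h, Finset.sum_apply, sum_hom_apply hcomm, if_neg]
      exact fun e => hg (by
        have e' : x⁻¹ * g * x = 1 := congrArg Subtype.val e
        rw [mul_eq_one_iff_eq_inv, inv_mul_eq_iff_eq_mul, mul_inv_cancel] at e'
        exact e')
    · exact extendByZero_not_mem D.A _ h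

theorem indU1_add_Lam (g : P) :
    D.indU1 g + ((2 * D.m - 1 : ℕ) : ℂ) * D.Lam g = if g = 1 then (Nat.card P : ℂ) else 0 := by
  split_ifs with hg
  · subst hg
    rw [D.indU1_one, D.Lam_one, D.card_P', show 2 * D.q * D.m * (D.q - 1) =
      2 * D.m * (D.q - 1) + (2 * D.m - 1) * (4 * D.m * (D.q - 1)) by
        obtain ⟨d, hd⟩ : ∃ d, 2 * D.m = d + 1 := ⟨2 * D.m - 1, by have := D.m_seven; omega⟩
        rw [show 2 * D.m - 1 = d by omega, show D.q = 2 * d + 1 by have := D.hq; omega,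
          show 4 * D.m = 2 * (2 * D.m) by ring, show 2 * (2 * d + 1) * D.m = (2 * d + 1) * (2 * D.m) by ring, hd]
        ring]
    push_cast; ring
  · by_cases h : ∃ x : P, x⁻¹ * g * x ∈ D.U
    · obtain ⟨x, hx⟩ := h
      have hx1 : x⁻¹ * g * x ≠ 1 := fun e => hg (by
        rw [mul_eq_one_iff_eq_inv, inv_mul_eq_iff_eq_mul, mul_inv_cancel] at e; exact e)
      have e1 := D.isClassFunction_Lam g x⁻¹
      have e2 := isClassFunction_indFun D.U (fun _ => (1 : ℂ)) g x⁻¹
      rw [inv_inv] at e1 e2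
      rw [← e1, show D.indU1 g = D.indU1 (x⁻¹ * g * x) from e2.symm, D.indU1_U hx hx1, D.Lam_U hx hx1]
      ring
    · push Not at h
      rw [D.Lam_eq_zero h, indU1, indFun_eq_zero _ h]
      ring

/-- The regular character. -/
theorem regular [Fintype D.BHom] [Fintype (D.A →* ℂˣ)] (g : P) :
    ((2 * D.m : ℕ) : ℂ) * ∑ μ : D.BHom, indFun D.B (fun b => (μ.1 b : ℂ)) g +
      ((2 * D.m - 1 : ℕ) : ℂ) * ∑ θ : D.A →* ℂˣ, D.Phi θ g = if g = 1 then (Nat.card P : ℂ) else 0 := by
  simp only [Phi, Pi.sub_apply, Pi.smul_apply, smul_eq_mul, Finset.sum_sub_distrib, Finset.sum_const,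
    Finset.card_univ, nsmul_eq_mul, D.sum_indB, D.sum_indA]
  have hcard : Fintype.card (D.A →* ℂˣ) = D.m := by
    letI : CommGroup D.A :=
      { (inferInstance : Group D.A) with mul_comm := fun a b => Subtype.ext (D.A_comm a a.2 b b.2) }
    haveI : NeZero (Monoid.exponent D.A) := ⟨Monoid.exponent_ne_zero_of_finite⟩
    rw [← Nat.card_eq_fintype_card, CommGroup.card_monoidHom_of_hasEnoughRootsOfUnity D.A ℂ, D.card_A]
  have h := D.indU1_add_Lam g
  rw [hcard]
  have h1 : ((2 * D.m : ℕ) : ℂ) = ((2 * D.m - 1 : ℕ) : ℂ) + 1 := by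
    rw [← Nat.cast_add_one]; congr 1; have := D.m_seven; omega
  have h2 : ((2 * D.m : ℕ) : ℂ) = 2 * D.m := by push_cast; ring
  generalize (if g = 1 then (Nat.card P : ℂ) else 0) = δ at h ⊢
  linear_combination (2 * (D.m : ℂ)) * h + (D.indU1 g) * h2 + δ * (h1 - h2)

end KData

end Cfsg.Agent.Char.ReeThree
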