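import Cfsg.Agent.Lib.Char.ReeThree.Data
import Cfsg.Agent.Lib.Char.Central

/-!
# Consequences of the data on `K`: orders, the normaliser of `A`, counts of involutions
-/

set_option autoImplicit false

namespace Cfsg.Agent.Char.ReeThree

open Subgroup

universe u

namespace KData

variable {P : Type u} [Group P] [Finite P] (D : KData P)

omit [Finite P] in
theorem m_seven : 7 ≤ D.m := by
  have := D.hq; have := D.q27; omega

omit [Finite P] in
theorem q_odd : Odd D.q := by
  have := D.hq; rw [Nat.odd_iff]; omega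

omit [Finite P] in
theorem card_P' : Nat.card P = 2 * D.q * D.m * (D.q - 1) := by
  have h := D.card_P
  have e : D.q ^ 2 - 1 = (D.q + 1) * (D.q - 1) := by rw [← Nat.sq_sub_sq, one_pow]
  rw [e, D.hq] at h
  refine Nat.eq_of_mul_eq_mul_left two_pos (h.trans ?_)
  ring

omit [Finite P] in
theorem cop_m_B : Nat.Coprime D.m (D.q * (2 * D.m - 1)) := by
  refine Nat.Coprime.mul_right ?_ ?_
  · obtain ⟨k, hk⟩ := D.hpow
    rw [hk]
    exact Nat.Coprime.pow_right k ((Nat.prime_three.coprime_iff_not_dvd.2 D.h3).symm)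
  · refine Nat.coprime_of_dvd fun r hr h1 h2 => ?_
    have h3 : r ∣ 2 * D.m - (2 * D.m - 1) := Nat.dvd_sub (Dvd.dvd.mul_left h1 2) h2
    have : 2 * D.m - (2 * D.m - 1) = 1 := by have := D.m_seven; omega
    rw [this] at h3
    exact hr.one_lt.ne' (Nat.dvd_one.1 h3)

omit [Finite P] in
theorem cop_q_idx : Nat.Coprime D.q (2 * D.m - 1) := by
  obtain ⟨k, hk⟩ := D.hpow
  rw [hk]
  refine Nat.Coprime.pow_left k (Nat.prime_three.coprime_iff_not_dvd.2 fun h => ?_)
  have h1 : 3 ∣ D.q := by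
    have := D.q27
    rcases k with _ | k
    · simp at hk; omega
    · exact hk ▸ dvd_pow_self 3 (Nat.succ_ne_zero k)
  have := D.hq; omega

theorem orderOf_A {a : P} (ha : a ∈ D.A) : orderOf a ∣ D.m := D.card_A ▸ orderOf_dvd_natCard D.A ha

theorem orderOf_U {y : P} (hy : y ∈ D.U) : orderOf y ∣ D.q := D.card_U ▸ orderOf_dvd_natCard D.U hy

theorem orderOf_B {b : P} (hb : b ∈ D.B) : orderOf b ∣ D.q * (2 * D.m - 1) :=
  D.card_B ▸ orderOf_dvd_natCard D.B hb

omit [Finite P] in
theorem orderOf_conj' (x g : P) : orderOf (x⁻¹ * g * x) = orderOf g := by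
  rw [show x⁻¹ * g * x = MulAut.conj x⁻¹ g by simp [MulAut.conj_apply], MulEquiv.orderOf_eq]

theorem A_B_one {x b : P} (hb : b ∈ D.B) (h : x⁻¹ * b * x ∈ D.A) : b = 1 := by
  have h1 := D.orderOf_A h
  rw [orderOf_conj'] at h1
  exact orderOf_eq_one_iff.1 (Nat.eq_one_of_dvd_coprimes D.cop_m_B h1 (D.orderOf_B hb))

theorem U_A_one {x a : P} (ha : a ∈ D.A) (h : x⁻¹ * a * x ∈ D.U) : a = 1 := by
  have h1 := D.orderOf_B (D.U_le_B h)
  rw [orderOf_conj'] at h1
  exact orderOf_eq_one_iff.1 (Nat.eq_one_of_dvd_coprimes D.cop_m_B (D.orderOf_A ha) h1)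

theorem odd_of_mem_A {a : P} (ha : a ∈ D.A) : Odd (orderOf a) := D.hm.of_dvd_nat (D.orderOf_A ha)

theorem odd_of_mem_B {b : P} (hb : b ∈ D.B) : Odd (orderOf b) := by
  refine Odd.of_dvd_nat ?_ (D.orderOf_B hb)
  exact D.q_odd.mul (Nat.odd_iff.2 (by have := D.m_seven; omega))

theorem odd_of_mem_U {y : P} (hy : y ∈ D.U) : Odd (orderOf y) := D.odd_of_mem_B (D.U_le_B hy)

omit [Finite P] in
theorem sq_eq_one_of_odd {x : P} (ho : Odd (orderOf x)) (h : x * x = 1) : x = 1 := by
  obtain ⟨k, hk⟩ := ho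
  have := pow_orderOf_eq_one x
  rw [hk, pow_succ, pow_mul, pow_two, h, one_pow, one_mul] at this
  exact this

theorem B_mem_U_of_conj {x b : P} (hb : b ∈ D.B) (h : x⁻¹ * b * x ∈ D.U) : b ∈ D.U := by
  classical
  have hoq : orderOf b ∣ D.q := orderOf_conj' x b ▸ D.orderOf_U h
  haveI hn : (D.U.subgroupOf D.B).Normal := ⟨fun y hy g => D.U_normal g g.2 y hy⟩
  have hidx : (D.U.subgroupOf D.B).index = 2 * D.m - 1 := by
    have h1 := (D.U.subgroupOf D.B).card_mul_index
    rw [Nat.card_congr (subgroupOfEquivOfLe D.U_le_B).toEquiv, D.card_U, D.card_B] at h1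
    exact Nat.eq_of_mul_eq_mul_left (by have := D.q27; omega) h1
  let π := QuotientGroup.mk' (D.U.subgroupOf D.B)
  have h1 : orderOf (π ⟨b, hb⟩) ∣ D.q :=
    (orderOf_map_dvd π _).trans (by rwa [← Subgroup.orderOf_coe])
  have h2 : orderOf (π ⟨b, hb⟩) ∣ 2 * D.m - 1 := hidx ▸ orderOf_dvd_natCard _
  have h3 := orderOf_eq_one_iff.1 (Nat.eq_one_of_dvd_coprimes D.cop_q_idx h1 h2)
  exact (QuotientGroup.eq_one_iff (⟨b, hb⟩ : D.B)).1 h3

/-- No element conjugates a nontrivial element of `U` to its inverse. -/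
theorem not_inv_U {g y : P} (hy : y ∈ D.U) (hy1 : y ≠ 1) : g * y * g⁻¹ ≠ y⁻¹ := by
  intro h
  have hgB : g ∈ D.B := D.U_ti g y hy hy1 (h ▸ inv_mem hy)
  have h2 : (g * g) * y * (g * g)⁻¹ = y := by
    calc (g * g) * y * (g * g)⁻¹ = g * (g * y * g⁻¹) * g⁻¹ := by group
      _ = g * y⁻¹ * g⁻¹ := by rw [h]
      _ = (g * y * g⁻¹)⁻¹ := conj_inv.symm
      _ = y := by rw [h, inv_inv]
  obtain ⟨k, hk⟩ := D.odd_of_mem_B hgB
  have hc : (g * g) * y = y * (g * g) := mul_inv_eq_iff_eq_mul.1 h2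
  have hg : g ∈ zpowers (g * g) := by
    refine ⟨(k + 1 : ℕ), ?_⟩
    show (g * g) ^ ((k + 1 : ℕ) : ℤ) = g
    rw [zpow_natCast, ← pow_two, ← pow_mul, show 2 * (k + 1) = orderOf g + 1 by omega, pow_succ,
      pow_orderOf_eq_one, one_mul]
  obtain ⟨i, hi⟩ := hg
  have hgy : g * y = y * g := by
    rw [← hi]; exact (Commute.zpow_left hc i).eq
  rw [hgy, mul_inv_cancel_right] at h
  exact hy1 (sq_eq_one_of_odd (D.odd_of_mem_U hy) (by
    calc y * y = y * y⁻¹ := by rw [← h]
      _ = 1 := mul_inv_cancel y))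

/-- The four cosets making up the centraliser of `s`. -/
theorem cent_cases : ∃ u : P, orderOf u = 2 ∧ u * D.s = D.s * u ∧ (∀ a ∈ D.A, u * a * u⁻¹ = a⁻¹) ∧
    ∀ g ∈ centralizer ({D.s} : Set P),
      ∃ a ∈ D.A, g = a ∨ g = D.s * a ∨ g = u * a ∨ g = u * D.s * a := by
  classical
  obtain ⟨u, hu, hus, hinv⟩ := D.A_inv
  refine ⟨u, hu, hus, hinv, ?_⟩
  let f : Fin 4 × D.A → P := fun p => ![1, D.s, u, u * D.s] p.1 * p.2
  have hAC : ∀ a ∈ D.A, a ∈ centralizer ({D.s} : Set P) := fun a ha =>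
    mem_centralizer_singleton_iff.2 (D.A_s a ha).symm
  have hsC : D.s ∈ centralizer ({D.s} : Set P) := mem_centralizer_singleton_iff.2 rfl
  have huC : u ∈ centralizer ({D.s} : Set P) := mem_centralizer_singleton_iff.2 hus
  have hfC : ∀ p, f p ∈ centralizer ({D.s} : Set P) := fun ⟨i, a⟩ => by
    refine mul_mem ?_ (hAC _ a.2)
    fin_cases i <;> simp [one_mem, hsC, huC, mul_mem huC hsC]
  have hsA : D.s ∉ D.A := fun h => by
    have := D.odd_of_mem_A h; rw [D.hs] at this; exact absurd this (by decide)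
  obtain ⟨a0, ha0, ha01⟩ : ∃ a ∈ D.A, a ≠ 1 := by
    haveI : Nontrivial D.A := Finite.one_lt_card_iff_nontrivial.1 (by
      rw [D.card_A]; have := D.m_seven; omega)
    obtain ⟨⟨a, ha⟩, hne⟩ := exists_ne (1 : D.A)
    exact ⟨a, ha, fun e => hne (Subtype.ext e)⟩
  have hcen : ∀ x : P, (∀ a ∈ D.A, x * a = a * x) → x ≠ u ∧ x ≠ u * D.s := by
    intro x hx
    have key : u * a0 * u⁻¹ = a0 → False := fun e => ha01 (sq_eq_one_of_odd (D.odd_of_mem_A ha0) (by
      rw [hinv a0 ha0] at e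
      calc a0 * a0 = a0⁻¹ * a0 := by rw [e]
        _ = 1 := inv_mul_cancel a0))
    refine ⟨fun e => key ?_, fun e => key ?_⟩
    · rw [← e, hx a0 ha0, mul_inv_cancel_right]
    · have h1 := hx a0 ha0
      rw [e, mul_assoc, D.A_s a0 ha0, ← mul_assoc, ← mul_assoc] at h1
      rw [mul_right_cancel h1, mul_inv_cancel_right]
  have hcomA : ∀ b ∈ D.A, ∀ a ∈ D.A, b * a = a * b := fun b hb a ha => D.A_comm b hb a ha
  have hcs : ∀ b ∈ D.A, ∀ a ∈ D.A, (D.s * b) * a = a * (D.s * b) := fun b hb a ha => by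
    rw [mul_assoc, hcomA b hb a ha, ← mul_assoc, D.A_s a ha, mul_assoc]
  have hs2 : D.s * D.s = 1 := by rw [← pow_two, ← D.hs, pow_orderOf_eq_one]
  have hne : ∀ a b : P, a ∈ D.A → b ∈ D.A →
      (1 * a ≠ D.s * b ∧ 1 * a ≠ u * b ∧ 1 * a ≠ u * D.s * b ∧ D.s * a ≠ u * b ∧ D.s * a ≠ u * D.s * b ∧
        u * a ≠ u * D.s * b) := by
    intro a b ha hb
    have hab : a * b⁻¹ ∈ D.A := mul_mem ha (inv_mem hb)
    refine ⟨fun e => ?_, fun e => ?_, fun e => ?_, fun e => ?_, fun e => ?_, fun e => ?_⟩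
    · exact hsA (by rw [one_mul] at e; rwa [e, mul_inv_cancel_right] at hab)
    · exact (hcen _ (hcomA _ hab)).1 (by rw [one_mul] at e; rw [e, mul_inv_cancel_right])
    · exact (hcen _ (hcomA _ hab)).2 (by rw [one_mul] at e; rw [e, mul_inv_cancel_right])
    · exact (hcen _ (hcs _ hab)).1 (by rw [← mul_assoc, e, mul_inv_cancel_right])
    · exact (hcen _ (hcs _ hab)).2 (by rw [← mul_assoc, e, mul_inv_cancel_right])
    · rw [mul_assoc] at e
      exact hsA (by rwa [mul_left_cancel e, mul_inv_cancel_right] at hab)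
  have hinj : Function.Injective f := by
    rintro ⟨i, a, ha⟩ ⟨j, b, hb⟩ e
    obtain ⟨h1, h2, h3, h4, h5, h6⟩ := hne a b ha hb
    obtain ⟨g1, g2, g3, g4, g5, g6⟩ := hne b a hb ha
    fin_cases i <;> fin_cases j <;> simp [f] at e <;>
      first
        | (subst e; rfl)
        | (simp only [mul_assoc, mul_left_cancel_iff] at e; subst e; rfl)
        | exact absurd (by simpa using e) h1 | exact absurd (by simpa using e) h2
        | exact absurd (by simpa using e) h3 | exact absurd (by simpa using e) h4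
        | exact absurd (by simpa using e) h5 | exact absurd (by simpa using e) h6
        | exact absurd (by simpa using e.symm) g1 | exact absurd (by simpa using e.symm) g2
        | exact absurd (by simpa using e.symm) g3 | exact absurd (by simpa using e.symm) g4
        | exact absurd (by simpa using e.symm) g5 | exact absurd (by simpa using e.symm) g6
  let F : Fin 4 × D.A → centralizer ({D.s} : Set P) := fun p => ⟨f p, hfC p⟩
  have hF : Function.Bijective F := (Nat.bijective_iff_injective_and_card F).2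
    ⟨fun p p' e => hinj (congrArg Subtype.val e), by
      rw [Nat.card_prod, Nat.card_fin, D.card_A, D.card_cent]⟩
  intro g hg
  obtain ⟨⟨i, a⟩, he⟩ := hF.2 ⟨g, hg⟩
  have he' : f (i, a) = g := congrArg Subtype.val he
  refine ⟨a, a.2, ?_⟩
  fin_cases i <;> simp [f] at he'
  · exact Or.inl he'.symm
  · exact Or.inr (Or.inl he'.symm)
  · exact Or.inr (Or.inr (Or.inl he'.symm))
  · exact Or.inr (Or.inr (Or.inr he'.symm))

/-- The normaliser of `A` acts by `±1`. -/
theorem A_action {g a : P} (hg : g ∈ centralizer ({D.s} : Set P)) (ha : a ∈ D.A) :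
    g * a * g⁻¹ = a ∨ g * a * g⁻¹ = a⁻¹ := by
  obtain ⟨u, -, -, hinv, hcase⟩ := D.cent_cases
  obtain ⟨b, hb, h | h | h | h⟩ := hcase g hg <;> subst h
  · left; rw [D.A_comm _ hb _ ha, mul_inv_cancel_right]
  · left; rw [mul_assoc D.s, D.A_comm _ hb _ ha, ← mul_assoc, D.A_s a ha, mul_assoc a, mul_inv_cancel_right]
  · right; rw [mul_assoc u, D.A_comm _ hb _ ha, ← mul_assoc, ← hinv a ha]; group
  · right
    rw [mul_assoc (u * D.s), D.A_comm _ hb _ ha, ← mul_assoc, mul_assoc u, D.A_s a ha, ← hinv a ha]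
    group

/-- The number of involutions of `K`. -/
theorem card_inv : 2 * Nat.card {x : P // orderOf x = 2} = D.q * (D.q - 1) := by
  classical
  have e : Nat.card {x : P // orderOf x = 2} = (centralizer ({D.s} : Set P)).index := by
    rw [← card_conjClass_eq_index D.s]
    refine Nat.card_congr (Equiv.subtypeEquivRight fun x => ?_)
    refine ⟨fun h => D.s_conj x h, fun h => ?_⟩
    obtain ⟨c, hc⟩ := isConj_iff.1 h
    rw [← hc, show c * D.s * c⁻¹ = MulAut.conj c D.s from rfl, MulEquiv.orderOf_eq, D.hs]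
  have h := (centralizer ({D.s} : Set P)).card_mul_index
  rw [D.card_cent, D.card_P', ← e] at h
  refine Nat.eq_of_mul_eq_mul_left (show 0 < 2 * D.m by have := D.m_seven; omega) ?_
  calc 2 * D.m * (2 * Nat.card {x : P // orderOf x = 2})
      = 4 * D.m * Nat.card {x : P // orderOf x = 2} := by ring
    _ = 2 * D.m * (D.q * (D.q - 1)) := by rw [h]; ring

/-- The involutions inverting a nontrivial element of `A`. -/
theorem card_inv_A {a : P} (ha : a ∈ D.A) (ha1 : a ≠ 1) :
    Nat.card {x : P // orderOf x = 2 ∧ x * a * x⁻¹ = a⁻¹} = 2 * D.m := by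
  classical
  obtain ⟨u, hu, hus, hinv, hcase⟩ := D.cent_cases
  have hu2 : u * u = 1 := by rw [← pow_two, ← hu, pow_orderOf_eq_one]
  have hs2 : D.s * D.s = 1 := by rw [← pow_two, ← D.hs, pow_orderOf_eq_one]
  have husA : ∀ b ∈ D.A, (u * D.s) * b * (u * D.s)⁻¹ = b⁻¹ := fun b hb => by
    rw [mul_assoc u, D.A_s b hb, ← hinv b hb]; group
  have hv2 : (u * D.s) * (u * D.s) = 1 := by
    calc (u * D.s) * (u * D.s) = u * (D.s * u) * D.s := by group
      _ = (u * u) * (D.s * D.s) := by rw [← hus]; group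
      _ = 1 := by rw [hu2, hs2, one_mul]
  have hne : ¬ a⁻¹ = a := fun e => ha1 (sq_eq_one_of_odd (D.odd_of_mem_A ha) (by
    calc a * a = a⁻¹ * a := by rw [e]
      _ = 1 := inv_mul_cancel a))
  have hsA : D.s ∉ D.A := fun h => by
    have := D.odd_of_mem_A h; rw [D.hs] at this; exact absurd this (by decide)
  have key : ∀ (v : P), v * v = 1 → (∀ b ∈ D.A, v * b * v⁻¹ = b⁻¹) → ∀ b ∈ D.A,
      orderOf (v * b) = 2 ∧ (v * b) * a * (v * b)⁻¹ = a⁻¹ := by
    intro v hv hvi b hb
    have h2 : (v * b) * (v * b) = 1 := by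
      calc (v * b) * (v * b) = (v * b * v⁻¹) * (v * v) * b := by group
        _ = 1 := by rw [hvi b hb, hv, mul_one, inv_mul_cancel]
    have h3 : (v * b) * a * (v * b)⁻¹ = a⁻¹ := by
      rw [mul_assoc v, D.A_comm _ hb _ ha, ← hvi a ha]; group
    refine ⟨orderOf_eq_prime (by rw [pow_two, h2]) fun e => hne ?_, h3⟩
    rw [e, one_mul, inv_one, mul_one] at h3
    exact h3.symm
  let F : Bool × D.A → {x : P // orderOf x = 2 ∧ x * a * x⁻¹ = a⁻¹} := fun p =>
    ⟨(if p.1 then u else u * D.s) * p.2, by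
      cases p.1
      · exact key _ hv2 husA _ p.2.2
      · exact key _ hu2 hinv _ p.2.2⟩
  have hF : Function.Bijective F := by
    constructor
    · rintro ⟨i, b, hb⟩ ⟨j, c, hc⟩ e
      have e' := congrArg Subtype.val e
      cases i <;> cases j <;> simp [F] at e' <;> try (subst e'; rfl)
      · rw [mul_assoc] at e'
        exact absurd (by
          have := mul_mem hc (inv_mem hb); rw [← mul_left_cancel e', mul_inv_cancel_right] at this
          exact this) hsA
      · rw [mul_assoc] at e'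
        exact absurd (by
          have := mul_mem hb (inv_mem hc); rw [mul_left_cancel e', mul_inv_cancel_right] at this
          exact this) hsA
    · rintro ⟨x, hx2, hxa⟩
      obtain ⟨b, hb, h⟩ := hcase x (D.A_ti x a ha ha1 (hxa ▸ inv_mem ha))
      rcases h with h | h | h | h
      · subst h; exact absurd (by rw [← hxa, D.A_comm _ hb _ ha, mul_inv_cancel_right]) hne
      · subst h
        exact absurd (by
          rw [← hxa, mul_assoc D.s, D.A_comm _ hb _ ha, ← mul_assoc, D.A_s a ha, mul_assoc a,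
            mul_inv_cancel_right]) hne
      · exact ⟨(true, ⟨b, hb⟩), Subtype.ext (by simp [F, h])⟩
      · exact ⟨(false, ⟨b, hb⟩), Subtype.ext (by simp [F, h])⟩
  rw [← Nat.card_congr (Equiv.ofBijective F hF), Nat.card_prod, D.card_A, Nat.card_eq_fintype_card,
    Fintype.card_bool]

end KData

end Cfsg.Agent.Char.ReeThree
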