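import Cfsg.Agent.Lib.Char.ReeThree.KRegular
import Cfsg.Agent.Lib.Char.ReeThree.Count
import Cfsg.Agent.Lib.Char.ReeThree.Arith

/-!
# The index of `C(t) = ⟨t⟩ × PSL₂(3^(2n+1))` is a multiple of `3`
-/

set_option autoImplicit false
set_option linter.unusedSectionVars false
set_option linter.style.haveILetI false
set_option maxHeartbeats 1000000

namespace Cfsg.Agent.Char.ReeThree

open Cfsg Subgroup
open scoped ComplexConjugate Classical

universe u

namespace GData

variable {G : Type u} [Group G] (D : GData G)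

/-- The underlying split centraliser. -/
abbrev split : Split G := ⟨D.t, D.K, D.ht, D.hK⟩

/-- An element of `A` as an element of `G`. -/
abbrev emb : D.D.A →* G := D.K.subtype.comp D.D.A.subtype

theorem emb_mem (a : D.D.A) : D.emb a ∈ D.D.A.map D.K.subtype := ⟨a, a.2, rfl⟩

theorem exists_act (a : D.D.A) : ∃ b : D.D.A, D.emb b = D.w * D.emb a * D.w⁻¹ := by
  obtain ⟨b, hb, e⟩ := D.w_norm _ (D.emb_mem a)
  exact ⟨⟨b, hb⟩, e⟩

theorem emb_inj {a b : D.D.A} (h : D.emb a = D.emb b) : a = b := Subtype.ext (Subtype.ext h)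

/-- The action of `w` on `A`. -/
noncomputable def act : D.D.A →* D.D.A where
  toFun a := (D.exists_act a).choose
  map_one' := D.emb_inj (by rw [(D.exists_act 1).choose_spec, map_one, mul_one, mul_inv_cancel])
  map_mul' a b := D.emb_inj (((D.exists_act (a * b)).choose_spec).trans (by
    rw [map_mul D.emb (D.exists_act a).choose, (D.exists_act a).choose_spec, (D.exists_act b).choose_spec,
      map_mul D.emb a b]
    group))

theorem emb_act (a : D.D.A) : D.emb (D.act a) = D.w * D.emb a * D.w⁻¹ := (D.exists_act a).choose_spec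

theorem act_three (a : D.D.A) : D.act (D.act (D.act a)) = a := by
  apply D.emb_inj
  rw [D.emb_act, D.emb_act, D.emb_act]
  calc D.w * (D.w * (D.w * D.emb a * D.w⁻¹) * D.w⁻¹) * D.w⁻¹ = D.w ^ 3 * D.emb a * (D.w ^ 3)⁻¹ := by
        simp only [pow_succ, pow_zero, one_mul]; group
    _ = D.emb a := by rw [D.w_three _ (D.emb_mem a), mul_inv_cancel_right]

theorem act_bijective : Function.Bijective D.act :=
  ⟨fun a b h => by rw [← D.act_three a, ← D.act_three b, h], fun a => ⟨D.act (D.act a), D.act_three a⟩⟩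

theorem exists_theta [Finite G] : ∃ θ : D.D.A →* ℂˣ, θ.comp D.act ≠ θ := by
  obtain ⟨g, hg, hgne⟩ := D.w_move
  obtain ⟨a, ha, rfl⟩ := hg
  have hne : D.act ⟨a, ha⟩ * (⟨a, ha⟩ : D.D.A)⁻¹ ≠ 1 := by
    intro e
    apply hgne
    have e' := congrArg D.emb (mul_inv_eq_one.1 e)
    rw [D.emb_act] at e'
    exact mul_inv_eq_iff_eq_mul.1 e'
  letI : CommGroup D.D.A :=
    { (inferInstance : Group D.D.A) with mul_comm := fun a b => Subtype.ext (D.D.A_comm a a.2 b b.2) }
  haveI : NeZero (Monoid.exponent D.D.A) := ⟨Monoid.exponent_ne_zero_of_finite⟩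
  obtain ⟨θ, hθ⟩ := CommGroup.exists_apply_ne_one_of_hasEnoughRootsOfUnity D.D.A ℂ hne
  refine ⟨θ, fun e => hθ ?_⟩
  rw [map_mul, map_inv, mul_inv_eq_one]
  exact DFunLike.congr_fun e _

/-- The multiplicities on `⟨t⟩ × A`. -/
theorem exists_mult [Fintype G] {χ : G → ℂ} (hχ : IsCharacter G χ) (θ : D.D.A →* ℂˣ) :
    ∃ n n' : ℤ, (D.D.m : ℂ)⁻¹ * ∑ a : D.D.A, (θ a : ℂ) * conj (χ (D.emb a)) = n + n' ∧
      (D.D.m : ℂ)⁻¹ * ∑ a : D.D.A, (θ a : ℂ) * conj (χ (D.t * D.emb a)) = n - n' := by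
  let inv : ℤˣ →* G :=
    { toFun := fun u => if u = 1 then 1 else D.t
      map_one' := if_pos rfl
      map_mul' := fun u v => by
        rcases Int.units_eq_one_or u with rfl | rfl <;> rcases Int.units_eq_one_or v with rfl | rfl <;>
          simp [D.split.sq_t] }
  have hc : ∀ (a : D.D.A) (u : ℤˣ), Commute (D.emb a) (inv u) := fun a u => by
    rcases Int.units_eq_one_or u with rfl | rfl
    · show Commute _ (if (1 : ℤˣ) = 1 then (1 : G) else D.t)
      simp
    · show Commute _ (if (-1 : ℤˣ) = 1 then (1 : G) else D.t)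
      simp only [show ¬ (-1 : ℤˣ) = 1 by decide, if_false]
      exact D.split.comm_t ((a : D.K)).2
  let φ : D.D.A × ℤˣ →* G := MonoidHom.noncommCoprod D.emb inv hc
  let sgn : ℤˣ →* ℂˣ := Units.map (Int.castRingHom ℂ).toMonoidHom
  let l1 : D.D.A × ℤˣ →* ℂˣ := θ.comp (MonoidHom.fst _ _)
  let l2 : D.D.A × ℤˣ →* ℂˣ := l1 * sgn.comp (MonoidHom.snd _ _)
  obtain ⟨n, hn⟩ := classInner_natCast (isCharacter_linear l1) (isCharacter_comp φ hχ)
  obtain ⟨n', hn'⟩ := classInner_natCast (isCharacter_linear l2) (isCharacter_comp φ hχ)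
  have hcard : (Nat.card (D.D.A × ℤˣ) : ℂ) = 2 * D.D.m := by
    rw [Nat.card_prod, D.D.card_A, Nat.card_eq_fintype_card, show Fintype.card ℤˣ = 2 from rfl]
    push_cast; ring
  have hu : ∀ f : ℤˣ → ℂ, ∑ u, f u = f 1 + f (-1) := fun f => by
    rw [show (Finset.univ : Finset ℤˣ) = {1, -1} from rfl, Finset.sum_pair (by decide)]
  simp only [classInner, hcard, Fintype.sum_prod_type, hu] at hn hn'
  simp only [l1, l2, φ, inv, sgn, Function.comp_apply, MonoidHom.noncommCoprod_apply, MonoidHom.mul_apply, MonoidHom.comp_apply,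
    MonoidHom.coe_fst, MonoidHom.coe_snd, MonoidHom.coe_mk, OneHom.coe_mk, Units.val_mul, if_true,
    show ¬ (-1 : ℤˣ) = 1 by decide, if_false, mul_one, map_one, Units.val_one] at hn hn'
  have hcomm : ∀ a : D.D.A, D.emb a * D.t = D.t * D.emb a := fun a => D.split.comm_t ((a : D.K)).2
  simp only [emb, MonoidHom.comp_apply] at hcomm ⊢
  simp only [hcomm, Units.coe_map, Units.val_neg, Units.val_one, RingHom.toMonoidHom_eq_coe, MonoidHom.coe_coe,
    eq_intCast, Int.cast_neg, Int.cast_one, mul_neg, mul_one, neg_mul, Finset.sum_add_distrib,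
    Finset.sum_neg_distrib] at hn hn'
  have hm0 : (D.D.m : ℂ) ≠ 0 := Nat.cast_ne_zero.2 (by have := D.D.m_seven; omega)
  refine ⟨n, n', ?_, ?_⟩ <;>
  · push_cast
    rw [← hn, ← hn']
    field_simp
    ring

theorem parity [Fintype G] {χ : G → ℂ} (hχ : IsCharacter G χ) (θ : D.D.A →* ℂˣ) :
    ∃ k : ℤ, classInner (D.split.lift (D.D.Phi (θ.comp D.act))) χ - classInner (D.split.lift (D.D.Phi θ)) χ =
      2 * (k : ℂ) := by
  have hcl := isClassFunction_character hχ
  have hr : IsClassFunction D.K (fun z => χ (D.t * z)) := fun z h => by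
    show χ (D.t * ((h * z * h⁻¹ : D.K) : G)) = χ (D.t * z)
    rw [← hcl (D.t * (z : G)) (h : G)]
    congr 1
    rw [Subgroup.coe_mul, Subgroup.coe_mul, Subgroup.coe_inv, ← mul_assoc, ← mul_assoc,
      show D.t * (h : G) = (h : G) * D.t from (D.split.comm_t h.2).symm]
    group
  have e : ∀ θ' : D.D.A →* ℂˣ, classInner (D.split.lift (D.D.Phi θ')) χ =
      2 * classInner D.D.Lam (fun z : D.K => χ (D.t * z)) -
        (D.D.m : ℂ)⁻¹ * ∑ a : D.D.A, (θ' a : ℂ) * conj (χ (D.t * D.emb a)) := by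
    intro θ'
    rw [D.split.inner_lift _ hcl]
    have h1 : classInner (D.D.Phi θ') (fun z : D.K => χ (D.t * z)) =
        (Nat.card D.K : ℂ)⁻¹ * ∑ z : D.K, D.D.Phi θ' z * conj (χ (D.t * z)) := rfl
    rw [← h1, KData.Phi, classInner_sub_left, classInner_smul_left, KData.indA, frobenius _ _ hr]
    simp only [classInner, D.D.card_A]
    rfl
  obtain ⟨n1, n1', a1, b1⟩ := D.exists_mult hχ θ
  obtain ⟨n2, n2', a2, b2⟩ := D.exists_mult hχ (θ.comp D.act)
  have hs : ∑ a : D.D.A, ((θ.comp D.act) a : ℂ) * conj (χ (D.emb a)) =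
      ∑ a : D.D.A, (θ a : ℂ) * conj (χ (D.emb a)) :=
    Fintype.sum_bijective D.act D.act_bijective _ _ fun a => by
      rw [D.emb_act, hcl]; rfl
  rw [hs, a1] at a2
  refine ⟨n1 - n2, ?_⟩
  rw [e, e, b1, b2]
  push_cast
  linear_combination (-1 : ℂ) * a2

/-- The conclusion. -/
theorem three_dvd_index [Finite G] : 3 ∣ (centralizer ({D.t} : Set G)).index := by
  haveI := Fintype.ofFinite G
  haveI : Fintype D.D.BHom := by haveI := D.D.finite_BHom; exact Fintype.ofFinite _
  haveI : Fintype (D.D.A →* ℂˣ) := by haveI := finite_hom_units D.D.A; exact Fintype.ofFinite _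
  set S := D.split with hS
  set P := D.D
  let F : P.BHom ⊕ (P.A →* ℂˣ) → (D.K → ℂ) := Sum.elim (fun μ => indFun P.B (fun b => (μ.1 b : ℂ))) P.Phi
  have hgenF : ∀ i, IsGeneralizedCharacter D.K (F i) := by
    rintro (μ | θ)
    · exact ⟨_, 0, isCharacter_indFun _ (isCharacter_linear μ.1), isCharacter_zero, (sub_zero _).symm⟩
    · exact P.gen_Phi θ
  have hclF : ∀ i, IsClassFunction D.K (F i) := by
    rintro (μ | θ)
    · exact isClassFunction_indFun _ _
    · exact P.isClassFunction_Phi θ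
  have hoddF : ∀ i (z : D.K), ¬ Odd (orderOf z) → F i z = 0 := by
    rintro (μ | θ) z hz
    · exact P.indB_even_zero _ hz
    · exact P.even_order_eq_zero θ hz
  choose z hz hzc using fun i => exists_int_coords (S.gen_lift (hgenF i))
  let deg' : IrrCharacter G → ℕ := fun χ => deg (χ : G → ℂ)
  have hd : ∀ χ : IrrCharacter G, (χ : G → ℂ) 1 = (deg' χ : ℂ) := fun χ => char_one_eq_deg (irr_isCharacter χ.2)
  have hgram : ∀ i j, ((∑ χ, z i χ * z j χ : ℤ) : ℂ) = 2 * classInner (F i) (F j) := by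
    intro i j
    rw [← S.isometry (hclF j) (hoddF j) (F i) (hoddF i)]
    conv_rhs => rw [hz i, classInner_sum_left]
    push_cast
    refine Finset.sum_congr rfl fun χ _ => ?_
    rw [classInner_smul_left, ← classInner_symm, hzc, map_intCast]
  have hdeg : ∀ i, ∑ χ, z i χ * (deg' χ : ℤ) = 0 := by
    intro i
    have h := S.lift_one (F i)
    rw [hz i, Finset.sum_apply] at h
    simp only [Pi.smul_apply, smul_eq_mul, hd] at h
    exact_mod_cast h
  have hPhi : ∀ θ θ' : P.A →* ℂˣ, ∑ χ, z (.inr θ) χ * z (.inr θ') χ =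
      4 * ((if θ = θ' then 1 else 0) + (if θ * θ' = 1 then 1 else 0)) := by
    intro θ θ'
    have h := hgram (.inr θ) (.inr θ')
    simp only [F, Sum.elim_inr, P.inner_Phi] at h
    apply Int.cast_injective (α := ℂ)
    rw [h]
    split_ifs <;> push_cast <;> ring
  have hB : ∀ (μ : P.BHom) (θ : P.A →* ℂˣ), ∑ χ, z (.inr θ) χ * z (.inl μ) χ = 0 := by
    intro μ θ
    have h := hgram (.inl μ) (.inr θ)
    simp only [F, Sum.elim_inl, Sum.elim_inr, P.inner_indB_Phi μ.1 (fun b hb => μ.2 (mem_subgroupOf.2 hb)) θ,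
      mul_zero] at h
    have h' : ∑ χ, z (.inl μ) χ * z (.inr θ) χ = 0 := by exact_mod_cast h
    rw [← h']
    exact Finset.sum_congr rfl fun χ _ => mul_comm _ _
  have hBn : ∀ μ : P.BHom, ∑ χ, z (.inl μ) χ ^ 2 ≤ 4 := by
    intro μ
    obtain ⟨r, hr, he⟩ := P.norm_indB μ.1
    have h := hgram (.inl μ) (.inl μ)
    simp only [F, Sum.elim_inl, he] at h
    have h' : (((∑ χ, z (.inl μ) χ * z (.inl μ) χ : ℤ) : ℝ) : ℂ) = ((2 * r : ℝ) : ℂ) := by
      push_cast
      push_cast at h
      exact h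
    have h'' : ((∑ χ, z (.inl μ) χ * z (.inl μ) χ : ℤ) : ℝ) ≤ ((4 : ℤ) : ℝ) := by
      rw [Complex.ofReal_injective h']; push_cast; linarith
    simp only [pow_two]
    exact_mod_cast h''
  -- the three characters of `A`
  obtain ⟨θ, hθ⟩ := D.exists_theta
  set s : (P.A →* ℂˣ) → (P.A →* ℂˣ) := fun φ => φ.comp D.act with hs
  have hs3 : ∀ φ, s (s (s φ)) = φ := fun φ => MonoidHom.ext fun a => congrArg φ (D.act_three a)
  let T : Fin 3 → (P.A →* ℂˣ) := ![θ, s θ, s (s θ)]
  have hTs : ∀ k, s (T k) = T (k + 1) := by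
    intro k; fin_cases k
    · rfl
    · rfl
    · exact hs3 θ
  have hT0 : ∀ k, s (T k) ≠ T k := by
    intro k e; fin_cases k
    · exact hθ e
    · have := congrArg (fun φ => s (s φ)) e
      simp only [T, Fin.mk_one, Matrix.cons_val_one, Matrix.cons_val_zero, hs3] at this
      exact hθ this
    · have := congrArg s e
      simp [T, hs3] at this
      exact hθ this
  have hsq : ∀ φ : P.A →* ℂˣ, φ * φ = 1 → φ = 1 := fun φ e => MonoidHom.ext fun a => by
    obtain ⟨k, hk⟩ := P.odd_of_mem_A a.2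
    have h1 : φ a * φ a = 1 := DFunLike.congr_fun e a
    have h2 : φ a ^ orderOf (a : D.K) = 1 := by
      rw [← map_pow, Subgroup.orderOf_coe, pow_orderOf_eq_one, map_one]
    rw [hk, pow_succ, pow_mul, pow_two, h1, one_pow, one_mul] at h2
    exact h2
  have hm1 : ∀ φ : P.A →* ℂˣ, φ * 1 = φ := fun φ => MonoidHom.ext fun a => mul_one (φ a)
  have h1m : ∀ φ : P.A →* ℂˣ, 1 * φ = φ := fun φ => MonoidHom.ext fun a => one_mul (φ a)
  have hmc : ∀ φ ψ : P.A →* ℂˣ, φ * ψ = ψ * φ := fun φ ψ => MonoidHom.ext fun a => mul_comm (φ a) (ψ a)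
  have hT1 : ∀ k, T k ≠ 1 := fun k e => hT0 k (by rw [e, hs]; rfl)
  have hTinv : ∀ k, T k * s (T k) ≠ 1 := by
    intro k e
    apply hT0 k
    have e1 : ∀ a, T k a * s (T k) a = 1 := fun a => DFunLike.congr_fun e a
    refine MonoidHom.ext fun a => ?_
    have h1 := e1 a
    have h2 := e1 (D.act a)
    have h3 := e1 (D.act (D.act a))
    simp only [hs, MonoidHom.comp_apply, D.act_three] at h1 h2 h3 ⊢
    rw [eq_inv_of_mul_eq_one_right h1]
    rw [eq_inv_of_mul_eq_one_right h2, eq_inv_of_mul_eq_one_right h1, inv_inv] at h3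
    exact (eq_inv_of_mul_eq_one_right h3).symm
  have hkl : ∀ k l, k ≠ l → T k ≠ T l ∧ T k * T l ≠ 1 := by
    intro k l h
    rcases (show l = k + 1 ∨ k = l + 1 by revert k l; decide) with rfl | rfl
    · exact ⟨fun e => hT0 k ((hTs k).trans e.symm), fun e => hTinv k (hTs k ▸ e)⟩
    · exact ⟨fun e => hT0 l ((hTs l).trans e), fun e => hTinv l (by rw [hTs, hmc]; exact e)⟩
  let d : Fin 3 → IrrCharacter G → ℤ := fun k => z (.inr (T k))
  have hpar : ∀ (φ : P.A →* ℂˣ) χ, (2 : ℤ) ∣ z (.inr (s φ)) χ - z (.inr φ) χ := by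
    intro φ χ
    obtain ⟨k, hk⟩ := D.parity (irr_isCharacter χ.2) φ
    refine ⟨k, ?_⟩
    have a := hzc (.inr (s φ)) χ
    have b := hzc (.inr φ) χ
    simp only [F, Sum.elim_inr, hs] at a b
    rw [a, b] at hk
    exact_mod_cast hk
  have hTriple : Triple deg' d :=
    { pos := fun χ => deg_pos χ.2
      norm := fun k => by
        have h := hPhi (T k) (T k)
        rw [if_pos rfl, if_neg fun e => hT1 k (hsq _ e)] at h
        simpa [d, pow_two] using h
      degree := fun k => hdeg _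
      orth := fun k l h => by
        have h' := hPhi (T k) (T l)
        rw [if_neg (hkl k l h).1, if_neg (hkl k l h).2] at h'
        simpa [d] using h'
      parity := fun k χ => by
        have p0 := hpar θ χ
        have p1 := hpar (s θ) χ
        fin_cases k
        · simp [d]
        · simpa [d, T] using p0
        · simp only [d, T]
          simpa using Int.dvd_add p1 p0 }
  -- values at `t`
  let v : IrrCharacter G → ℤ := fun χ =>
    (2 * P.m : ℕ) * ∑ μ : P.BHom, z (.inl μ) χ + (2 * P.m - 1 : ℕ) * ∑ φ : P.A →* ℂˣ, z (.inr φ) χ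
  have hval : ∀ χ : IrrCharacter G, (χ : G → ℂ) D.t = (v χ : ℂ) := by
    intro χ
    have hcl := isClassFunction_character (irr_isCharacter χ.2)
    have hK0 : (Nat.card D.K : ℂ) ≠ 0 := Nat.cast_ne_zero.2 Nat.card_pos.ne'
    have key : (v χ : ℂ) = conj ((χ : G → ℂ) D.t) := by
      simp only [v, Int.cast_add, Int.cast_mul, Int.cast_natCast, Int.cast_sum, ← hzc, S.inner_lift _ hcl,
        F, Sum.elim_inl, Sum.elim_inr, ← Finset.mul_sum]
      rw [Finset.sum_comm, Finset.sum_comm (γ := P.A →* ℂˣ)]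
      simp only [← Finset.sum_mul]
      rw [← mul_assoc, ← mul_assoc, mul_comm _ (Nat.card D.K : ℂ)⁻¹, mul_comm _ (Nat.card D.K : ℂ)⁻¹,
        mul_assoc, mul_assoc, ← mul_add, Finset.mul_sum, Finset.mul_sum, ← Finset.sum_add_distrib]
      have hg : ∀ g : D.K, ((2 * P.m : ℕ) : ℂ) *
            ((∑ μ : P.BHom, indFun P.B (fun b => (μ.1 b : ℂ)) g) * conj ((χ : G → ℂ) (S.t * g))) +
          ((2 * P.m - 1 : ℕ) : ℂ) * ((∑ φ : P.A →* ℂˣ, P.Phi φ g) * conj ((χ : G → ℂ) (S.t * g))) =
          if g = 1 then (Nat.card D.K : ℂ) * conj ((χ : G → ℂ) D.t) else 0 := by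
        intro g
        rw [← mul_assoc, ← mul_assoc, ← add_mul, P.regular g]
        split_ifs with hg
        · subst hg; simp [hS]
        · rw [zero_mul]
      rw [Finset.sum_congr rfl fun g _ => hg g, Finset.sum_ite_eq', if_pos (Finset.mem_univ _), ← mul_assoc,
        inv_mul_cancel₀ hK0, one_mul]
    have := congrArg conj key
    rw [Complex.conj_conj, map_intCast] at this
    exact this.symm
  -- the values on the support
  let e : IrrCharacter G → ℤ := z (.inr 1)
  have hsupp : ∀ χ, d 0 χ ≠ 0 →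
      v χ = (2 * P.m - 1 : ℕ) * (e χ + 2 * (d 0 χ + d 1 χ + d 2 χ)) := by
    intro χ hχ
    have hB0 : ∀ μ : P.BHom, z (.inl μ) χ = 0 := fun μ =>
      hTriple.supp_zero _ (hBn μ) (hdeg _) (fun k => hB μ (T k)) hχ
    have hA : ∀ φ : P.A →* ℂˣ, z (.inr φ) χ = (if φ = 1 then e χ else 0) +
        ∑ k, ((if φ = T k then d k χ else 0) + (if φ * T k = 1 then d k χ else 0)) := by
      intro φ
      by_cases h1 : φ = 1
      · subst h1
        rw [if_pos rfl, Finset.sum_eq_zero fun k _ => by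
          rw [if_neg (Ne.symm (hT1 k)), if_neg (by rw [h1m]; exact hT1 k), add_zero], add_zero]
      · rw [if_neg h1, zero_add]
        by_cases h2 : ∃ k, φ = T k ∨ φ * T k = 1
        · obtain ⟨k, hk⟩ := h2
          have hN : ∀ l, l ≠ k → φ ≠ T l ∧ φ * T l ≠ 1 := by
            intro l hl
            rcases hk with rfl | hk
            · exact hkl k l (Ne.symm hl)
            · have hphi : ∀ a, φ a = (T k a)⁻¹ := fun a => eq_inv_of_mul_eq_one_left (DFunLike.congr_fun hk a)
              refine ⟨fun h => (hkl l k hl).2 ?_, fun h => (hkl l k hl).1 ?_⟩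
              · rw [← h]; exact hk
              · exact MonoidHom.ext fun a =>
                  (mul_left_cancel ((DFunLike.congr_fun h a).trans (DFunLike.congr_fun hk a).symm))
          rw [Finset.sum_eq_single k (fun l _ hl => by rw [if_neg (hN l hl).1, if_neg (hN l hl).2, add_zero])
            (fun h => absurd (Finset.mem_univ k) h)]
          have hnot : ¬ (φ = T k ∧ φ * T k = 1) := by
            rintro ⟨rfl, h⟩; exact hT1 k (hsq _ h)
          rcases hk with rfl | hk
          · rw [if_pos rfl, if_neg (fun h => hnot ⟨rfl, h⟩), add_zero]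
          · rw [if_neg (fun h => hnot ⟨h, hk⟩), if_pos hk, zero_add]
            have a := hPhi φ φ
            have b := hPhi φ (T k)
            have c := hPhi (T k) (T k)
            rw [if_pos rfl, if_neg (fun e' => h1 (hsq _ e'))] at a
            rw [if_neg (fun h => hnot ⟨h, hk⟩), if_pos hk] at b
            rw [if_pos rfl, if_neg (fun e' => hT1 k (hsq _ e'))] at c
            have h0 : ∑ χ, (z (.inr φ) χ - z (.inr (T k)) χ) ^ 2 = 0 := by
              rw [Finset.sum_congr rfl (g := fun χ => z (.inr φ) χ * z (.inr φ) χ -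
                2 * (z (.inr φ) χ * z (.inr (T k)) χ) + z (.inr (T k)) χ * z (.inr (T k)) χ) fun χ _ => by ring,
                Finset.sum_add_distrib, Finset.sum_sub_distrib, ← Finset.mul_sum, a, b, c]
              norm_num
            have := (Finset.sum_eq_zero_iff_of_nonneg fun χ _ => sq_nonneg _).1 h0 χ (Finset.mem_univ χ)
            have := sq_eq_zero_iff.1 this
            show z (.inr φ) χ = z (.inr (T k)) χ
            linarith
        · push Not at h2
          rw [Finset.sum_eq_zero fun k _ => by rw [if_neg (h2 k).1, if_neg (h2 k).2, add_zero]]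
          refine hTriple.supp_zero _ ?_ (hdeg _) (fun k => ?_) hχ
          · have a := hPhi φ φ
            rw [if_pos rfl, if_neg (fun e' => h1 (hsq _ e'))] at a
            simp only [pow_two, a]; norm_num
          · have a := hPhi (T k) φ
            rw [if_neg (Ne.symm (h2 k).1), if_neg (by rw [hmc]; exact (h2 k).2)] at a
            simpa [d] using a
    simp only [v, hB0, Finset.sum_const_zero, mul_zero, zero_add]
    congr 1
    rw [Finset.sum_congr rfl fun φ _ => hA φ, Finset.sum_add_distrib, Finset.sum_comm,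
      Finset.sum_ite_eq', if_pos (Finset.mem_univ _), Fin.sum_univ_three]
    have hinv : ∀ k, ∑ φ : P.A →* ℂˣ, (if φ * T k = 1 then d k χ else 0) = d k χ := fun k => by
      have hiff : ∀ φ : P.A →* ℂˣ, φ * T k = 1 ↔ φ = (T k)⁻¹ := fun φ => by
        refine ⟨fun h => MonoidHom.ext fun a => eq_inv_of_mul_eq_one_left (DFunLike.congr_fun h a), ?_⟩
        rintro rfl
        exact MonoidHom.ext fun a => inv_mul_cancel (T k a)
      simp [hiff]
    simp only [Finset.sum_add_distrib, hinv, Finset.sum_ite_eq', Finset.mem_univ, if_true]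
    ring
  have hen : ∑ χ, e χ ^ 2 ≤ 8 := by
    have h := hPhi 1 1
    rw [if_pos rfl, if_pos (h1m 1)] at h
    simp only [e, pow_two, h]; norm_num
  have heo : ∀ k, ∑ χ, d k χ * e χ = 0 := fun k => by
    have h := hPhi (T k) 1
    rw [if_neg (hT1 k), if_neg (by rw [hm1]; exact hT1 k)] at h
    simpa [d, e] using h
  -- the class algebra equation
  set I := (centralizer ({D.t} : Set G)).index
  have hq1 : P.q = 2 * (2 * P.m - 1) + 1 := by have := P.hq; have := P.m_seven; omega
  have hqk : ∃ k, 2 ≤ k ∧ P.q = 3 ^ k := by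
    obtain ⟨k, hk⟩ := P.hpow
    refine ⟨k, ?_, hk⟩
    by_contra hlt
    have := P.q27
    rw [hk] at this
    interval_cases k <;> norm_num at this
  refine hTriple.three_dvd v e hen heo hsupp hq1 hqk ?_
  have hpair := S.pair_equation D.hconj (F (.inr θ))
  have hsum : ∑ a : G, ∑ b : G, S.lift (F (.inr θ)) (a * D.t * a⁻¹ * (b * D.t * b⁻¹)) =
      (Nat.card G : ℂ) ^ 2 * ∑ χ : IrrCharacter G, (d 0 χ : ℂ) * (v χ : ℂ) ^ 2 / (deg' χ : ℂ) := by
    rw [hz (.inr θ)]
    simp only [Finset.sum_apply, Pi.smul_apply, smul_eq_mul]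
    rw [Finset.sum_congr rfl fun a _ => Finset.sum_comm, Finset.sum_comm, Finset.mul_sum]
    refine Finset.sum_congr rfl fun χ _ => ?_
    simp only [← Finset.mul_sum, sum_pair_irr, hval, hd]
    show _ = _ * ((d 0 χ : ℂ) * _ / _)
    simp only [d, T, Matrix.cons_val_zero]
    ring
  have hcnt := P.inner_Phi_count (θ := θ) (hT1 0) (r := fun g : D.K => ((pairs (D.t * (g : G)) : ℕ) : ℂ))
    (fun g h => by
      show ((pairs (D.t * ((h * g * h⁻¹ : D.K) : G)) : ℕ) : ℂ) = _
      have h1 : (h : G) * (D.t * g) * (h : G)⁻¹ = D.t * ((h * g * h⁻¹ : D.K) : G) := by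
        rw [← mul_assoc (h : G), D.split.comm_t h.2]
        simp [mul_assoc]
      rw [← h1, pairs_class])
    (by exact_mod_cast S.pairs_t P)
    (fun y hy hy1 => by
      have e0 : pairs (D.t * (y : G)) = 0 := S.pairs_U P hy hy1
      simp [e0])
    (fun a ha => by
      have e0 : pairs (D.t * ((a : D.K) : G)) = 4 * P.m := S.pairs_A P a.2 fun e' => ha (Subtype.ext e')
      simp [e0])
  simp only [classInner, map_natCast] at hcnt
  have hK0 : (Nat.card D.K : ℂ) ≠ 0 := Nat.cast_ne_zero.2 Nat.card_pos.ne'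
  rw [mul_assoc, mul_comm _ (Nat.card D.K : ℂ), ← mul_assoc, inv_mul_cancel₀ hK0, one_mul] at hcnt
  rw [hsum] at hpair
  simp only [F, Sum.elim_inr] at hpair
  rw [hcnt] at hpair
  have hG : (Nat.card G : ℂ) = 2 * (Nat.card D.K : ℂ) * (I : ℂ) := by
    have h1 := (centralizer ({D.t} : Set G)).card_mul_index
    rw [show Nat.card (centralizer ({D.t} : Set G)) = 2 * Nat.card D.K from S.card_C] at h1
    exact_mod_cast h1.symm
  rw [show (Nat.card S.C : ℂ) = 2 * (Nat.card D.K : ℂ) by exact_mod_cast S.card_C] at hpair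
  have hG0 : (Nat.card G : ℂ) ≠ 0 := Nat.cast_ne_zero.2 Nat.card_pos.ne'
  apply (Rat.cast_injective (α := ℂ))
  have hq2 : ((4 * P.q ^ 2 * (P.q - 1) : ℕ) : ℂ) = 4 * (P.q : ℂ) ^ 2 * (2 * ((2 * P.m - 1 : ℕ) : ℂ)) := by
    rw [show P.q - 1 = 2 * (2 * P.m - 1) by omega]; push_cast; ring
  rw [hq2] at hpair
  push_cast
  have h2 := mul_left_cancel₀ hG0 (by rw [pow_two, mul_assoc] at hpair; rw [hpair, mul_assoc] :
    (Nat.card G : ℂ) * ((Nat.card G : ℂ) * ∑ χ : IrrCharacter G, (d 0 χ : ℂ) * (v χ : ℂ) ^ 2 / (deg' χ : ℂ)) =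
      (Nat.card G : ℂ) * ((2 * (Nat.card D.K : ℂ)) ^ 2 *
        ((Nat.card D.K : ℂ)⁻¹ * (4 * (P.q : ℂ) ^ 2 * (2 * ((2 * P.m - 1 : ℕ) : ℂ))))))
  rw [hG] at h2
  field_simp at h2
  refine mul_left_cancel₀ (show (2 : ℂ) * (Nat.card D.K : ℂ) ≠ 0 from mul_ne_zero two_ne_zero hK0) ?_
  linear_combination (2 * (Nat.card D.K : ℂ)) * h2

end GData

end Cfsg.Agent.Char.ReeThree
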