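import Cfsg.Agent.Lib.Char.ReeThree.Data
import Cfsg.Agent.Lib.Classical.Dickson.Tools
import Cfsg.Agent.Lib.Classical.SL2FourSylow

/-!
# The data of `PSL₂(q)`, `q = 3^(2n+1)`
-/

set_option autoImplicit false
set_option linter.unusedSectionVars false

namespace Cfsg.Agent.Char.ReeThree

open Cfsg.Agent.Small Cfsg.Agent.Small.SL2C

universe u v

/-- Transport of the data. -/
def KData.transport {P : Type u} {P' : Type v} [Group P] [Group P'] (e : P ≃* P') (D : KData P') : KData P where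
  q := D.q
  m := D.m
  U := D.U.comap e.toMonoidHom
  B := D.B.comap e.toMonoidHom
  A := D.A.comap e.toMonoidHom
  s := e.symm D.s
  hq := D.hq
  hpow := D.hpow
  q27 := D.q27
  hm := D.hm
  h3 := D.h3
  h5 := D.h5
  card_P := by rw [Nat.card_congr e.toEquiv]; exact D.card_P
  U_le_B := Subgroup.comap_mono D.U_le_B
  card_U := (Nat.card_congr (Equiv.subtypeEquiv e.toEquiv fun _ => Iff.rfl)).trans D.card_U
  card_B := (Nat.card_congr (Equiv.subtypeEquiv e.toEquiv fun _ => Iff.rfl)).trans D.card_B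
  U_comm x hx y hy := e.injective (by rw [map_mul, map_mul]; exact D.U_comm _ hx _ hy)
  U_normal b hb y hy := by
    rw [Subgroup.mem_comap, map_mul, map_mul, map_inv]
    exact D.U_normal _ hb _ hy
  B_comm a ha b hb := by
    rw [Subgroup.mem_comap, map_mul, map_mul, map_mul, map_inv, map_inv]
    exact D.B_comm _ ha _ hb
  U_ti g y hy hy1 h := by
    refine D.U_ti (e g) (e y) hy (fun h1 => hy1 (e.injective (h1.trans (map_one e).symm))) ?_
    rw [Subgroup.mem_comap, map_mul, map_mul, map_inv] at h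
    exact h
  U_cent g y hy hy1 h :=
    D.U_cent (e g) (e y) hy (fun h1 => hy1 (e.injective (h1.trans (map_one e).symm)))
      (by rw [← map_mul, h, map_mul])
  hs := by rw [MulEquiv.orderOf_eq, D.hs]
  s_conj x hx := by
    obtain ⟨c, hc⟩ := isConj_iff.1 (D.s_conj (e x) (by rw [MulEquiv.orderOf_eq, hx]))
    exact isConj_iff.2 ⟨e.symm c, e.injective (by simpa using hc)⟩
  card_cent := by
    rw [← D.card_cent]
    refine Nat.card_congr (Equiv.subtypeEquiv e.toEquiv fun x => ?_)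
    rw [Subgroup.mem_centralizer_singleton_iff, Subgroup.mem_centralizer_singleton_iff]
    exact ⟨fun h => by simpa using congrArg e h, fun h => e.injective (by simpa using h)⟩
  card_A := (Nat.card_congr (Equiv.subtypeEquiv e.toEquiv fun _ => Iff.rfl)).trans D.card_A
  A_comm x hx y hy := e.injective (by rw [map_mul, map_mul]; exact D.A_comm _ hx _ hy)
  A_s a ha := e.injective (by rw [map_mul, map_mul, e.apply_symm_apply]; exact D.A_s _ ha)
  A_inv := by
    obtain ⟨u, hu, hus, hinv⟩ := D.A_inv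
    refine ⟨e.symm u, by rw [MulEquiv.orderOf_eq, hu], by rw [← map_mul, hus, map_mul], fun a ha => e.injective ?_⟩
    rw [map_mul, map_mul, map_inv, map_inv, e.apply_symm_apply]
    exact hinv _ ha
  A_ti g a ha ha1 h := by
    have h' := D.A_ti (e g) (e a) ha (fun h1 => ha1 (e.injective (h1.trans (map_one e).symm))) (by
      rw [Subgroup.mem_comap, map_mul, map_mul, map_inv] at h
      exact h)
    rw [Subgroup.mem_centralizer_singleton_iff] at h' ⊢
    exact e.injective (by rw [map_mul, map_mul, e.apply_symm_apply]; exact h')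

variable {F : Type v} [Field F] [Fintype F]

namespace Psl

local notation "SL2" => Matrix.SpecialLinearGroup (Fin 2) F
local notation "P2" => Matrix.ProjectiveSpecialLinearGroup (Fin 2) F

theorem q_arith (n : ℕ) :
    (3 ^ (2 * n + 1) + 1) = 4 * ((3 ^ (2 * n + 1) + 1) / 4) ∧ Odd ((3 ^ (2 * n + 1) + 1) / 4) ∧
      ¬ 3 ∣ (3 ^ (2 * n + 1) + 1) / 4 ∧ ¬ 5 ∣ (3 ^ (2 * n + 1) + 1) / 4 := by
  have e : 3 ^ (2 * n + 1) = 3 * 9 ^ n := by rw [pow_succ, pow_mul]; norm_num [mul_comm]
  have h8 : 9 ^ n % 8 = 1 := by rw [Nat.pow_mod]; norm_num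
  have h5 : 9 ^ n % 5 = 1 ∨ 9 ^ n % 5 = 4 := by
    induction n with
    | zero => left; norm_num
    | succ k ih =>
      have : (9 : ℕ) ^ (k + 1) = 9 ^ k * 9 := pow_succ 9 k
      have h8' : 9 ^ k % 8 = 1 := by rw [Nat.pow_mod]; norm_num
      rcases ih (by rw [pow_succ, pow_mul]; norm_num [mul_comm]) h8' with h | h <;> omega
  rw [e]
  refine ⟨by omega, Nat.odd_iff.2 (by omega), fun h => ?_, fun h => ?_⟩ <;> omega

section Field

variable {n : ℕ} (hF : Fintype.card F = 3 ^ (2 * n + 1))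
include hF

theorem two_ne : (2 : F) ≠ 0 := by
  refine SL2C.not_two_dvd_iff.1 fun h => ?_
  rw [hF] at h
  have := Nat.prime_two.dvd_of_dvd_pow h
  omega

theorem four_ne : (4 : F) ≠ 0 := by
  rw [show (4 : F) = 2 * 2 by norm_num]
  exact mul_ne_zero (two_ne hF) (two_ne hF)

theorem w_trace : (PSL2.wS : SL2).1.trace = 0 := by simp [Matrix.trace_fin_two]

theorem w_ht : (PSL2.wS : SL2).1.trace * (PSL2.wS : SL2).1.trace ≠ 4 := by
  rw [w_trace hF, mul_zero]
  exact (four_ne hF).symm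

theorem sol_w : sol (PSL2.wS : SL2).1.trace 1 = Fintype.card F + 1 := by
  rw [w_trace hF]
  rcases sol_eq (F := F) (t := 0) (by rw [mul_zero]; exact (four_ne hF).symm) with ⟨h, -⟩ | ⟨-, h⟩
  · exfalso
    have hne : Nonempty {k : F // k * k + 0 * k + 1 = 0} := by
      by_contra hc
      rw [not_nonempty_iff] at hc
      rw [roots, Nat.card_of_isEmpty] at h
      omega
    obtain ⟨k, hk⟩ := hne
    have hsq : IsSquare (-1 : F) := ⟨k, by linear_combination -hk⟩
    have h4 := FiniteField.isSquare_neg_one_iff.1 hsq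
    obtain ⟨h1, h2, -, -⟩ := q_arith n
    rw [hF] at h4
    rw [Nat.odd_iff] at h2
    omega
  · exact h

theorem gcd_two : Nat.gcd 2 (Fintype.card F - 1) = 2 := Classical.Dickson.two_dvd_pred (two_ne hF)

theorem s_order : orderOf (PSL2.pr (PSL2.wS : SL2)) = 2 := by
  refine orderOf_eq_prime ?_ fun h => not_isSc_of_trace (w_ht hF) (pr_eq_one_iff.1 h)
  rw [pow_two, ← map_mul, pr_eq_one_iff]
  refine ⟨-1, ?_⟩
  rw [val_mul', SL2C.sq_eq, w_trace hF, zero_smul, zero_sub, neg_one_smul]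

theorem w_sq : PSL2.pr (PSL2.wS : SL2) * PSL2.pr (PSL2.wS : SL2) = 1 := by
  have h := pow_orderOf_eq_one (PSL2.pr (PSL2.wS : SL2))
  rwa [s_order hF, pow_two] at h

theorem card_cent_w :
    Nat.card (Subgroup.centralizer ({PSL2.pr (PSL2.wS : SL2)} : Set P2)) = Fintype.card F + 1 := by
  have h := card_centralizer_pr (PSL2.wS : SL2) (not_isSc_of_trace (w_ht hF))
  rw [center_card_odd (two_ne hF), sol_w hF, w_trace hF, if_pos ⟨two_ne hF, rfl⟩] at h
  omega

/-- The torus of the involution. -/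
noncomputable def torus : Subgroup P2 := (tor (PSL2.wS : SL2)).map PSL2.pr

theorem center_le_tor : Subgroup.center SL2 ≤ tor (PSL2.wS : SL2) := Subgroup.center_le_centralizer _

theorem card_torus : Nat.card (torus (F := F)) * 2 = Fintype.card F + 1 := by
  have h := Classical.Dickson.card_map_pr (center_le_tor hF)
  rw [show Nat.card (tor (PSL2.wS : SL2)) = _ from card_centralizer _ (not_isSc_of_trace (w_ht hF)), sol_w hF,
    gcd_two hF] at h
  exact h.symm

theorem torus_cyclic : IsCyclic (torus (F := F)) := by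
  haveI := isCyclic_centralizer (w_ht hF)
  exact isCyclic_of_surjective (PSL2.pr.subgroupMap (tor (PSL2.wS : SL2)))
    (MonoidHom.subgroupMap_surjective _ _)

/-- A generator of the torus. -/
noncomputable def gen : P2 :=
  haveI := torus_cyclic hF
  ((IsCyclic.exists_ofOrder_eq_natCard (α := torus (F := F))).choose : P2)

theorem gen_spec : gen hF ∈ (torus (F := F)) ∧ orderOf (gen hF) = Nat.card (torus (F := F)) := by
  haveI := torus_cyclic hF
  refine ⟨(IsCyclic.exists_ofOrder_eq_natCard (α := torus (F := F))).choose.2, ?_⟩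
  rw [gen, Subgroup.orderOf_coe]
  exact (IsCyclic.exists_ofOrder_eq_natCard (α := torus (F := F))).choose_spec

theorem torus_comm {x y : P2} (hx : x ∈ torus (F := F)) (hy : y ∈ torus (F := F)) : x * y = y * x := by
  obtain ⟨X, hX, rfl⟩ := hx
  obtain ⟨Y, hY, rfl⟩ := hy
  rw [← map_mul, ← map_mul, tor_comm (not_isSc_of_trace (w_ht hF)) X hX Y hY]

theorem pr_scalar_mem {X Z : SL2} (hX : X ∈ tor (PSL2.wS : SL2)) (h : PSL2.pr Z = PSL2.pr X) :
    Z ∈ tor (PSL2.wS : SL2) := by
  have hc : X⁻¹ * Z ∈ Subgroup.center SL2 := by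
    rw [mem_center_iff, ← pr_eq_one_iff, map_mul, map_inv, h, inv_mul_cancel]
  have := mul_mem hX (center_le_tor hF hc)
  rwa [mul_inv_cancel_left] at this

theorem torus_ti {g a : P2} (ha : a ∈ torus (F := F)) (ha1 : a ≠ 1) (h : g * a * g⁻¹ ∈ torus (F := F)) :
    g ∈ Subgroup.centralizer ({PSL2.pr (PSL2.wS : SL2)} : Set P2) := by
  have ht := w_ht hF
  have hg := not_isSc_of_trace ht
  obtain ⟨X, hX, rfl⟩ := ha
  obtain ⟨C, rfl⟩ := PSL2.pr_surjective g
  obtain ⟨Y, hY, e⟩ := h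
  rw [← map_inv, ← map_mul, ← map_mul] at e
  have hY' : C * X * C⁻¹ ∈ tor (PSL2.wS : SL2) := pr_scalar_mem hF hY e.symm
  have hns : ¬ IsSc X.1 := fun hs => ha1 (pr_eq_one_iff.2 hs)
  have hns' : ¬ IsSc (C * X * C⁻¹).1 := fun hs => ha1 (by
    have h1 := pr_eq_one_iff.2 hs
    rw [map_mul, map_mul, map_inv, mul_inv_eq_one, mul_eq_left] at h1
    exact h1)
  have e1 := (tor_eq ht hX hns).1
  have e2 := (tor_eq ht hY' hns').1
  have hm : C ∈ Subgroup.normalizer (tor (PSL2.wS : SL2) : Set SL2) := by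
    have key : ∀ z, z ∈ tor X ↔ C * z * C⁻¹ ∈ tor (C * X * C⁻¹) := fun z => by
      rw [Subgroup.mem_centralizer_singleton_iff, Subgroup.mem_centralizer_singleton_iff]
      constructor
      · intro hz
        rw [show C * z * C⁻¹ * (C * X * C⁻¹) = C * (z * X) * C⁻¹ by group, hz]
        group
      · intro hz
        rw [show C * z * C⁻¹ * (C * X * C⁻¹) = C * (z * X) * C⁻¹ by group,
          show C * X * C⁻¹ * (C * z * C⁻¹) = C * (X * z) * C⁻¹ by group] at hz
        exact mul_left_cancel (mul_right_cancel hz)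
    rw [e1, e2] at key
    exact Subgroup.mem_normalizer_iff.2 key
  rw [Subgroup.mem_centralizer_singleton_iff]
  rcases normalizer_cases ht hm with hc | hc
  · rw [← map_mul, ← map_mul, Subgroup.mem_centralizer_singleton_iff.1 hc]
  · rw [← map_mul, hc, map_mul, map_inv, inv_eq_of_mul_eq_one_right]
    exact w_sq hF

theorem exists_inv : ∃ u : P2, orderOf u = 2 ∧ u * PSL2.pr (PSL2.wS : SL2) = PSL2.pr (PSL2.wS : SL2) * u ∧
    ∀ a ∈ (torus (F := F)), u * a * u⁻¹ = a⁻¹ := by
  have ht := w_ht hF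
  have hg := not_isSc_of_trace ht
  obtain ⟨S, hS⟩ := exists_inverter ht
  have hinv : ∀ a ∈ (torus (F := F)), PSL2.pr S * a * (PSL2.pr S)⁻¹ = a⁻¹ := by
    rintro _ ⟨X, hX, rfl⟩
    rw [mul_inv_eq_iff_eq_mul, ← map_inv, ← map_mul, ← map_mul, inverts hg hS hX]
  refine ⟨PSL2.pr S, orderOf_eq_prime ?_ fun h => inverter_not_mem ht hS ?_, ?_, hinv⟩
  · rw [pow_two, ← map_mul, pr_eq_one_iff]
    exact ⟨-1, by rw [val_mul', sq_of_inverter ht hS, neg_one_smul]⟩
  · exact center_le_tor hF (mem_center_iff.2 (pr_eq_one_iff.1 h))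
  · rw [← map_mul, hS, map_mul, map_inv, inv_eq_of_mul_eq_one_right]
    exact w_sq hF

theorem card_U' : Nat.card (PSL2.U : Subgroup P2) = Fintype.card F := by
  rw [PSL2.U, ← Nat.card_congr (MonoidHom.ofInjective (f := PSL2.uP (F := F)) fun x y h =>
    Multiplicative.toAdd.injective (PSL2.pr_uS_inj h)).toEquiv, Nat.card_congr Multiplicative.toAdd,
    Nat.card_eq_fintype_card]

theorem upper_comm {A B : SL2} (hA : A.1 1 0 = 0) (hB : B.1 1 0 = 0) :
    A * B * A⁻¹ * B⁻¹ = PSL2.uS ((A * B * A⁻¹ * B⁻¹).1 0 1) := by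
  obtain ⟨a1, a2, a3, a4⟩ := Fusion.Dickson.inv_entries A
  obtain ⟨b1, b2, b3, b4⟩ := Fusion.Dickson.inv_entries B
  have hdA := Fusion.Dickson.det_eq A
  have hdB := Fusion.Dickson.det_eq B
  rw [hA, mul_zero, sub_zero] at hdA
  rw [hB, mul_zero, sub_zero] at hdB
  apply Fusion.Dickson.ext' <;>
    simp [Classical.Dickson.uS_eq_upU, Fusion.Dickson.mul_entry, a1, a2, a3, a4, b1, b2, b3, b4, hA, hB]
  all_goals linear_combination (B.1 0 0 * B.1 1 1) * hdA + hdB

/-- The data of `PSL₂(q)`. -/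
noncomputable def pslData (hn : 1 ≤ n) : KData P2 where
  q := Fintype.card F
  m := (Fintype.card F + 1) / 4
  U := PSL2.U
  B := Classical.Dickson.borelP F
  A := Subgroup.zpowers (gen hF ^ 2)
  s := PSL2.pr PSL2.wS
  hq := by rw [hF]; exact (q_arith n).1
  hpow := ⟨_, hF⟩
  q27 := by
    rw [hF, show (27 : ℕ) = 3 ^ 3 by norm_num]
    exact Nat.pow_le_pow_right (by norm_num) (by omega)
  hm := by rw [hF]; exact (q_arith n).2.1
  h3 := by rw [hF]; exact (q_arith n).2.2.1
  h5 := by rw [hF]; exact (q_arith n).2.2.2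
  card_P := by
    have h := Classical.Dickson.card_P2 (F := F)
    rw [gcd_two hF] at h
    omega
  U_le_B := by
    intro g hg
    obtain ⟨x, rfl⟩ := (PSL2.mem_U g).1 hg
    exact ⟨PSL2.uS x, show (PSL2.uS x).1 1 0 = 0 by simp, rfl⟩
  card_U := card_U' hF
  card_B := by
    have h := Classical.Dickson.card_borelP (F := F)
    rw [gcd_two hF] at h
    obtain ⟨h1, -, -, -⟩ := q_arith n
    rw [← hF] at h1
    obtain ⟨k, hk⟩ : ∃ k, k = (Fintype.card F + 1) / 4 := ⟨_, rfl⟩
    rw [← hk] at h1 ⊢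
    rw [show Fintype.card F - 1 = (2 * k - 1) * 2 by omega] at h
    have : Nat.card (Classical.Dickson.borelP F) * 2 = Fintype.card F * (2 * k - 1) * 2 := by
      rw [h]; ring
    omega
  U_comm := by
    intro x hx y hy
    obtain ⟨a, rfl⟩ := hx
    obtain ⟨b, rfl⟩ := hy
    rw [← map_mul, ← map_mul, mul_comm]
  U_normal b hb y hy :=
    (Subgroup.mem_normalizer_iff.1 (Classical.Dickson.borelP_le_normalizer hb) y).1 hy
  B_comm := by
    rintro _ ⟨A, hA, rfl⟩ _ ⟨B, hB, rfl⟩
    rw [← map_inv, ← map_inv, ← map_mul, ← map_mul, ← map_mul, upper_comm hF hA hB]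
    exact PSL2.uS_mem _
  U_ti := by
    intro g y hy hy1 h
    obtain ⟨x, rfl⟩ := (PSL2.mem_U y).1 hy
    obtain ⟨x', hx'⟩ := (PSL2.mem_U _).1 h
    obtain ⟨A, rfl⟩ := PSL2.pr_surjective g
    have hx : x ≠ 0 := fun h0 => hy1 (by rw [h0, ← map_one PSL2.pr]; congr 1; ext i j; fin_cases i <;> fin_cases j <;> simp)
    exact ⟨A, PSL2.triangular_of_conj hx (eq_mul_inv_iff_mul_eq.1 hx').symm, rfl⟩
  U_cent := by
    intro g y hy hy1 h
    obtain ⟨x, rfl⟩ := (PSL2.mem_U y).1 hy
    have hx : x ≠ 0 := fun h0 => hy1 (by rw [h0, ← map_one PSL2.pr]; congr 1; ext i j; fin_cases i <;> fin_cases j <;> simp)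
    exact PSL2.mem_U_of_commute hx h
  hs := s_order hF
  s_conj x hx := Classical.SL2Four.involutions_conj (two_ne hF) (s_order hF) hx
  card_cent := by
    rw [card_cent_w hF, hF]
    exact (q_arith n).1
  card_A := by
    obtain ⟨hg, ho⟩ := gen_spec hF
    obtain ⟨h1, -, -, -⟩ := q_arith n
    rw [← hF] at h1
    have h2 := card_torus hF
    have h2' : 2 ∣ orderOf (gen hF) := by rw [ho]; omega
    rw [Nat.card_zpowers, orderOf_pow_of_dvd two_ne_zero h2', ho]
    omega
  A_comm x hx y hy :=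
    torus_comm hF (Subgroup.zpowers_le.2 (pow_mem (gen_spec hF).1 2) hx)
      (Subgroup.zpowers_le.2 (pow_mem (gen_spec hF).1 2) hy)
  A_s a ha := torus_comm hF ⟨PSL2.wS, self_mem_tor _, rfl⟩ (Subgroup.zpowers_le.2 (pow_mem (gen_spec hF).1 2) ha)
  A_inv := by
    obtain ⟨u, hu, hus, hinv⟩ := exists_inv hF
    exact ⟨u, hu, hus, fun a ha => hinv a (Subgroup.zpowers_le.2 (pow_mem (gen_spec hF).1 2) ha)⟩
  A_ti g a ha ha1 h :=
    torus_ti hF (Subgroup.zpowers_le.2 (pow_mem (gen_spec hF).1 2) ha) ha1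
      (Subgroup.zpowers_le.2 (pow_mem (gen_spec hF).1 2) h)

end Field

end Psl

variable {n : ℕ} (hF : Fintype.card F = 3 ^ (2 * n + 1))
include hF

/-- The data of a group isomorphic to `PSL₂(q)`. -/
noncomputable def kData {P : Type u} [Group P] (hn : 1 ≤ n) (e : P ≃* Matrix.ProjectiveSpecialLinearGroup (Fin 2) F) :
    KData P :=
  (Psl.pslData hF hn).transport e

theorem kData_q {P : Type u} [Group P] (hn : 1 ≤ n) (e : P ≃* Matrix.ProjectiveSpecialLinearGroup (Fin 2) F) :
    (kData hF hn e).q = Fintype.card F := rfl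

end Cfsg.Agent.Char.ReeThree
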