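import Cfsg.Agent.Lib.Char.ReeThree.RTLocal
import Cfsg.Agent.Lib.Char.ReeThree.KChar

/-!
# `C(V)`, the element `w`, and the centraliser of an element of order three
-/

set_option autoImplicit false
set_option linter.unusedSectionVars false
set_option linter.style.haveILetI false

namespace Cfsg.Agent.Char.ReeThree

open Cfsg Subgroup

universe u

/-- A group whose involution `τ` is the only nontrivial `2`-element commuting with `τ`
has a normal subgroup of odd order and index two. -/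
theorem exists_odd_core {L : Type u} [Group L] [Finite L] {τ : L} (hτ : orderOf τ = 2)
    (h : ∀ x : L, Commute x τ → (∃ k : ℕ, x ^ 2 ^ k = 1) → x = 1 ∨ x = τ)
    (hab : ∀ T : Sylow 2 L, ∀ x ∈ (T : Subgroup L), ∀ y ∈ (T : Subgroup L), x * y = y * x) :
    ∃ O : Subgroup L, O.Normal ∧ Odd (Nat.card O) ∧ τ ∉ O ∧ ∀ x : L, Odd (orderOf x) → x ∈ O := by
  haveI : Fact (Nat.Prime 2) := ⟨Nat.prime_two⟩
  obtain ⟨T, hT⟩ := (IsPGroup.of_card (p := 2) (n := 1) (G := zpowers τ) (by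
    rw [Nat.card_zpowers, hτ, pow_one])).exists_le_sylow
  have hτT := hT (mem_zpowers τ)
  have hmem : ∀ x ∈ (T : Subgroup L), x = 1 ∨ x = τ := fun x hx => by
    refine h x (hab T x hx τ hτT) ?_
    obtain ⟨k, hk⟩ := T.2 ⟨x, hx⟩
    exact ⟨k, congrArg Subtype.val hk⟩
  have hTz : (T : Subgroup L) = zpowers τ := le_antisymm (fun x hx => by
    rcases hmem x hx with rfl | rfl
    exacts [one_mem _, mem_zpowers _]) hT
  have hNC : normalizer ((T : Subgroup L) : Set L) ≤ centralizer ((T : Subgroup L) : Set L) := by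
    intro g hg
    have hgτ : g * τ * g⁻¹ = τ := by
      rcases hmem _ ((mem_normalizer_iff.1 hg τ).1 hτT) with e | e
      · exfalso
        have : orderOf (MulAut.conj g τ) = 2 := by rw [MulEquiv.orderOf_eq, hτ]
        rw [show MulAut.conj g τ = 1 from e, orderOf_one] at this
        omega
      · exact e
    refine mem_centralizer_iff.2 fun x hx => ?_
    rcases hmem x hx with rfl | rfl
    · rw [one_mul, mul_one]
    · exact (mul_inv_eq_iff_eq_mul.1 hgτ).symm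
  have hcomp := MonoidHom.ker_transferSylow_isComplement' T hNC
  set O := (MonoidHom.transferSylow T hNC).ker
  have hcard : Nat.card O * 2 = Nat.card L := by
    rw [← hcomp.card_mul, hTz, Nat.card_zpowers, hτ]
  have hidx : O.index = 2 := by
    rw [← O.card_mul_index] at hcard
    exact (Nat.eq_of_mul_eq_mul_left Nat.card_pos hcard).symm
  refine ⟨O, inferInstance, ?_, ?_, fun x hx => ?_⟩
  · have := T.not_dvd_index
    have hi : (T : Subgroup L).index = Nat.card O := by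
      have h1 := (T : Subgroup L).card_mul_index
      rw [hTz, Nat.card_zpowers, hτ, ← hcard, mul_comm (Nat.card O)] at h1
      rw [hTz]
      exact Nat.eq_of_mul_eq_mul_left two_pos h1
    rw [hi] at this
    exact Nat.odd_iff.2 (by omega)
  · intro hτO
    have h1 := hcomp.disjoint
    rw [disjoint_iff, hTz] at h1
    have : τ ∈ O ⊓ zpowers τ := ⟨hτO, mem_zpowers τ⟩
    rw [h1, mem_bot] at this
    rw [this, orderOf_one] at hτ
    omega
  · obtain ⟨k, hk⟩ := hx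
    have h2 : x * x ∈ O := by
      rcases (Subgroup.mul_mem_iff_of_index_two hidx (a := x) (b := x)) with h'
      exact h'.2 Iff.rfl
    have e : x = x ^ (2 * (k + 1)) := by
      rw [show 2 * (k + 1) = orderOf x + 1 by omega, pow_succ, pow_orderOf_eq_one, one_mul]
    rw [e, pow_mul, pow_two]
    exact pow_mem h2 _

namespace Cfg

variable {G : Type u} [Group G] [Finite G] (D : Cfg G)
include D

/-- `A` inside `G`. -/
abbrev AG : Subgroup G := D.P.A.map D.S.K.subtype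

theorem A_elts {a : G} (ha : a ∈ D.AG) :
    a ∈ D.S.K ∧ a * D.t = D.t * a ∧ a * D.s = D.s * a ∧ orderOf a ∣ D.P.m ∧ a ^ D.P.m = 1 := by
  obtain ⟨b, hb, rfl⟩ := ha
  have h1 : orderOf (b : G) ∣ D.P.m := by rw [Subgroup.orderOf_coe]; exact D.P.orderOf_A hb
  exact ⟨b.2, D.S.comm_t b.2, (congrArg Subtype.val (D.P.A_s b hb)).symm, h1, orderOf_dvd_iff_pow_eq_one.1 h1⟩

theorem A_comm' {a b : G} (ha : a ∈ D.AG) (hb : b ∈ D.AG) : a * b = b * a := by
  obtain ⟨a', ha', rfl⟩ := ha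
  obtain ⟨b', hb', rfl⟩ := hb
  exact congrArg Subtype.val (D.P.A_comm a' ha' b' hb')

theorem odd_mem_K {x : G} (hx : x ∈ D.S.C) (ho : Odd (orderOf x)) : x ∈ D.S.K := by
  refine (D.S.split hx).resolve_right fun h => ?_
  have hxK : x ∉ D.S.K := fun h' => D.S.not_both h' h
  apply hxK
  have e2 : x * x = (D.t * x) * (D.t * x) := by
    have e := D.S.mem_C.1 hx
    rw [show D.t * x * (D.t * x) = D.t * (x * D.t) * x by group, e,
      show D.t * (D.t * x) * x = (D.t * D.t) * (x * x) by group, D.S.sq_t, one_mul]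
  obtain ⟨k, hk⟩ := ho
  have e : x = x ^ (2 * (k + 1)) := by
    rw [show 2 * (k + 1) = orderOf x + 1 by omega, pow_succ, pow_orderOf_eq_one, one_mul]
  rw [e, pow_mul, pow_two, e2]
  exact pow_mem (mul_mem h h) _

theorem odd_CV {x : G} (ht : x * D.t = D.t * x) (hs : x * D.s = D.s * x) (ho : Odd (orderOf x)) : x ∈ D.AG := by
  have hxK := D.odd_mem_K (D.S.mem_C.2 ht) ho
  obtain ⟨u, hu, hus, hinv, hcase⟩ := D.P.cent_cases
  obtain ⟨a, ha, hc⟩ := hcase ⟨x, hxK⟩ (mem_centralizer_singleton_iff.2 (Subtype.ext hs))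
  have ho' : Odd (orderOf (⟨x, hxK⟩ : D.S.K)) := by rwa [Subgroup.orderOf_mk]
  have hs2 : D.P.s * D.P.s = 1 := by rw [← pow_two, ← D.P.hs, pow_orderOf_eq_one]
  have hu2 : u * u = 1 := by rw [← pow_two, ← hu, pow_orderOf_eq_one]
  have hmem : (⟨x, hxK⟩ : D.S.K) ∈ D.P.A := by
    rcases hc with h | h | h | h
    · rw [h]; exact ha
    · obtain ⟨k, hk⟩ := ho'
      have e := pow_orderOf_eq_one (⟨x, hxK⟩ : D.S.K)
      rw [hk, pow_succ, pow_mul, pow_two] at e
      have hA : (⟨x, hxK⟩ : D.S.K) * ⟨x, hxK⟩ ∈ D.P.A := by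
        rw [h, show D.P.s * a * (D.P.s * a) = D.P.s * (a * D.P.s) * a by group, ← D.P.A_s a ha,
          show D.P.s * (D.P.s * a) * a = (D.P.s * D.P.s) * (a * a) by group, hs2, one_mul]
        exact mul_mem ha ha
      have := inv_mem (pow_mem hA k)
      rwa [inv_eq_of_mul_eq_one_right e] at this
    · have h1 : (u * a) * (u * a) = 1 := by
        calc (u * a) * (u * a) = (u * a * u⁻¹) * (u * u) * a := by group
          _ = 1 := by rw [hinv a ha, hu2, mul_one, inv_mul_cancel]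
      rw [KData.sq_eq_one_of_odd ho' (by rw [h]; exact h1)]; exact one_mem _
    · have h1 : (u * D.P.s * a) * (u * D.P.s * a) = 1 := by
        calc (u * D.P.s * a) * (u * D.P.s * a) = u * (D.P.s * a) * u * (D.P.s * a) := by group
          _ = u * (a * D.P.s) * u * (D.P.s * a) := by rw [D.P.A_s a ha]
          _ = (u * a * u⁻¹) * (u * D.P.s * u * D.P.s) * a := by group
          _ = a⁻¹ * (D.P.s * (u * u) * D.P.s) * a := by rw [hinv a ha, hus]; group
          _ = 1 := by rw [hu2, mul_one, hs2, mul_one, inv_mul_cancel]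
      rw [KData.sq_eq_one_of_odd ho' (by rw [h]; exact h1)]; exact one_mem _
  exact ⟨_, hmem, rfl⟩

/-- The element `w`. -/
theorem exists_w : ∃ w : G, w ^ 3 = 1 ∧ w * D.t * w⁻¹ = D.s ∧ w * D.s * w⁻¹ = D.t * D.s ∧
    ∀ a ∈ D.AG, w * a * w⁻¹ ∈ D.AG := by
  obtain ⟨g, hgt, hgs⟩ := D.exists_cycle
  have hgts : g * (D.t * D.s) * g⁻¹ = D.t := by
    rw [show g * (D.t * D.s) * g⁻¹ = (g * D.t * g⁻¹) * (g * D.s * g⁻¹) by group, hgt, hgs, ← mul_assoc,
      ← D.ts_comm, mul_assoc, D.sq_s, mul_one]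
  have h3t : g ^ 3 * D.t = D.t * g ^ 3 := by
    apply mul_inv_eq_iff_eq_mul.1
    calc g ^ 3 * D.t * (g ^ 3)⁻¹ = g * (g * (g * D.t * g⁻¹) * g⁻¹) * g⁻¹ := by
          simp only [pow_succ, pow_zero, one_mul]; group
      _ = D.t := by rw [hgt, hgs, hgts]
  have h3s : g ^ 3 * D.s = D.s * g ^ 3 := by
    apply mul_inv_eq_iff_eq_mul.1
    calc g ^ 3 * D.s * (g ^ 3)⁻¹ = g * (g * (g * D.s * g⁻¹) * g⁻¹) * g⁻¹ := by
          simp only [pow_succ, pow_zero, one_mul]; group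
      _ = D.s := by rw [hgs, hgts, hgt]
  obtain ⟨k, o, ho, hko⟩ := Nat.exists_eq_pow_mul_and_not_dvd (orderOf_pos g).ne' 3 (by norm_num)
  obtain ⟨e, he, he3⟩ : ∃ e : ℕ, o ∣ e ∧ ∃ j, e = 3 * j + 1 := by
    rcases (show o % 3 = 1 ∨ o % 3 = 2 by omega) with h | h
    · exact ⟨o, dvd_rfl, o / 3, by omega⟩
    · exact ⟨2 * o, Dvd.intro_left 2 rfl, 2 * o / 3, by omega⟩
  obtain ⟨j, rfl⟩ := he3
  set w := g ^ (3 * j + 1) with hw
  have hwg : w = g * (g ^ 3) ^ j := by rw [hw, pow_succ', pow_mul]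
  have hwt : w * D.t * w⁻¹ = D.s := by
    rw [hwg, show g * (g ^ 3) ^ j * D.t * (g * (g ^ 3) ^ j)⁻¹ = g * ((g ^ 3) ^ j * D.t) * ((g ^ 3) ^ j)⁻¹ * g⁻¹ by
      group, (Commute.pow_left h3t j).eq]
    rw [← hgt]; group
  have hws : w * D.s * w⁻¹ = D.t * D.s := by
    rw [hwg, show g * (g ^ 3) ^ j * D.s * (g * (g ^ 3) ^ j)⁻¹ = g * ((g ^ 3) ^ j * D.s) * ((g ^ 3) ^ j)⁻¹ * g⁻¹ by
      group, (Commute.pow_left h3s j).eq]
    rw [← hgs]; group
  have hwp : w ^ 3 ^ k = 1 := by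
    obtain ⟨c, hc⟩ := he
    rw [hw, hc, ← pow_mul, show o * c * 3 ^ k = (3 ^ k * o) * c by ring, ← hko, pow_mul, pow_orderOf_eq_one, one_pow]
  have hw3 : (w ^ 3) ^ 3 ^ k = 1 := by rw [← pow_mul, mul_comm, pow_mul, hwp, one_pow]
  have hod : orderOf (w ^ 3) ∣ 3 ^ k := orderOf_dvd_of_pow_eq_one hw3
  have hw3c : w ^ 3 = (g ^ 3) ^ (3 * j + 1) := by rw [hw, ← pow_mul, ← pow_mul, mul_comm]
  have hA := D.odd_CV (x := w ^ 3) (hw3c ▸ (Commute.pow_left h3t _).eq) (hw3c ▸ (Commute.pow_left h3s _).eq)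
    ((Odd.pow (by decide)).of_dvd_nat hod)
  have hw31 : w ^ 3 = 1 := orderOf_eq_one_iff.1 (Nat.eq_one_of_dvd_coprimes
    (Nat.Coprime.pow_left k (Nat.prime_three.coprime_iff_not_dvd.2 D.P.h3)) hod (D.A_elts hA).2.2.2.1)
  refine ⟨w, hw31, hwt, hws, fun a ha => ?_⟩
  obtain ⟨-, hat, has, ham, -⟩ := D.A_elts ha
  refine D.odd_CV ?_ ?_ ?_
  · apply mul_inv_eq_iff_eq_mul.1
    have e : w⁻¹ * D.t * w = D.t * D.s := by
      have h1 : w * (D.t * D.s) * w⁻¹ = D.t := by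
        rw [show w * (D.t * D.s) * w⁻¹ = (w * D.t * w⁻¹) * (w * D.s * w⁻¹) by group, hwt, hws, ← mul_assoc,
          ← D.ts_comm, mul_assoc, D.sq_s, mul_one]
      calc w⁻¹ * D.t * w = w⁻¹ * (w * (D.t * D.s) * w⁻¹) * w := by rw [h1]
        _ = D.t * D.s := by group
    calc w * a * w⁻¹ * D.t * (w * a * w⁻¹)⁻¹ = w * (a * (w⁻¹ * D.t * w) * a⁻¹) * w⁻¹ := by group
      _ = w * (D.t * D.s) * w⁻¹ := by
          rw [e, show a * (D.t * D.s) * a⁻¹ = (a * D.t) * D.s * a⁻¹ by group, hat,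
            show D.t * a * D.s * a⁻¹ = D.t * (a * D.s) * a⁻¹ by group, has,
            show D.t * (D.s * a) * a⁻¹ = D.t * D.s by group]
      _ = D.t := by rw [← e]; group
  · apply mul_inv_eq_iff_eq_mul.1
    have e : w⁻¹ * D.s * w = D.t := by
      calc w⁻¹ * D.s * w = w⁻¹ * (w * D.t * w⁻¹) * w := by rw [hwt]
        _ = D.t := by group
    calc w * a * w⁻¹ * D.s * (w * a * w⁻¹)⁻¹ = w * (a * (w⁻¹ * D.s * w) * a⁻¹) * w⁻¹ := by group
      _ = w * D.t * w⁻¹ := by rw [e, hat, mul_inv_cancel_right]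
      _ = D.s := hwt
  · rw [show w * a * w⁻¹ = MulAut.conj w a from rfl, MulEquiv.orderOf_eq]
    exact D.P.hm.of_dvd_nat ham

/-- `U` as a Sylow `3`-subgroup of `K`. -/
theorem conj_into_U {y : D.S.K} (hy : ∃ k, orderOf y = 3 ^ k) : ∃ c : D.S.K, c⁻¹ * y * c ∈ D.P.U := by
  haveI : Fact (Nat.Prime 3) := ⟨Nat.prime_three⟩
  have hUp : IsPGroup 3 D.P.U := by
    obtain ⟨k, hk⟩ := D.P.hpow
    exact IsPGroup.of_card (n := k) (by rw [D.P.card_U, hk])
  have hidx : ¬ 3 ∣ D.P.U.index := by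
    haveI := Fintype.ofFinite G
    haveI := Fintype.ofFinite D.S.K
    rw [D.P.index_U]
    intro h
    obtain ⟨k, hk⟩ := D.P.hpow
    have h3 : 3 ∣ D.P.q := by
      rcases k with _ | k
      · have := D.P.q27; simp at hk; omega
      · exact hk ▸ dvd_pow_self 3 (Nat.succ_ne_zero k)
    rcases Nat.prime_three.dvd_mul.1 h with h | h
    · rcases Nat.prime_three.dvd_mul.1 h with h | h
      · omega
      · exact D.P.h3 h
    · have := D.P.q27; omega
  obtain ⟨k, hk⟩ := hy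
  obtain ⟨T, hT⟩ := (IsPGroup.of_card (p := 3) (n := k) (G := zpowers y) (by
    rw [Nat.card_zpowers, hk])).exists_le_sylow
  obtain ⟨c, hc⟩ := MulAction.exists_smul_eq D.S.K (hUp.toSylow hidx) T
  have h := hT (mem_zpowers y)
  rw [← hc, Sylow.coe_subgroup_smul] at h
  obtain ⟨z, hz, hzy⟩ := h
  refine ⟨c, ?_⟩
  have hzy' : c * z * c⁻¹ = y := hzy
  rw [← hzy', show c⁻¹ * (c * z * c⁻¹) * c = z by group]
  exact hz

/-- The centraliser of `y ∈ U` in `C(t)`. -/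
theorem cent_U {y : D.S.K} (hy : y ∈ D.P.U) (hy1 : y ≠ 1) {x : G} (hxt : x * D.t = D.t * x)
    (hxy : x * (y : G) = (y : G) * x) : ∃ z ∈ D.P.U, x = (z : G) ∨ x = D.t * (z : G) := by
  have hty : D.t * (y : G) = (y : G) * D.t := (D.S.comm_t y.2).symm
  rcases D.S.split (D.S.mem_C.2 hxt) with h | h
  · exact ⟨⟨x, h⟩, D.P.U_cent _ y hy hy1 (Subtype.ext hxy), Or.inl rfl⟩
  · refine ⟨⟨_, h⟩, D.P.U_cent _ y hy hy1 (Subtype.ext ?_), Or.inr ?_⟩
    · show D.t * x * (y : G) = (y : G) * (D.t * x)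
      rw [mul_assoc, hxy, ← mul_assoc, hty, mul_assoc]
    · show x = D.t * (D.t * x)
      rw [← mul_assoc, D.S.sq_t, one_mul]

theorem two_elt_U {y : D.S.K} (hy : y ∈ D.P.U) (hy1 : y ≠ 1) {x : G} (hxt : x * D.t = D.t * x)
    (hxy : x * (y : G) = (y : G) * x) (hk : ∃ k : ℕ, x ^ 2 ^ k = 1) : x = 1 ∨ x = D.t := by
  obtain ⟨z, hz, h⟩ := D.cent_U hy hy1 hxt hxy
  obtain ⟨k, hk⟩ := hk
  have hc : Commute D.t (z : G) := (D.S.comm_t z.2).symm
  have hz1 : ∀ {n : ℕ}, z ^ 2 ^ n = 1 → z = 1 := fun {n} e => orderOf_eq_one_iff.1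
    (Nat.eq_one_of_dvd_coprimes (Nat.Coprime.pow_right n (Nat.coprime_two_right.2 (D.P.odd_of_mem_U hz)))
      dvd_rfl (orderOf_dvd_of_pow_eq_one e))
  rcases h with h | h
  · left
    rw [h, hz1 (n := k) (Subtype.ext (by rw [SubgroupClass.coe_pow, ← h, hk]; rfl)), OneMemClass.coe_one]
  · right
    have e2 : x * x = (z : G) * z := by
      rw [h, show D.t * (z : G) * (D.t * z) = D.t * ((z : G) * D.t) * z by group, D.S.comm_t z.2,
        show D.t * (D.t * (z : G)) * z = (D.t * D.t) * ((z : G) * z) by group, D.S.sq_t, one_mul]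
    have e3 : (x * x) ^ 2 ^ k = 1 := by rw [← pow_two, ← pow_mul, mul_comm, pow_mul, hk, one_pow]
    rw [h, hz1 (n := k + 1) (Subtype.ext (by
      rw [SubgroupClass.coe_pow, pow_succ', pow_mul, pow_two, ← e2, e3]; rfl)), OneMemClass.coe_one, mul_one]

end Cfg

end Cfsg.Agent.Char.ReeThree
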