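import Cfsg.Agent.Lib.Char.ReeThree.RTCent
import Cfsg.Agent.Lib.Char.ReeThree.Main
import Cfsg.Agent.Lib.Char.ReeThree.Psl
import Cfsg.Agent.S1230
import Cfsg.Agent.S2758
import Cfsg.Agent.Lib.Classical.Dickson.Tools

/-!
# A group of Ree type involves the symmetric group of degree three
-/

set_option autoImplicit false
set_option linter.unusedSectionVars false
set_option linter.style.haveILetI false
set_option maxHeartbeats 800000

namespace Cfsg.Agent.Char.ReeThree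

open Cfsg Subgroup

universe u

namespace Cfg

variable {G : Type u} [Group G] [Finite G] (D : Cfg G)
include D

/-- The four group `⟨t, s⟩`. -/
def V : Subgroup G where
  carrier := {x | x = 1 ∨ x = D.t ∨ x = D.s ∨ x = D.t * D.s}
  one_mem' := Or.inl rfl
  mul_mem' := by
    have a := D.S.sq_t
    have b := D.sq_s
    have c : D.s * D.t = D.t * D.s := D.ts_comm.symm
    have d : D.t * (D.t * D.s) = D.s := by rw [← mul_assoc, a, one_mul]
    have e : D.t * D.s * D.t = D.s := by rw [mul_assoc, c, d]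
    have f : D.s * (D.t * D.s) = D.t := by rw [← mul_assoc, c, mul_assoc, b, mul_one]
    have g : D.t * D.s * D.s = D.t := by rw [mul_assoc, b, mul_one]
    have h : D.t * D.s * (D.t * D.s) = 1 := by rw [← mul_assoc, e, b]
    rintro x y (rfl | rfl | rfl | rfl) (rfl | rfl | rfl | rfl) <;> simp [a, b, c, d, e, f, g, h]
  inv_mem' := by
    rintro x (rfl | rfl | rfl | rfl)
    · exact Or.inl inv_one
    · exact Or.inr (Or.inl D.S.inv_t)
    · exact Or.inr (Or.inr (Or.inl (inv_eq_of_mul_eq_one_left D.sq_s)))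
    · refine Or.inr (Or.inr (Or.inr ?_))
      rw [mul_inv_rev, inv_eq_of_mul_eq_one_left D.sq_s, D.S.inv_t, D.ts_comm]

theorem mem_V {x : G} : x ∈ D.V ↔ x = 1 ∨ x = D.t ∨ x = D.s ∨ x = D.t * D.s := Iff.rfl

theorem V_inf_A {x : G} (hx : x ∈ D.V) (ha : x ∈ D.AG) : x = 1 := by
  have ho : Odd (orderOf x) := D.P.hm.of_dvd_nat (D.A_elts ha).2.2.2.1
  rcases hx with rfl | rfl | rfl | rfl
  · rfl
  · rw [D.S.ht] at ho; exact absurd ho (by decide)
  · rw [D.ord_s] at ho; exact absurd ho (by decide)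
  · rw [D.ord_ts D.s_mem D.sq_s] at ho; exact absurd ho (by decide)

theorem A_nontrivial : ∃ a ∈ D.P.A, a ≠ 1 := by
  haveI : Nontrivial D.P.A := Finite.one_lt_card_iff_nontrivial.1 (by
    rw [D.P.card_A]; have := D.P.m_seven; omega)
  obtain ⟨⟨a, ha⟩, hne⟩ := exists_ne (1 : D.P.A)
  exact ⟨a, ha, fun e => hne (Subtype.ext e)⟩

theorem V_cent_A {r a : G} (hr : r ∈ D.V) (ha : a ∈ D.AG) : r * a = a * r := by
  obtain ⟨-, hat, has, -, -⟩ := D.A_elts ha
  rcases hr with rfl | rfl | rfl | rfl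
  · rw [one_mul, mul_one]
  · exact hat.symm
  · exact has.symm
  · rw [mul_assoc, ← has, ← mul_assoc, ← hat, mul_assoc]

theorem cent_tA {x : G} (hxt : x * D.t = D.t * x) (hxA : ∀ a ∈ D.AG, x * a = a * x) :
    ∃ r ∈ D.V, r⁻¹ * x ∈ D.AG := by
  obtain ⟨a0, ha0, ha01⟩ := D.A_nontrivial
  obtain ⟨u, hu, hus, hinv, hcase⟩ := D.P.cent_cases
  have key : ∀ k : D.S.K, (k : G) * (a0 : G) = (a0 : G) * k →
      ∃ b ∈ D.P.A, k = b ∨ k = D.P.s * b := by
    intro k hk
    have hk' : k * a0 = a0 * k := Subtype.ext hk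
    have hfix : k * a0 * k⁻¹ = a0 := by rw [hk', mul_inv_cancel_right]
    have hne : a0⁻¹ = a0 → False := fun e => ha01 (KData.sq_eq_one_of_odd (D.P.odd_of_mem_A ha0) (by
      calc a0 * a0 = a0⁻¹ * a0 := by rw [e]
        _ = 1 := inv_mul_cancel a0))
    obtain ⟨b, hb, h⟩ := hcase k (D.P.A_ti k a0 ha0 ha01 (by rw [hfix]; exact ha0))
    rcases h with h | h | h | h
    · exact ⟨b, hb, Or.inl h⟩
    · exact ⟨b, hb, Or.inr h⟩
    · exfalso; apply hne
      rw [h, mul_assoc u b, D.P.A_comm _ hb _ ha0] at hfix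
      calc a0⁻¹ = u * a0 * u⁻¹ := (hinv a0 ha0).symm
        _ = u * (a0 * b) * (u * b)⁻¹ := by group
        _ = a0 := hfix
    · exfalso; apply hne
      rw [h, mul_assoc (u * D.P.s), D.P.A_comm _ hb _ ha0] at hfix
      calc a0⁻¹ = u * (a0 * D.P.s) * D.P.s⁻¹ * u⁻¹ := by rw [← hinv a0 ha0]; group
        _ = u * (D.P.s * a0) * D.P.s⁻¹ * u⁻¹ := by rw [D.P.A_s a0 ha0]
        _ = u * D.P.s * (a0 * b) * (u * D.P.s * b)⁻¹ := by group
        _ = a0 := hfix
  have ha0G : (a0 : G) ∈ D.AG := ⟨a0, ha0, rfl⟩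
  rcases D.S.split (D.S.mem_C.2 hxt) with h | h
  · obtain ⟨b, hb, e | e⟩ := key ⟨x, h⟩ (hxA _ ha0G)
    · exact ⟨1, one_mem _, by rw [inv_one, one_mul]; exact ⟨b, hb, (congrArg Subtype.val e).symm⟩⟩
    · refine ⟨D.s, Or.inr (Or.inr (Or.inl rfl)), ⟨b, hb, ?_⟩⟩
      rw [show x = D.s * (b : G) from congrArg Subtype.val e, inv_mul_cancel_left]; rfl
  · obtain ⟨b, hb, e | e⟩ := key ⟨D.t * x, h⟩ (by
      show D.t * x * (a0 : G) = (a0 : G) * (D.t * x)
      rw [mul_assoc, hxA _ ha0G, ← mul_assoc, D.S.comm_t a0.2 |>.symm, mul_assoc])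
    · refine ⟨D.t, Or.inr (Or.inl rfl), ⟨b, hb, ?_⟩⟩
      rw [D.S.inv_t]; exact (congrArg Subtype.val e).symm
    · refine ⟨D.t * D.s, Or.inr (Or.inr (Or.inr rfl)), ⟨b, hb, ?_⟩⟩
      have e' : D.t * x = D.s * (b : G) := congrArg Subtype.val e
      rw [mul_inv_rev, D.S.inv_t, mul_assoc, e', inv_mul_cancel_left]; rfl

section Fixed

variable {w : G} (hw3 : w ^ 3 = 1) (hwt : w * D.t * w⁻¹ = D.s) (hws : w * D.s * w⁻¹ = D.t * D.s)
  (hwA : ∀ a ∈ D.AG, w * a = a * w)
include hw3 hwt hws hwA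

theorem w_V {x : G} (hx : x ∈ D.V) : w * x * w⁻¹ ∈ D.V := by
  rcases hx with rfl | rfl | rfl | rfl
  · simp
  · exact Or.inr (Or.inr (Or.inl hwt))
  · exact Or.inr (Or.inr (Or.inr hws))
  · refine Or.inr (Or.inl ?_)
    rw [show w * (D.t * D.s) * w⁻¹ = (w * D.t * w⁻¹) * (w * D.s * w⁻¹) by group, hwt, hws, ← mul_assoc,
      ← D.ts_comm, mul_assoc, D.sq_s, mul_one]

theorem cent_VA {v x : G} (hv : v ∈ D.V) (hv1 : v ≠ 1) (hxv : x * v = v * x) (hxA : ∀ a ∈ D.AG, x * a = a * x) :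
    ∃ r ∈ D.V, r⁻¹ * x ∈ D.AG := by
  have step : ∀ v x : G, (∀ y : G, y * v = v * y → (∀ a ∈ D.AG, y * a = a * y) → ∃ r ∈ D.V, r⁻¹ * y ∈ D.AG) →
      x * (w * v * w⁻¹) = w * v * w⁻¹ * x → (∀ a ∈ D.AG, x * a = a * x) → ∃ r ∈ D.V, r⁻¹ * x ∈ D.AG := by
    intro v x H hx hA
    obtain ⟨r, hr, hrA⟩ := H (w⁻¹ * x * w) (by
      calc w⁻¹ * x * w * v = w⁻¹ * (x * (w * v * w⁻¹)) * w := by group
        _ = v * (w⁻¹ * x * w) := by rw [hx]; group) (fun a ha => by
      calc w⁻¹ * x * w * a = w⁻¹ * (x * (w * a)) := by group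
        _ = w⁻¹ * (x * a) * w := by rw [hwA a ha]; group
        _ = w⁻¹ * (a * x) * w := by rw [hA a ha]
        _ = a * (w⁻¹ * x * w) := by
            have : w⁻¹ * a = a * w⁻¹ := (Commute.inv_left (hwA a ha)).eq
            rw [← mul_assoc, this]; group)
    refine ⟨w * r * w⁻¹, D.w_V hw3 hwt hws hwA hr, ?_⟩
    have e : (w * r * w⁻¹)⁻¹ * x = w * (r⁻¹ * (w⁻¹ * x * w)) * w⁻¹ := by group
    rw [e, hwA _ hrA, mul_inv_cancel_right]
    exact hrA
  have h0 : ∀ y : G, y * D.t = D.t * y → (∀ a ∈ D.AG, y * a = a * y) → ∃ r ∈ D.V, r⁻¹ * y ∈ D.AG :=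
    fun y => D.cent_tA
  rcases hv with rfl | rfl | rfl | rfl
  · exact absurd rfl hv1
  · exact h0 x hxv hxA
  · exact step _ x h0 (by rw [hwt]; exact hxv) hxA
  · exact step _ x (fun y hy hA => step _ y h0 (by rw [hwt]; exact hy) hA) (by rw [hws]; exact hxv) hxA

/-- The centraliser of `A`. -/
theorem cent_A_struct : Nat.card (centralizer (D.AG : Set G)) ∣ 60 * D.P.m ∧
    ∀ x ∈ centralizer (D.AG : Set G), x ^ D.P.m = 1 → x ∈ D.AG := by
  classical
  haveI : Fact (Nat.Prime 2) := ⟨Nat.prime_two⟩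
  set M := centralizer (D.AG : Set G) with hM
  have hAM : D.AG ≤ M := fun a ha => mem_centralizer_iff.2 fun b hb => D.A_comm' hb ha
  have hVM : D.V ≤ M := fun r hr => mem_centralizer_iff.2 fun b hb => (D.V_cent_A hr hb).symm
  have hMA : ∀ x : M, ∀ a ∈ D.AG, (x : G) * a = a * x := fun x a ha => (mem_centralizer_iff.1 x.2 a ha).symm
  set N := D.AG.subgroupOf M with hN
  haveI : N.Normal := ⟨fun a ha x => mem_subgroupOf.2 (by
    rw [Subgroup.coe_mul, Subgroup.coe_mul, Subgroup.coe_inv, hMA x _ (mem_subgroupOf.1 ha), mul_inv_cancel_right]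
    exact mem_subgroupOf.1 ha)⟩
  set π := QuotientGroup.mk' N with hπ
  have hker : ∀ {x : M}, π x = 1 ↔ (x : G) ∈ D.AG := fun {x} =>
    (QuotientGroup.eq_one_iff x).trans mem_subgroupOf
  have hAm : Nat.card N = D.P.m := by
    rw [Nat.card_congr (subgroupOfEquivOfLe hAM).toEquiv,
      card_map_of_injective D.S.K.subtype_injective, D.P.card_A]
  set W := (D.V.subgroupOf M).map π with hW
  have hWinj : ∀ r r' : M, (r : G) ∈ D.V → (r' : G) ∈ D.V → π r = π r' → r = r' := by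
    intro r r' hr hr' e
    have h1 : π (r⁻¹ * r') = 1 := by rw [map_mul, map_inv, e, inv_mul_cancel]
    exact Subtype.ext (inv_mul_eq_one.1 (D.V_inf_A (mul_mem (inv_mem hr) hr') (hker.1 h1)))
  let tM : M := ⟨D.t, hVM (Or.inr (Or.inl rfl))⟩
  let sM : M := ⟨D.s, hVM (Or.inr (Or.inr (Or.inl rfl)))⟩
  have hWsq : ∀ x ∈ W, x * x = 1 := by
    rintro _ ⟨r, hr, rfl⟩
    rw [← map_mul]
    have e : r * r = 1 := Subtype.ext (by
      show (r : G) * r = 1
      rcases mem_subgroupOf.1 hr with h | h | h | h <;> rw [h]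
      · rw [one_mul]
      · exact D.S.sq_t
      · exact D.sq_s
      · rw [show D.t * D.s * (D.t * D.s) = D.t * (D.s * D.t) * D.s by group, ← D.ts_comm,
          show D.t * (D.t * D.s) * D.s = (D.t * D.t) * (D.s * D.s) by group, D.S.sq_t, D.sq_s, one_mul])
    rw [e, map_one]
  have hWcomm : ∀ x ∈ W, ∀ y ∈ W, x * y = y * x := by
    intro x hx y hy
    have e := hWsq _ (mul_mem hx hy)
    have ex := inv_eq_of_mul_eq_one_left (hWsq x hx)
    have ey := inv_eq_of_mul_eq_one_left (hWsq y hy)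
    calc x * y = (x * y)⁻¹ := (inv_eq_of_mul_eq_one_left e).symm
      _ = y * x := by rw [mul_inv_rev, ex, ey]
  have hcent : ∀ v ∈ W, v ≠ 1 → centralizer ({v} : Set (M ⧸ N)) = W := by
    rintro _ ⟨r, hr, rfl⟩ hv1
    refine le_antisymm (fun y hy => ?_) (fun y hy => mem_centralizer_singleton_iff.2 (hWcomm y hy _ ⟨r, hr, rfl⟩))
    obtain ⟨x, rfl⟩ := QuotientGroup.mk'_surjective N y
    have hy' : π x * π r = π r * π x := mem_centralizer_singleton_iff.1 hy
    have hr' : (r : G) ∈ D.V := mem_subgroupOf.1 hr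
    have hz : π ((r * x)⁻¹ * (x * r)) = 1 := by
      rw [map_mul, map_inv, map_mul, map_mul, hy', inv_mul_cancel]
    set z : M := (r * x)⁻¹ * (x * r) with hzdef
    have hzA := hker.1 hz
    have hzr : (z : G) * r = r * z := (D.V_cent_A hr' hzA).symm
    have hxr : (x : G) * r * (x : G)⁻¹ = r * z := by
      have e : (x : G) * r = r * x * z := by rw [hzdef]; simp [mul_assoc]
      rw [e, mul_assoc (r : G), hMA x _ hzA, ← mul_assoc, mul_inv_cancel_right]
    have hr2 : (r : G) * r = 1 := by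
      have h1 := hWsq (π r) ⟨r, hr, rfl⟩
      rw [← map_mul] at h1
      exact congrArg Subtype.val (hWinj (r * r) 1 (mul_mem hr' hr') (one_mem _) (h1.trans (map_one π).symm))
    have hz2 : (z : G) * z = 1 := by
      calc (z : G) * z = (r * r) * ((z : G) * z) := by rw [hr2, one_mul]
        _ = r * z * (r * z) := by rw [show (r : G) * z * (r * z) = r * ((z : G) * r) * z by group, hzr]; group
        _ = (x : G) * r * (x : G)⁻¹ * ((x : G) * r * (x : G)⁻¹) := by rw [hxr]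
        _ = (x : G) * (r * r) * (x : G)⁻¹ := by group
        _ = 1 := by rw [hr2, mul_one, mul_inv_cancel]
    have hz1 : (z : G) = 1 := KData.sq_eq_one_of_odd (D.P.hm.of_dvd_nat (D.A_elts hzA).2.2.2.1) hz2
    rw [hz1, mul_one] at hxr
    have hr1 : (r : G) ≠ 1 := fun e => hv1 (by rw [show r = 1 from Subtype.ext e, map_one])
    obtain ⟨r0, hr0, hA⟩ := D.cent_VA hw3 hwt hws hwA hr' hr1 (mul_inv_eq_iff_eq_mul.1 hxr) (hMA x)
    refine ⟨⟨r0, hVM hr0⟩, mem_subgroupOf.2 hr0, ?_⟩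
    have h1 : π ((⟨r0, hVM hr0⟩ : M)⁻¹ * x) = 1 := hker.2 hA
    rw [map_mul, map_inv, inv_mul_eq_one] at h1
    exact h1
  have hab : ∀ T : Sylow 2 (M ⧸ N), ∀ a ∈ (T : Subgroup (M ⧸ N)), ∀ b ∈ (T : Subgroup (M ⧸ N)),
      a * b = b * a := by
    intro T a ha b hb
    obtain ⟨T0, hT0⟩ := Sylow.mapSurjective_surjective (QuotientGroup.mk'_surjective N) 2 T
    rw [← hT0, Sylow.coe_mapSurjective] at ha hb
    obtain ⟨a', ha', rfl⟩ := ha
    obtain ⟨b', hb', rfl⟩ := hb
    rw [← map_mul, ← map_mul]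
    exact congrArg π (Subtype.ext (D.two_comm (T0.2.map M.subtype) ⟨a', ha', rfl⟩ ⟨b', hb', rfl⟩))
  have hWp : IsPGroup 2 W := fun x => ⟨1, Subtype.ext (by rw [pow_one, pow_two]; exact hWsq x x.2)⟩
  obtain ⟨T, hT⟩ := hWp.exists_le_sylow
  have htW : π tM ∈ W := ⟨tM, mem_subgroupOf.2 (Or.inr (Or.inl rfl)), rfl⟩
  have hsW : π sM ∈ W := ⟨sM, mem_subgroupOf.2 (Or.inr (Or.inr (Or.inl rfl))), rfl⟩
  have ht1 : π tM ≠ 1 := fun e => by
    have := congrArg Subtype.val (hWinj tM 1 (Or.inr (Or.inl rfl)) (one_mem _) (e.trans (map_one π).symm))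
    have h2 := D.S.ht
    rw [show D.S.t = 1 from this, orderOf_one] at h2
    omega
  have hTW : (T : Subgroup (M ⧸ N)) = W := le_antisymm (fun a ha => by
    rw [← hcent _ htW ht1]
    exact mem_centralizer_singleton_iff.2 (hab T a ha _ (hT htW))) hT
  have hWcard : Nat.card W = 4 := by
    rw [hW]
    have e : Nat.card ((D.V.subgroupOf M).map π) = Nat.card (D.V.subgroupOf M) := by
      refine (Nat.card_congr (Equiv.ofBijective
        (fun r : D.V.subgroupOf M => (⟨π r, r, r.2, rfl⟩ : (D.V.subgroupOf M).map π)) ⟨?_, ?_⟩)).symm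
      · intro r r' e
        exact Subtype.ext (hWinj r r' (mem_subgroupOf.1 r.2) (mem_subgroupOf.1 r'.2) (congrArg Subtype.val e))
      · rintro ⟨_, r, hr, rfl⟩
        exact ⟨⟨r, hr⟩, rfl⟩
    rw [e, Nat.card_congr (subgroupOfEquivOfLe hVM).toEquiv]
    have hset : (D.V : Set G) = ↑({1, D.t, D.s, D.t * D.s} : Finset G) := by
      ext x; simp [D.mem_V]
    rw [show Nat.card D.V = Set.ncard (D.V : Set G) from (Nat.card_coe_set_eq _), hset, Set.ncard_coe_finset]
    have h1 : D.t ≠ 1 := fun e => by have := D.S.ht; rw [show D.S.t = 1 from e, orderOf_one] at this; omega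
    have h2 : D.s ≠ 1 := fun e => by have := D.ord_s; rw [e, orderOf_one] at this; omega
    have h3 : D.t ≠ D.s := fun e => D.S.t_not_mem (show D.S.t ∈ D.S.K by rw [show D.S.t = D.s from e]; exact D.s_mem)
    have h4 : D.t * D.s ≠ 1 := fun e => D.S.not_both D.s_mem (e ▸ one_mem _)
    rw [Finset.card_insert_of_notMem (by simp [Ne.symm h1, Ne.symm h2, Ne.symm h4]),
      Finset.card_insert_of_notMem (by simp [h3, h2]),
      Finset.card_insert_of_notMem (by simp [h1]), Finset.card_singleton]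
  have hTcard : Nat.card T = 4 := by rw [← hWcard, ← hTW]
  have hdiv : Nat.card (M ⧸ N) ∣ 60 := by
    by_cases hn : (T : Subgroup (M ⧸ N)).Normal
    · have h1 := card_conjClass_mul_centralizer (π tM)
      rw [hcent _ htW ht1, hWcard] at h1
      have hle : Nat.card {x : M ⧸ N // IsConj (π tM) x} ≤ 3 := by
        have hsub : ∀ x : {x : M ⧸ N // IsConj (π tM) x}, (x : M ⧸ N) ∈ W ∧ (x : M ⧸ N) ≠ 1 := by
          rintro ⟨x, hx⟩
          obtain ⟨c, hc⟩ := isConj_iff.1 hx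
          refine ⟨?_, fun e => ht1 ?_⟩
          · show x ∈ W
            rw [← hc, ← hTW]
            exact hn.conj_mem _ (hT htW) c
          · change x = 1 at e
            rw [e] at hc
            simpa using conj_eq_one_iff.1 hc
        let f : {x : M ⧸ N // IsConj (π tM) x} → {x : W // x ≠ 1} :=
          fun x => ⟨⟨x, (hsub x).1⟩, fun e => (hsub x).2 (congrArg Subtype.val e)⟩
        have := Nat.card_le_card_of_injective f fun a b e =>
          Subtype.ext (congrArg (fun z : {x : W // x ≠ 1} => ((z : W) : M ⧸ N)) e)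
        refine this.trans (le_of_eq ?_)
        haveI := Fintype.ofFinite W
        rw [Nat.card_eq_fintype_card, Fintype.card_subtype_compl, Fintype.card_subtype_eq, ← Nat.card_eq_fintype_card,
          hWcard]
      have hodd : ¬ 2 ∣ Nat.card {x : M ⧸ N // IsConj (π tM) x} := by
        rw [card_conjClass_eq_index, hcent _ htW ht1, ← hTW]
        exact T.not_dvd_index
      rw [← h1]
      rcases (show Nat.card {x : M ⧸ N // IsConj (π tM) x} = 1 ∨ Nat.card {x : M ⧸ N // IsConj (π tM) x} = 3 by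
        omega) with h | h <;> rw [h] <;> norm_num
    · have hnc : ¬ IsCyclic (T : Subgroup (M ⧸ N)) := by
        intro hc
        obtain ⟨g, hg⟩ := hc.exists_generator
        have h1 : orderOf g = 4 := by rw [orderOf_eq_card_of_forall_mem_zpowers hg]; exact hTcard
        have h2 : g ^ 2 = 1 := Subtype.ext (by
          rw [pow_two]; exact hWsq g (hTW ▸ g.2))
        have := Nat.le_of_dvd (by norm_num) (h1 ▸ orderOf_dvd_of_pow_eq_one h2)
        omega
      have hinv : ∀ v : M ⧸ N, orderOf v = 2 →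
          IsMulCommutative (centralizer ({v} : Set (M ⧸ N))) ∧ ∀ c ∈ centralizer ({v} : Set (M ⧸ N)), c ^ 2 = 1 := by
        intro v hv
        obtain ⟨T', hT'⟩ := (IsPGroup.of_card (p := 2) (n := 1) (G := zpowers v) (by
          rw [Nat.card_zpowers, hv, pow_one])).exists_le_sylow
        obtain ⟨c, hc⟩ := MulAction.exists_smul_eq (M ⧸ N) T T'
        have hvT := hT' (mem_zpowers v)
        rw [← hc, Sylow.coe_subgroup_smul] at hvT
        obtain ⟨v', hv', hvv⟩ := hvT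
        have hvv' : c * v' * c⁻¹ = v := hvv
        rw [SetLike.mem_coe, hTW] at hv'
        have hv'1 : v' ≠ 1 := fun e => by rw [← hvv', e, mul_one, mul_inv_cancel, orderOf_one] at hv; omega
        have hmem : ∀ y ∈ centralizer ({v} : Set (M ⧸ N)), c⁻¹ * y * c ∈ W := fun y hy => by
          rw [← hcent v' hv' hv'1]
          refine mem_centralizer_singleton_iff.2 ?_
          have e := mem_centralizer_singleton_iff.1 hy
          calc c⁻¹ * y * c * v' = c⁻¹ * (y * v) * c := by rw [← hvv']; group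
            _ = v' * (c⁻¹ * y * c) := by rw [e, ← hvv']; group
        refine ⟨⟨⟨fun a b => Subtype.ext ?_⟩⟩, fun y hy => ?_⟩
        · have := hWcomm _ (hmem a a.2) _ (hmem b b.2)
          calc (a : M ⧸ N) * b = c * (c⁻¹ * a * c * (c⁻¹ * b * c)) * c⁻¹ := by group
            _ = (b : M ⧸ N) * a := by rw [this]; group
        · have := hWsq _ (hmem y hy)
          rw [pow_two]
          calc y * y = c * (c⁻¹ * y * c * (c⁻¹ * y * c)) * c⁻¹ := by group
            _ = 1 := by rw [this, mul_one, mul_inv_cancel]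
      obtain ⟨F, _, _, hF, ⟨e⟩⟩ := S1230.result T hnc hn hinv
      rw [hTcard] at hF
      have h := Classical.Dickson.card_psl F
      have hg : Nat.gcd 2 (Fintype.card F - 1) = 1 := by rw [hF]; decide
      rw [hg, mul_one, hF] at h
      rw [Nat.card_congr e.toEquiv, h]
      norm_num
  refine ⟨?_, fun x hx hxm => ?_⟩
  · rw [Subgroup.card_eq_card_quotient_mul_card_subgroup N, hAm]
    exact mul_dvd_mul_right hdiv _
  · have h1 : orderOf (π ⟨x, hx⟩) ∣ D.P.m := by
      refine orderOf_dvd_of_pow_eq_one ?_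
      rw [← map_pow, show (⟨x, hx⟩ : M) ^ D.P.m = 1 from Subtype.ext hxm, map_one]
    have h2 : orderOf (π ⟨x, hx⟩) ∣ 60 := (_root_.orderOf_dvd_natCard _).trans hdiv
    have hcop : Nat.Coprime D.P.m 60 := by
      rw [show (60 : ℕ) = 4 * (3 * 5) by norm_num]
      refine Nat.Coprime.mul_right ?_ (Nat.Coprime.mul_right ?_ ?_)
      · exact Nat.Coprime.pow_right 2 (Nat.coprime_two_right.2 D.P.hm)
      · exact (Nat.prime_three.coprime_iff_not_dvd.2 D.P.h3).symm
      · exact ((by norm_num : Nat.Prime 5).coprime_iff_not_dvd.2 D.P.h5).symm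
    exact hker.1 (orderOf_eq_one_iff.1 (Nat.eq_one_of_dvd_coprimes hcop h1 h2))

/-- An involution centralised by `w` and inverting `A`. -/
theorem exists_fixed_inv : ∃ u : G, orderOf u = 2 ∧ u * w = w * u ∧ ∀ a ∈ D.AG, u * a * u⁻¹ = a⁻¹ := by
  classical
  haveI : Fact (Nat.Prime 3) := ⟨Nat.prime_three⟩
  let T := {x : G // x * D.t = D.t * x ∧ x * D.s = D.s * x ∧ x * x = 1 ∧ ∀ a ∈ D.AG, x * a * x⁻¹ = a⁻¹}
  obtain ⟨u, hu, hus, hinv, -⟩ := D.P.cent_cases
  have hu2 : (u : G) * u = 1 := by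
    rw [← pow_two, ← hu, ← Subgroup.orderOf_coe, pow_orderOf_eq_one]
  have hut : (u : G) * D.t = D.t * u := D.S.comm_t u.2
  have hus' : (u : G) * D.s = D.s * u := congrArg Subtype.val hus
  have huA : ∀ a ∈ D.AG, (u : G) * a * (u : G)⁻¹ = a⁻¹ := by
    rintro _ ⟨a, ha, rfl⟩; exact congrArg Subtype.val (hinv a ha)
  let F : D.V × D.AG → T := fun p => ⟨(u : G) * (p.1 * p.2), by
    obtain ⟨⟨r, hr⟩, a, ha⟩ := p
    obtain ⟨-, hat, has, -, -⟩ := D.A_elts ha
    have hrt : r * D.t = D.t * r := by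
      rcases hr with rfl | rfl | rfl | rfl
      · simp
      · rfl
      · exact D.ts_comm.symm
      · rw [mul_assoc, ← D.ts_comm]
    have hrs : r * D.s = D.s * r := by
      rcases hr with rfl | rfl | rfl | rfl
      · simp
      · exact D.ts_comm
      · rfl
      · rw [← mul_assoc, ← D.ts_comm]
    have hrA : ∀ b ∈ D.AG, (r * a) * b = b * (r * a) := fun b hb => by
      rw [mul_assoc, D.A_comm' ha hb, ← mul_assoc, D.V_cent_A hr hb, mul_assoc]
    have hur : (u : G) * r = r * u := by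
      rcases hr with rfl | rfl | rfl | rfl
      · simp
      · exact hut
      · exact hus'
      · rw [← mul_assoc, hut, mul_assoc, hus', mul_assoc]
    have hr2 : r * r = 1 := by
      rcases hr with rfl | rfl | rfl | rfl
      · simp
      · exact D.S.sq_t
      · exact D.sq_s
      · rw [show D.t * D.s * (D.t * D.s) = D.t * (D.s * D.t) * D.s by group, ← D.ts_comm,
          show D.t * (D.t * D.s) * D.s = (D.t * D.t) * (D.s * D.s) by group, D.S.sq_t, D.sq_s, one_mul]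
    have hconj : ∀ b ∈ D.AG, (u : G) * (r * a) * b * ((u : G) * (r * a))⁻¹ = b⁻¹ := fun b hb => by
      rw [mul_assoc (u : G), hrA b hb, ← huA b hb]; group
    refine ⟨?_, ?_, ?_, hconj⟩
    · show (u : G) * (r * a) * D.t = D.t * ((u : G) * (r * a))
      rw [mul_assoc, mul_assoc r, hat, ← mul_assoc r, hrt, mul_assoc D.t, ← mul_assoc, hut, mul_assoc]
    · show (u : G) * (r * a) * D.s = D.s * ((u : G) * (r * a))
      rw [mul_assoc, mul_assoc r, has, ← mul_assoc r, hrs, mul_assoc D.s, ← mul_assoc, hus', mul_assoc]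
    · show (u : G) * (r * a) * ((u : G) * (r * a)) = 1
      calc (u : G) * (r * a) * ((u : G) * (r * a))
          = (u : G) * r * (a * (u : G)) * (r * a) := by group
        _ = r * ((u : G) * a * (u : G)⁻¹) * ((u : G) * u) * (r * a) := by rw [hur]; group
        _ = r * (a⁻¹ * r) * a := by rw [huA a ha, hu2]; group
        _ = r * (r * a⁻¹) * a := by rw [D.V_cent_A hr (inv_mem ha)]
        _ = 1 := by rw [← mul_assoc, hr2]; group⟩
  have hF : Function.Bijective F := by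
    constructor
    · rintro ⟨⟨r, hr⟩, a, ha⟩ ⟨⟨r', hr'⟩, a', ha'⟩ e
      have e' : r * a = r' * a' := mul_left_cancel (congrArg Subtype.val e)
      have h1 : r'⁻¹ * r = a' * a⁻¹ := by
        calc r'⁻¹ * r = r'⁻¹ * (r * a) * a⁻¹ := by group
          _ = a' * a⁻¹ := by rw [e']; group
      have h2 : r'⁻¹ * r = 1 := D.V_inf_A (mul_mem (inv_mem hr') hr) (h1 ▸ mul_mem ha' (inv_mem ha))
      obtain rfl := inv_mul_eq_one.1 h2
      obtain rfl := mul_left_cancel e'
      rfl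
    · rintro ⟨x, hxt, hxs, hx2, hxA⟩
      obtain ⟨r, hr, hrA⟩ := D.cent_tA (x := (u : G)⁻¹ * x) (by
        have hut' : (u : G)⁻¹ * D.t = D.t * (u : G)⁻¹ := (Commute.inv_left hut).eq
        rw [mul_assoc, hxt, ← mul_assoc, hut', mul_assoc]) (fun a ha => by
        have h1 := hxA a ha
        have h2 := huA a ha
        calc (u : G)⁻¹ * x * a = (u : G)⁻¹ * (x * a * x⁻¹) * x := by group
          _ = (u : G)⁻¹ * ((u : G) * a * (u : G)⁻¹) * x := by rw [h1, h2]
          _ = a * ((u : G)⁻¹ * x) := by group)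
      exact ⟨(⟨r, hr⟩, ⟨_, hrA⟩), Subtype.ext (by
        show (u : G) * (r * (r⁻¹ * ((u : G)⁻¹ * x))) = x
        group)⟩
  have hcard : Nat.card T = 4 * D.P.m := by
    rw [← Nat.card_congr (Equiv.ofBijective F hF), Nat.card_prod,
      card_map_of_injective D.S.K.subtype_injective, D.P.card_A]
    congr 1
    have hset : (D.V : Set G) = ↑({1, D.t, D.s, D.t * D.s} : Finset G) := by
      ext x; simp [D.mem_V]
    rw [show Nat.card D.V = Set.ncard (D.V : Set G) from (Nat.card_coe_set_eq _), hset, Set.ncard_coe_finset]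
    have h1 : D.t ≠ 1 := fun e => by have := D.S.ht; rw [show D.S.t = 1 from e, orderOf_one] at this; omega
    have h2 : D.s ≠ 1 := fun e => by have := D.ord_s; rw [e, orderOf_one] at this; omega
    have h3 : D.t ≠ D.s := fun e => D.S.t_not_mem (show D.S.t ∈ D.S.K by rw [show D.S.t = D.s from e]; exact D.s_mem)
    have h4 : D.t * D.s ≠ 1 := fun e => D.S.not_both D.s_mem (e ▸ one_mem _)
    rw [Finset.card_insert_of_notMem (by simp [Ne.symm h1, Ne.symm h2, Ne.symm h4]),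
      Finset.card_insert_of_notMem (by simp [h3, h2]),
      Finset.card_insert_of_notMem (by simp [h1]), Finset.card_singleton]
  have hwts : w * (D.t * D.s) * w⁻¹ = D.t := by
    rw [show w * (D.t * D.s) * w⁻¹ = (w * D.t * w⁻¹) * (w * D.s * w⁻¹) by group, hwt, hws, ← mul_assoc,
      ← D.ts_comm, mul_assoc, D.sq_s, mul_one]
  have hmap : ∀ x : G, x * D.t = D.t * x → x * D.s = D.s * x → x * x = 1 → (∀ a ∈ D.AG, x * a * x⁻¹ = a⁻¹) →
      w * x * w⁻¹ * D.t = D.t * (w * x * w⁻¹) ∧ w * x * w⁻¹ * D.s = D.s * (w * x * w⁻¹) ∧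
      w * x * w⁻¹ * (w * x * w⁻¹) = 1 ∧ ∀ a ∈ D.AG, w * x * w⁻¹ * a * (w * x * w⁻¹)⁻¹ = a⁻¹ := by
    intro x h1 h2 h3 h4
    have hts : x * (D.t * D.s) = D.t * D.s * x := by rw [← mul_assoc, h1, mul_assoc, h2, mul_assoc]
    refine ⟨?_, ?_, ?_, fun a ha => ?_⟩
    · calc w * x * w⁻¹ * D.t = w * x * w⁻¹ * (w * (D.t * D.s) * w⁻¹) := by rw [hwts]
        _ = w * (x * (D.t * D.s)) * w⁻¹ := by group
        _ = (w * (D.t * D.s) * w⁻¹) * (w * x * w⁻¹) := by rw [hts]; group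
        _ = _ := by rw [hwts]
    · calc w * x * w⁻¹ * D.s = w * (x * D.t) * w⁻¹ := by rw [← hwt]; group
        _ = D.s * (w * x * w⁻¹) := by rw [h1, ← hwt]; group
    · calc w * x * w⁻¹ * (w * x * w⁻¹) = w * (x * x) * w⁻¹ := by group
        _ = 1 := by rw [h3, mul_one, mul_inv_cancel]
    · have hi : w⁻¹ * a = a * w⁻¹ := (Commute.inv_left (hwA a ha)).eq
      calc w * x * w⁻¹ * a * (w * x * w⁻¹)⁻¹ = w * x * (w⁻¹ * a) * w * x⁻¹ * w⁻¹ := by group
        _ = w * (x * a * x⁻¹) * w⁻¹ := by rw [hi]; group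
        _ = a⁻¹ := by rw [h4 a ha, hwA _ (inv_mem ha), mul_inv_cancel_right]
  let σ : T → T := fun x => ⟨w * x.1 * w⁻¹, hmap x.1 x.2.1 x.2.2.1 x.2.2.2.1 x.2.2.2.2⟩
  have hσ3 : ∀ x, σ (σ (σ x)) = x := fun x => Subtype.ext (by
    show w * (w * (w * x.1 * w⁻¹) * w⁻¹) * w⁻¹ = x.1
    calc _ = w ^ 3 * x.1 * (w ^ 3)⁻¹ := by simp only [pow_succ, pow_zero, one_mul]; group
      _ = x.1 := by rw [hw3]; group)
  let σe : Equiv.Perm T := ⟨σ, fun x => σ (σ x), hσ3, hσ3⟩
  haveI := Fintype.ofFinite T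
  obtain ⟨x, hx⟩ := Equiv.Perm.exists_fixed_point_of_prime (p := 3) (n := 1) (σ := σe) (by
    rw [← Nat.card_eq_fintype_card, hcard]; intro h; have := D.P.h3; omega)
    (Equiv.ext fun x => by rw [pow_one, pow_succ, pow_two]; exact hσ3 x)
  have hx' : w * x.1 * w⁻¹ = x.1 := congrArg Subtype.val hx
  refine ⟨x.1, orderOf_eq_prime (by rw [pow_two]; exact x.2.2.2.1) fun e => ?_, (mul_inv_eq_iff_eq_mul.1 hx').symm,
    x.2.2.2.2⟩
  obtain ⟨a0, ha0, ha01⟩ := D.A_nontrivial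
  have h := x.2.2.2.2 _ ⟨a0, ha0, rfl⟩
  rw [e, one_mul, inv_one, mul_one] at h
  refine ha01 (KData.sq_eq_one_of_odd (D.P.odd_of_mem_A ha0) (Subtype.ext ?_))
  show (a0 : G) * a0 = 1
  calc (a0 : G) * a0 = (a0 : G) * (a0 : G)⁻¹ := by rw [← show (a0 : G) = (a0 : G)⁻¹ from h]
    _ = 1 := mul_inv_cancel _

end Fixed

theorem three_not_dvd_rest : ¬ 3 ∣ D.P.m * (2 * D.P.m - 1) := by
  intro h
  rcases Nat.prime_three.dvd_mul.1 h with h | h
  · exact D.P.h3 h
  · obtain ⟨k, hk⟩ := D.P.hpow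
    have := D.P.q27
    have h3 : 3 ∣ D.P.q := by
      rcases k with _ | k
      · simp at hk; omega
      · exact hk ▸ dvd_pow_self 3 (Nat.succ_ne_zero k)
    have := D.P.hq
    omega

section Small

variable (hI : ¬ 3 ∣ D.S.C.index)
include hI

/-- Elements of order prime to six centralising an element of `U` commute. -/
theorem odd3_comm {y : D.S.K} (hy : y ∈ D.P.U) (hy1 : y ≠ 1) {a b : G} (hay : a * (y : G) = (y : G) * a)
    (hby : b * (y : G) = (y : G) * b) (ha2 : Odd (orderOf a)) (ha3 : ¬ 3 ∣ orderOf a) (hb2 : Odd (orderOf b))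
    (hb3 : ¬ 3 ∣ orderOf b) : a * b = b * a := by
  classical
  haveI : Fact (Nat.Prime 2) := ⟨Nat.prime_two⟩
  haveI : Fact (Nat.Prime 3) := ⟨Nat.prime_three⟩
  set L := centralizer ({(y : G)} : Set G)
  have hLm : ∀ {x : G}, x ∈ L ↔ x * (y : G) = (y : G) * x := fun {x} => mem_centralizer_singleton_iff
  let τ : L := ⟨D.t, hLm.2 (D.S.comm_t y.2).symm⟩
  have hτ : orderOf τ = 2 := by rw [Subgroup.orderOf_mk]; exact D.S.ht
  obtain ⟨O, hOn, hOodd, hτO, hOmem⟩ := exists_odd_core hτ (fun x hx ⟨k, hk⟩ => by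
    rcases D.two_elt_U hy hy1 (x := (x : G)) (congrArg Subtype.val hx.eq) (hLm.1 x.2)
      ⟨k, congrArg Subtype.val hk⟩ with h | h
    · exact Or.inl (Subtype.ext h)
    · exact Or.inr (Subtype.ext h))
    (fun T x hx z hz => Subtype.ext (D.two_comm (T.2.map L.subtype) ⟨x, hx, rfl⟩ ⟨z, hz, rfl⟩))
  haveI := hOn
  have hUL : ∀ z ∈ D.P.U, (z : G) ∈ L := fun z hz => hLm.2 (congrArg Subtype.val (D.P.U_comm z hz y hy))
  have hUO : ∀ z (hz : z ∈ D.P.U), (⟨(z : G), hUL z hz⟩ : L) ∈ O := fun z hz =>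
    hOmem _ (by rw [Subgroup.orderOf_mk, Subgroup.orderOf_coe]; exact D.P.odd_of_mem_U hz)
  let j : D.P.U →* O :=
    { toFun := fun z => ⟨⟨((z : D.S.K) : G), hUL z z.2⟩, hUO z z.2⟩
      map_one' := rfl
      map_mul' := fun _ _ => rfl }
  have hjinj : Function.Injective j := fun z z' e =>
    Subtype.ext (Subtype.ext (congrArg (fun v : O => ((v : L) : G)) e))
  obtain ⟨k, hk⟩ := D.P.hpow
  have hjc : Nat.card j.range = D.P.q := by
    rw [← Nat.card_congr (MonoidHom.ofInjective hjinj).toEquiv, D.P.card_U]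
  have hdvdG : Nat.card O ∣ Nat.card G := (card_subgroup_dvd_card O).trans (card_subgroup_dvd_card L)
  have hidx : ¬ 3 ∣ j.range.index := by
    intro h
    have h1 : D.P.q * 3 ∣ Nat.card G := by
      refine dvd_trans ?_ hdvdG
      rw [← j.range.card_mul_index, hjc]
      exact mul_dvd_mul_left _ h
    obtain ⟨-, -, -⟩ := D.card_G
    rw [← D.S.C.card_mul_index, D.card_C,
      show 8 * (D.P.q * D.P.m * (2 * D.P.m - 1)) * D.S.C.index =
        D.P.q * (8 * (D.P.m * (2 * D.P.m - 1)) * D.S.C.index) by ring] at h1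
    have h2 := Nat.dvd_of_mul_dvd_mul_left (by have := D.P.q27; omega) h1
    rcases Nat.prime_three.dvd_mul.1 h2 with h3 | h3
    · rcases Nat.prime_three.dvd_mul.1 h3 with h4 | h4
      · norm_num at h4
      · exact D.three_not_dvd_rest h4
    · exact hI h3
  let R : Sylow 3 O := (IsPGroup.of_card (n := k) (hjc.trans hk)).toSylow hidx
  have hR : (R : Subgroup O) = j.range := rfl
  have hRm : ∀ v ∈ (R : Subgroup O), ∃ z ∈ D.P.U, ((v : L) : G) = (z : G) := by
    rw [hR]; rintro _ ⟨z, rfl⟩; exact ⟨z, z.2, rfl⟩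
  have hNC : normalizer ((R : Subgroup O) : Set O) ≤ centralizer ((R : Subgroup O) : Set O) := by
    intro x hx
    -- `t` and its conjugate are involutions of `C(U)`
    have hnorm : ∀ z ∈ D.P.U, ∃ z' ∈ D.P.U, ((x : L) : G) * z * ((x : L) : G)⁻¹ = (z' : G) := fun z hz =>
      hRm _ ((mem_normalizer_iff.1 hx (j ⟨z, hz⟩)).1 (hR ▸ ⟨⟨z, hz⟩, rfl⟩))
    have hnorm' : ∀ z ∈ D.P.U, ∃ z' ∈ D.P.U, (((x : L) : G))⁻¹ * z * ((x : L) : G) = (z' : G) := fun z hz => by
      have h := hRm _ ((mem_normalizer_iff.1 (inv_mem hx) (j ⟨z, hz⟩)).1 (hR ▸ ⟨⟨z, hz⟩, rfl⟩))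
      obtain ⟨z', hz', e⟩ := h
      refine ⟨z', hz', ?_⟩
      simp at e
      exact e
    set g : G := ((x : L) : G) with hg
    set CU := centralizer (((D.P.U.map D.S.K.subtype : Subgroup G)) : Set G) with hCU
    have hCUm : ∀ {v : G}, v ∈ CU ↔ ∀ z ∈ D.P.U, v * (z : G) = (z : G) * v := fun {v} => by
      rw [hCU, mem_centralizer_iff]
      refine ⟨fun h z hz => (h _ ⟨z, hz, rfl⟩).symm, ?_⟩
      rintro h _ ⟨z, hz, rfl⟩
      exact (h z hz).symm
    have htU : D.t ∈ CU := hCUm.2 fun z _ => (D.S.comm_t z.2).symm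
    have htgU : g * D.t * g⁻¹ ∈ CU := hCUm.2 fun z hz => by
      obtain ⟨z', -, e⟩ := hnorm' z hz
      calc g * D.t * g⁻¹ * (z : G) = g * (D.t * (g⁻¹ * z * g)) * g⁻¹ := by group
        _ = g * ((z' : G) * D.t) * g⁻¹ := by rw [e, D.S.comm_t z'.2]
        _ = g * ((g⁻¹ * z * g) * D.t) * g⁻¹ := by rw [e]
        _ = (z : G) * (g * D.t * g⁻¹) := by group
    let a1 : CU := ⟨D.t, htU⟩
    let a2 : CU := ⟨_, htgU⟩
    have ho1 : orderOf a1 = 2 := by rw [Subgroup.orderOf_mk]; exact D.S.ht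
    have ho2 : orderOf a2 = 2 := by
      rw [Subgroup.orderOf_mk, show g * D.t * g⁻¹ = MulAut.conj g D.t from rfl, MulEquiv.orderOf_eq, D.S.ht]
    obtain ⟨S1, hS1⟩ := (IsPGroup.of_card (p := 2) (n := 1) (G := zpowers a1) (by
      rw [Nat.card_zpowers, ho1, pow_one])).exists_le_sylow
    obtain ⟨S2, hS2⟩ := (IsPGroup.of_card (p := 2) (n := 1) (G := zpowers a2) (by
      rw [Nat.card_zpowers, ho2, pow_one])).exists_le_sylow
    obtain ⟨c, hc⟩ := MulAction.exists_smul_eq CU S1 S2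
    have h2 := hS2 (mem_zpowers a2)
    rw [← hc, Sylow.coe_subgroup_smul] at h2
    obtain ⟨v, hv, hvv⟩ := h2
    have hvv' : c * v * c⁻¹ = a2 := hvv
    have hv1 : v = a1 := by
      obtain ⟨n, hn⟩ := S1.2 ⟨v, hv⟩
      have hn' : v ^ 2 ^ n = 1 := congrArg Subtype.val hn
      rcases D.two_elt_U hy hy1 (x := (v : G))
        (D.two_comm (S1.2.map CU.subtype) ⟨v, hv, rfl⟩ ⟨a1, hS1 (mem_zpowers a1), rfl⟩)
        (hCUm.1 v.2 y hy) ⟨n, congrArg Subtype.val hn'⟩ with h | h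
      · exfalso
        rw [← hvv', show v = 1 from Subtype.ext h, mul_one, mul_inv_cancel, orderOf_one] at ho2
        omega
      · exact Subtype.ext h
    rw [hv1] at hvv'
    have hct : (c : G) * D.t * (c : G)⁻¹ = g * D.t * g⁻¹ := congrArg Subtype.val hvv'
    have hcy : (c : G) * (y : G) = (y : G) * c := hCUm.1 c.2 y hy
    have hgy : g * (y : G) = (y : G) * g := hLm.1 (x : L).2
    obtain ⟨z0, hz0, he⟩ := D.cent_U hy hy1 (x := (c : G)⁻¹ * g) (by
      calc (c : G)⁻¹ * g * D.t = (c : G)⁻¹ * (g * D.t * g⁻¹) * g := by group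
        _ = D.t * ((c : G)⁻¹ * g) := by rw [← hct]; group) (by
      rw [mul_assoc, hgy, ← mul_assoc, (Commute.inv_left hcy).eq, mul_assoc])
    have hcg : (c : G)⁻¹ * g ∈ CU := by
      have hz : (z0 : G) ∈ CU := hCUm.2 fun z hz => congrArg Subtype.val (D.P.U_comm z0 hz0 z hz)
      rcases he with he | he <;> rw [he]
      · exact hz
      · exact mul_mem htU hz
    have hgU : g ∈ CU := by
      have := mul_mem c.2 hcg
      rwa [mul_inv_cancel_left] at this
    refine mem_centralizer_iff.2 fun v hv => ?_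
    obtain ⟨z, hz, hvz⟩ := hRm v hv
    apply Subtype.ext
    apply Subtype.ext
    show ((v : L) : G) * g = g * ((v : L) : G)
    rw [hvz]
    exact (hCUm.1 hgU z hz).symm
  have hcomp := MonoidHom.ker_transferSylow_isComplement' R hNC
  set X0 := (MonoidHom.transferSylow R hNC).ker
  have hX3 : ¬ 3 ∣ Nat.card X0 := by
    have h1 : Nat.card X0 = (R : Subgroup O).index := by
      have := (R : Subgroup O).card_mul_index
      rw [← hcomp.card_mul, mul_comm (Nat.card X0)] at this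
      exact (Nat.eq_of_mul_eq_mul_left Nat.card_pos this).symm
    rw [h1]; exact R.not_dvd_index
  have hmemX : ∀ v : O, ¬ 3 ∣ orderOf v → v ∈ X0 := by
    intro v hv
    rw [MonoidHom.mem_ker]
    obtain ⟨n, hn⟩ := IsPGroup.iff_orderOf.1 R.2 (MonoidHom.transferSylow R hNC v)
    have hd : orderOf (MonoidHom.transferSylow R hNC v) ∣ orderOf v := orderOf_map_dvd _ v
    rcases n with _ | n
    · rw [pow_zero] at hn; exact orderOf_eq_one_iff.1 hn
    · exact absurd ((dvd_pow_self 3 (Nat.succ_ne_zero n)).trans (hn ▸ hd)) hv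
  -- `t` acts on the complement without fixed points
  set X : Subgroup L := X0.map O.subtype with hX
  have hXmem : ∀ v : L, v ∈ X ↔ v ∈ O ∧ ¬ 3 ∣ orderOf v := by
    refine fun v => ⟨?_, fun ⟨h1, h2⟩ => ⟨⟨v, h1⟩, hmemX _ (by rwa [Subgroup.orderOf_mk]), rfl⟩⟩
    rintro ⟨v', hv', rfl⟩
    refine ⟨v'.2, fun h => hX3 ?_⟩
    rw [coe_subtype, Subgroup.orderOf_coe] at h
    exact h.trans (Subgroup.orderOf_dvd_natCard X0 hv')
  have hττ : τ * τ = 1 := Subtype.ext D.S.sq_t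
  have hXc : ∀ v ∈ X, τ * v * τ⁻¹ ∈ X := fun v hv => by
    obtain ⟨h1, h2⟩ := (hXmem v).1 hv
    refine (hXmem _).2 ⟨hOn.conj_mem v h1 τ, ?_⟩
    rwa [show τ * v * τ⁻¹ = MulAut.conj τ v from rfl, MulEquiv.orderOf_eq]
  let φ : X →* X :=
    { toFun := fun v => ⟨τ * v * τ⁻¹, hXc v v.2⟩
      map_one' := Subtype.ext (by simp)
      map_mul' := fun v v' => Subtype.ext (by simp [mul_assoc]) }
  have hfpf : MonoidHom.FixedPointFree φ := by
    intro v hv
    have e : τ * (v : L) * τ⁻¹ = v := congrArg Subtype.val hv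
    have e' : ((v : L) : G) * D.t = D.t * ((v : L) : G) :=
      congrArg Subtype.val (mul_inv_eq_iff_eq_mul.1 e).symm
    obtain ⟨hvO, hv3⟩ := (hXmem v).1 v.2
    have hvodd : Odd (orderOf (v : L)) := by
      refine hOodd.of_dvd_nat ?_
      exact Subgroup.orderOf_dvd_natCard O hvO
    obtain ⟨z, hz, hz'⟩ := D.cent_U hy hy1 e' (hLm.1 (v : L).2)
    have hvK : ((v : L) : G) ∈ D.S.K := D.odd_mem_K (D.S.mem_C.2 e') (by rw [Subgroup.orderOf_coe]; exact hvodd)
    have hvz : ((v : L) : G) = (z : G) := hz'.resolve_right fun h => D.S.not_both z.2 (h ▸ hvK)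
    have hzo : orderOf z ∣ 3 ^ k := hk ▸ D.P.orderOf_U hz
    rw [← Subgroup.orderOf_coe, hvz, Subgroup.orderOf_coe] at hv3
    obtain ⟨i, -, hi⟩ := (Nat.dvd_prime_pow Nat.prime_three).1 hzo
    rcases i with _ | i
    · rw [pow_zero] at hi
      refine Subtype.ext (Subtype.ext ?_)
      rw [hvz, orderOf_eq_one_iff.1 hi]; rfl
    · exact absurd (hi ▸ dvd_pow_self 3 (Nat.succ_ne_zero i)) hv3
  have hφ2 : φ^[2] = id := funext fun v => Subtype.ext (by
    show τ * (τ * (v : L) * τ⁻¹) * τ⁻¹ = v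
    calc τ * (τ * (v : L) * τ⁻¹) * τ⁻¹ = (τ * τ) * (v : L) * (τ * τ)⁻¹ := by group
      _ = v := by rw [hττ]; group)
  have hinvmap := hfpf.coe_eq_inv_of_sq_eq_one hφ2
  have hXab : ∀ v v' : X, v * v' = v' * v := by
    intro v v'
    have h1 : φ (v * v') = (v * v')⁻¹ := congrFun hinvmap _
    rw [map_mul, congrFun hinvmap v, congrFun hinvmap v', mul_inv_rev] at h1
    have := congrArg (·⁻¹) h1
    simpa using this.symm
  have hin : ∀ (c : G) (hc : c * (y : G) = (y : G) * c), Odd (orderOf c) → ¬ 3 ∣ orderOf c →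
      (⟨c, hLm.2 hc⟩ : L) ∈ X := fun c hc h2 h3 =>
    (hXmem _).2 ⟨hOmem _ (by rwa [Subgroup.orderOf_mk]), by rwa [Subgroup.orderOf_mk]⟩
  have := hXab ⟨_, hin a hay ha2 ha3⟩ ⟨_, hin b hby hb2 hb3⟩
  exact congrArg (fun v : X => ((v : L) : G)) this

/-- `w` moves `A`. -/
theorem w_moves {w : G} (hw3 : w ^ 3 = 1) (hwt : w * D.t * w⁻¹ = D.s) (hws : w * D.s * w⁻¹ = D.t * D.s) :
    ∃ a ∈ D.AG, w * a ≠ a * w := by
  classical
  by_contra! hwA
  obtain ⟨hMcard, hMm⟩ := D.cent_A_struct hw3 hwt hws hwA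
  obtain ⟨u, hu, huw, huA⟩ := D.exists_fixed_inv hw3 hwt hws hwA
  obtain ⟨c, hc⟩ := isConj_iff.1 (D.hconj u hu)
  have hw1 : w ≠ 1 := fun e => by
    rw [e, one_mul, inv_one, mul_one] at hwt
    exact D.S.t_not_mem (show D.S.t ∈ D.S.K by rw [show D.S.t = D.s from hwt]; exact D.s_mem)
  have hwo : orderOf w = 3 := orderOf_eq_prime hw3 hw1
  have hy0o : orderOf (c⁻¹ * w * c) = 3 := by
    rw [show c⁻¹ * w * c = MulAut.conj c⁻¹ w by simp [MulAut.conj_apply], MulEquiv.orderOf_eq, hwo]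
  have hy0C : c⁻¹ * w * c ∈ D.S.C := D.S.mem_C.2 (by
    calc c⁻¹ * w * c * D.t = c⁻¹ * (w * (c * D.t * c⁻¹)) * c := by group
      _ = c⁻¹ * (u * w) * c := by rw [hc, huw]
      _ = D.t * (c⁻¹ * w * c) := by rw [← hc]; group)
  have hy0K := D.odd_mem_K hy0C (by rw [hy0o]; decide)
  obtain ⟨k, hk⟩ := D.conj_into_U (y := ⟨_, hy0K⟩) ⟨1, by rw [Subgroup.orderOf_mk, hy0o, pow_one]⟩
  set y : D.S.K := k⁻¹ * ⟨_, hy0K⟩ * k with hy
  set g : G := c * k with hg
  have hgy : g * (y : G) * g⁻¹ = w := by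
    rw [hg, hy]; simp only [Subgroup.coe_mul, Subgroup.coe_inv]; group
  have hy1 : y ≠ 1 := fun e => hw1 (by rw [← hgy, e, OneMemClass.coe_one]; group)
  set M := centralizer (D.AG : Set G)
  set U' : Subgroup G := (D.P.U.map D.S.K.subtype).map (MulAut.conj g).toMonoidHom
  have hU'mem : ∀ v ∈ U', ∃ z ∈ D.P.U, v = g * (z : G) * g⁻¹ := by
    rintro _ ⟨_, ⟨z, hz, rfl⟩, rfl⟩; exact ⟨z, hz, rfl⟩
  have hU'card : Nat.card U' = D.P.q := by
    rw [card_map_of_injective (MulAut.conj g).injective, card_map_of_injective D.S.K.subtype_injective, D.P.card_U]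
  have hA6 : ∀ a ∈ D.AG, Odd (orderOf a) ∧ ¬ 3 ∣ orderOf a := fun a ha =>
    ⟨D.P.hm.of_dvd_nat (D.A_elts ha).2.2.2.1, fun h => D.P.h3 (h.trans (D.A_elts ha).2.2.2.1)⟩
  have hwd : ∀ {x : G}, x * w = w * x → (g⁻¹ * x * g) * (y : G) = (y : G) * (g⁻¹ * x * g) := by
    intro x hx
    calc g⁻¹ * x * g * (y : G) = g⁻¹ * (x * (g * (y : G) * g⁻¹)) * g := by group
      _ = g⁻¹ * (w * x) * g := by rw [hgy, hx]
      _ = (y : G) * (g⁻¹ * x * g) := by rw [← hgy]; group
  have hord : ∀ x : G, orderOf (g⁻¹ * x * g) = orderOf x := fun x => by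
    rw [show g⁻¹ * x * g = MulAut.conj g⁻¹ x by simp [MulAut.conj_apply], MulEquiv.orderOf_eq]
  -- `U'` normalises `A`
  have hUA : ∀ v ∈ U', ∀ a ∈ D.AG, v * a * v⁻¹ ∈ D.AG := by
    intro v hv a ha
    obtain ⟨z, hz, rfl⟩ := hU'mem v hv
    have hvw : g * (z : G) * g⁻¹ * w = w * (g * (z : G) * g⁻¹) := by
      rw [← hgy, show g * (z : G) * g⁻¹ * (g * (y : G) * g⁻¹) = g * ((z : G) * y) * g⁻¹ by group,
        show (z : G) * y = (y : G) * z from congrArg Subtype.val (D.P.U_comm z hz y hk)]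
      group
    set v := g * (z : G) * g⁻¹
    set b := v * a * v⁻¹
    have hbw : b * w = w * b := by
      have h1 : v⁻¹ * w = w * v⁻¹ := (Commute.inv_left hvw).eq
      calc v * a * v⁻¹ * w = v * (a * w) * v⁻¹ := by rw [mul_assoc (v * a), h1]; group
        _ = v * w * a * v⁻¹ := by rw [← hwA a ha]; group
        _ = w * (v * a * v⁻¹) := by rw [hvw]; group
    have hbo : orderOf b = orderOf a := by
      rw [show b = MulAut.conj v a from rfl, MulEquiv.orderOf_eq]
    refine hMm b (mem_centralizer_iff.2 fun a' ha' => ?_) ?_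
    · obtain ⟨h1, h2⟩ := hA6 a ha
      obtain ⟨h1', h2'⟩ := hA6 a' ha'
      have h := D.odd3_comm hI hk hy1 (hwd (hwA a' ha').symm) (hwd hbw) (by rw [hord]; exact h1')
        (by rw [hord]; exact h2') (by rw [hord, hbo]; exact h1) (by rw [hord, hbo]; exact h2)
      calc a' * b = g * ((g⁻¹ * a' * g) * (g⁻¹ * b * g)) * g⁻¹ := by group
        _ = b * a' := by rw [h]; group
    · rw [← orderOf_dvd_iff_pow_eq_one, hbo]; exact (D.A_elts ha).2.2.2.1
  -- counting in the normaliser of `M`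
  haveI : Fact (Nat.Prime 2) := ⟨Nat.prime_two⟩
  set NM := normalizer (M : Set G)
  have hUN : U' ≤ NM := by
    intro v hv
    refine mem_normalizer_iff.2 fun x => ⟨fun hx => mem_centralizer_iff.2 fun a ha => ?_,
      fun hx => mem_centralizer_iff.2 fun a ha => ?_⟩
    · have h1 := mem_centralizer_iff.1 hx _ (hUA v⁻¹ (inv_mem hv) a ha)
      rw [inv_inv] at h1
      calc a * (v * x * v⁻¹) = v * ((v⁻¹ * a * v) * x) * v⁻¹ := by group
        _ = (v * x * v⁻¹) * a := by rw [h1]; group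
    · have h1 := mem_centralizer_iff.1 hx _ (hUA v hv a ha)
      calc a * x = v⁻¹ * ((v * a * v⁻¹) * (v * x * v⁻¹)) * v := by group
        _ = x * a := by rw [h1]; group
  set NV := normalizer (D.V : Set G)
  have hMN : M ≤ NM := le_normalizer
  haveI hMn : (M.subgroupOf NM).Normal := Subgroup.normal_in_normalizer
  have hwM : w ∈ M := mem_centralizer_iff.2 fun a ha => (hwA a ha).symm
  have hVM : D.V ≤ M := fun r hr => mem_centralizer_iff.2 fun b hb => (D.V_cent_A hr hb).symm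
  have hwV : w ∈ NV := mem_normalizer_fintype' fun x hx => D.w_V hw3 hwt hws hwA hx
  -- Frattini
  have hV4 : ¬ 2 ∣ (D.V.subgroupOf M).index ∧ IsPGroup 2 (D.V.subgroupOf M) := by
    have hVp : IsPGroup 2 D.V := by
      obtain ⟨E, -, -, -, -, -, -, htE, hsE, -⟩ := D.exists_E
      refine E.2.to_le fun x hx => ?_
      rcases hx with rfl | rfl | rfl | rfl
      exacts [one_mem _, htE, hsE, mul_mem htE hsE]
    have hp : IsPGroup 2 (D.V.subgroupOf M) := hVp.of_equiv (subgroupOfEquivOfLe hVM).symm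
    obtain ⟨T, hT⟩ := hp.exists_le_sylow
    have hTV : (T : Subgroup M) = D.V.subgroupOf M := by
      refine le_antisymm (fun x hx => mem_subgroupOf.2 ?_) hT
      have hxt : (x : G) * D.t = D.t * x :=
        congrArg Subtype.val (show x * ⟨D.t, hVM (Or.inr (Or.inl rfl))⟩ = _ * x from
          Subtype.ext (D.two_comm (T.2.map M.subtype) ⟨x, hx, rfl⟩
            ⟨⟨D.t, hVM (Or.inr (Or.inl rfl))⟩, hT (mem_subgroupOf.2 (Or.inr (Or.inl rfl))), rfl⟩))
      obtain ⟨r, hr, hrA⟩ := D.cent_tA hxt (fun a ha => (mem_centralizer_iff.1 x.2 a ha).symm)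
      obtain ⟨n, hn⟩ := T.2 ⟨x, hx⟩
      have hxn : (x : G) ^ 2 ^ n = 1 := congrArg Subtype.val (congrArg Subtype.val hn)
      have hra : Commute r (r⁻¹ * (x : G)) := D.V_cent_A hr hrA
      have hr2 : r ^ 2 ^ (n + 1) = 1 := by
        rw [pow_succ', pow_mul, pow_two]
        rcases hr with rfl | rfl | rfl | rfl
        · simp
        · rw [D.S.sq_t, one_pow]
        · rw [D.sq_s, one_pow]
        · rw [show D.t * D.s * (D.t * D.s) = D.t * (D.s * D.t) * D.s by group, ← D.ts_comm,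
            show D.t * (D.t * D.s) * D.s = (D.t * D.t) * (D.s * D.s) by group, D.S.sq_t, D.sq_s, one_mul, one_pow]
      have ha1 : (r⁻¹ * (x : G)) ^ 2 ^ (n + 1) = 1 := by
        have h := hra.mul_pow (2 ^ (n + 1))
        rw [mul_inv_cancel_left, hr2, one_mul, pow_succ, pow_mul, hxn, one_pow] at h
        exact h.symm
      have h1 : r⁻¹ * (x : G) = 1 := orderOf_eq_one_iff.1 (Nat.eq_one_of_dvd_coprimes
        (Nat.Coprime.pow_right (n + 1) (Nat.coprime_two_right.2 D.P.hm)) (D.A_elts hrA).2.2.2.1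
        (orderOf_dvd_of_pow_eq_one ha1))
      rw [← inv_mul_eq_one.1 h1]; exact hr
    exact ⟨hTV ▸ T.not_dvd_index, hp⟩
  let PV : Sylow 2 M := hV4.2.toSylow hV4.1
  have hdec : ∀ n ∈ NM, ∃ a ∈ M, ∃ b ∈ NV, a * b = n := by
    intro n hn
    let e : M ≃* M :=
      { toFun := fun x => ⟨n * x * n⁻¹, (mem_normalizer_iff.1 hn x).1 x.2⟩
        invFun := fun x => ⟨n⁻¹ * x * n, (mem_normalizer_iff.1 hn (n⁻¹ * x * n)).2 (by
          rw [show n * (n⁻¹ * (x : G) * n) * n⁻¹ = x by group]; exact x.2)⟩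
        left_inv := fun x => Subtype.ext (by show n⁻¹ * (n * (x : G) * n⁻¹) * n = x; group)
        right_inv := fun x => Subtype.ext (by show n * (n⁻¹ * (x : G) * n) * n⁻¹ = x; group)
        map_mul' := fun x x' => Subtype.ext (by
          show n * ((x : G) * x') * n⁻¹ = n * x * n⁻¹ * (n * x' * n⁻¹); group) }
    obtain ⟨m, hm⟩ := MulAction.exists_smul_eq M (PV.mapSurjective (f := e.toMonoidHom) e.surjective) PV
    refine ⟨(m : G)⁻¹, inv_mem m.2, (m : G) * n, mem_normalizer_fintype' fun x hx => ?_, by group⟩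
    have hx' : m * e ⟨x, hVM hx⟩ * m⁻¹ ∈ ((m • PV.mapSurjective (f := e.toMonoidHom) e.surjective : Sylow 2 M) :
        Subgroup M) := by
      rw [Sylow.coe_subgroup_smul]
      exact ⟨e ⟨x, hVM hx⟩, ⟨⟨x, hVM hx⟩, mem_subgroupOf.2 hx, rfl⟩, rfl⟩
    rw [hm] at hx'
    have h'' : (m : G) * (n * x * n⁻¹) * (m : G)⁻¹ ∈ D.V := mem_subgroupOf.1 hx'
    rwa [show (m : G) * n * x * ((m : G) * n)⁻¹ = (m : G) * (n * x * n⁻¹) * (m : G)⁻¹ by group]
  -- `q` divides `|N(V)|`
  have hqNV : D.P.q ∣ Nat.card NV := by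
    let H := NV ⊓ NM
    have hsup : H.subgroupOf NM ⊔ M.subgroupOf NM = ⊤ := by
      refine eq_top_iff.2 fun n _ => ?_
      obtain ⟨a, ha, b, hb, hab⟩ := hdec n n.2
      have hbN : b ∈ NM := by
        have := mul_mem (inv_mem (hMN ha)) n.2
        rwa [← hab, inv_mul_cancel_left] at this
      rw [show n = (⟨a, hMN ha⟩ : NM) * ⟨b, hbN⟩ from Subtype.ext hab.symm]
      exact mul_mem (mem_sup_right (mem_subgroupOf.2 ha)) (mem_sup_left (mem_subgroupOf.2 ⟨hb, hbN⟩))
    have hrel : M.relIndex NM = M.relIndex H := by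
      show (M.subgroupOf NM).index = _
      rw [← relIndex_top_right, ← hsup, relIndex_sup_right, relIndex_subgroupOf inf_le_right]
    have h1 : Nat.card NM * Nat.card (M ⊓ H : Subgroup G) = Nat.card M * Nat.card H := by
      have e1 : Nat.card M * M.relIndex NM = Nat.card NM := by
        rw [← Nat.card_congr (subgroupOfEquivOfLe hMN).toEquiv]; exact (M.subgroupOf NM).card_mul_index
      have e2 : Nat.card (M ⊓ H : Subgroup G) * M.relIndex H = Nat.card H := by
        rw [← inf_relIndex_right M H, ← Nat.card_congr (subgroupOfEquivOfLe (inf_le_right : M ⊓ H ≤ H)).toEquiv]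
        exact ((M ⊓ H).subgroupOf H).card_mul_index
      rw [← e1, ← e2, hrel]; ring
    have h3 : 3 ∣ Nat.card (M ⊓ H : Subgroup G) := by
      have := Subgroup.orderOf_dvd_natCard (M ⊓ H) (show w ∈ M ⊓ H from ⟨hwM, hwV, hMN hwM⟩)
      rwa [hwo] at this
    have h4 : D.P.q * 3 ∣ 60 * D.P.m * Nat.card H := by
      refine dvd_trans ?_ (mul_dvd_mul_right hMcard _)
      rw [← h1, ← hU'card]
      exact mul_dvd_mul (card_dvd_of_le hUN) h3
    have h5 : D.P.q * 3 ∣ 3 * (20 * D.P.m * Nat.card H) := by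
      rwa [show 3 * (20 * D.P.m * Nat.card H) = 60 * D.P.m * Nat.card H by ring]
    rw [mul_comm D.P.q] at h5
    have h6 := Nat.dvd_of_mul_dvd_mul_left (by norm_num) h5
    obtain ⟨n, hn⟩ := D.P.hpow
    have hcop : Nat.Coprime D.P.q (20 * D.P.m) := by
      rw [hn]
      refine Nat.Coprime.pow_left n (Nat.Coprime.mul_right (by norm_num) ?_)
      exact Nat.prime_three.coprime_iff_not_dvd.2 D.P.h3
    exact (hcop.dvd_of_dvd_mul_left h6).trans (card_dvd_of_le inf_le_left)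
  -- but `C(V)` has order prime to three and index at most `16`
  set CV := (centralizer ({D.t, D.s} : Set G)).subgroupOf NV
  have hC3 : Nat.Coprime D.P.q (Nat.card CV) := by
    obtain ⟨n, hn⟩ := D.P.hpow
    rw [hn]
    refine Nat.Coprime.pow_left n (Nat.prime_three.coprime_iff_not_dvd.2 fun h => ?_)
    haveI : Fact (Nat.Prime 3) := ⟨Nat.prime_three⟩
    obtain ⟨x, hx⟩ := exists_prime_orderOf_dvd_card' 3 h
    have hx' : orderOf (((x : CV) : NV) : G) = 3 := by rw [Subgroup.orderOf_coe, Subgroup.orderOf_coe, hx]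
    have hxc := mem_subgroupOf.1 (x : CV).2
    rw [mem_centralizer_iff] at hxc
    have hA := D.odd_CV (hxc D.t (Set.mem_insert _ _)).symm
      (hxc D.s (Set.mem_insert_of_mem _ rfl)).symm (by rw [hx']; decide)
    exact D.P.h3 (hx' ▸ (D.A_elts hA).2.2.2.1)
  have hk16 : CV.index ≤ 16 := by
    have htV : D.t ∈ D.V := Or.inr (Or.inl rfl)
    have hsV : D.s ∈ D.V := Or.inr (Or.inr (Or.inl rfl))
    let f : NV → D.V × D.V := fun n => (⟨(n : G) * D.t * (n : G)⁻¹, (mem_normalizer_iff.1 n.2 _).1 htV⟩,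
      ⟨(n : G) * D.s * (n : G)⁻¹, (mem_normalizer_iff.1 n.2 _).1 hsV⟩)
    have hinj : ∀ n n' : NV, f n = f n' → n⁻¹ * n' ∈ CV := by
      intro n n' e
      have e1 : (n : G) * D.t * (n : G)⁻¹ = (n' : G) * D.t * (n' : G)⁻¹ :=
        congrArg (fun p : D.V × D.V => (p.1 : G)) e
      have e2 : (n : G) * D.s * (n : G)⁻¹ = (n' : G) * D.s * (n' : G)⁻¹ :=
        congrArg (fun p : D.V × D.V => (p.2 : G)) e
      refine mem_subgroupOf.2 (mem_centralizer_iff.2 ?_)
      rintro v (rfl | rfl)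
      · show D.t * ((n : G)⁻¹ * n') = (n : G)⁻¹ * n' * D.t
        calc D.t * ((n : G)⁻¹ * n') = (n : G)⁻¹ * ((n : G) * D.t * (n : G)⁻¹) * n' := by group
          _ = (n : G)⁻¹ * n' * D.t := by rw [e1]; group
      · show D.s * ((n : G)⁻¹ * n') = (n : G)⁻¹ * n' * D.s
        calc D.s * ((n : G)⁻¹ * n') = (n : G)⁻¹ * ((n : G) * D.s * (n : G)⁻¹) * n' := by group
          _ = (n : G)⁻¹ * n' * D.s := by rw [e2]; group
    let F : (NV ⧸ CV) → D.V × D.V := fun x => f x.out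
    have hFinj : Function.Injective F := fun x x' e => by
      rw [← QuotientGroup.out_eq' x, ← QuotientGroup.out_eq' x']
      exact QuotientGroup.eq.2 (hinj _ _ e)
    rw [Subgroup.index]
    refine (Nat.card_le_card_of_injective F hFinj).trans ?_
    rw [Nat.card_prod]
    have hV : Nat.card D.V ≤ 4 := by
      have hset : (D.V : Set G) = ↑({1, D.t, D.s, D.t * D.s} : Finset G) := by
        ext x; simp [D.mem_V]
      rw [show Nat.card D.V = Set.ncard (D.V : Set G) from (Nat.card_coe_set_eq _), hset, Set.ncard_coe_finset]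
      exact Finset.card_le_four
    exact Nat.mul_le_mul hV hV
  have h := hC3.dvd_of_dvd_mul_left (by rw [CV.card_mul_index]; exact hqNV)
  have := Nat.le_of_dvd (Nat.pos_of_ne_zero CV.index_ne_zero_of_finite) h
  have := D.P.q27
  omega
where
  mem_normalizer_fintype' {H : Subgroup G} {n : G} (h : ∀ x ∈ H, n * x * n⁻¹ ∈ H) :
      n ∈ normalizer (H : Set G) := Subgroup.mem_normalizer_fintype h

/-- The index is a multiple of three. -/
theorem index_three_false : False := by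
  obtain ⟨w, hw3, hwt, hws, hwA⟩ := D.exists_w
  exact hI (GData.three_dvd_index
    { t := D.t, K := D.S.K, D := D.P, ht := D.S.ht, hconj := D.hconj, hK := D.S.hK, w := w
      w_norm := hwA
      w_three := fun a _ => by rw [hw3, one_mul, mul_one]
      w_move := D.w_moves hI hw3 hwt hws })

end Small

theorem index_three : 3 ∣ D.S.C.index := by
  by_contra h
  exact D.index_three_false h

/-- `t` acts nontrivially on some `3`-subgroup. -/
theorem exists_inverting : ∃ (x : G) (P : Subgroup G), (∃ k : ℕ, orderOf x = 2 ^ k) ∧ IsPGroup 3 P ∧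
    x ∈ Subgroup.normalizer (P : Set G) ∧ x ∉ Subgroup.centralizer (P : Set G) := by
  classical
  haveI : Fact (Nat.Prime 2) := ⟨Nat.prime_two⟩
  haveI : Fact (Nat.Prime 3) := ⟨Nat.prime_three⟩
  obtain ⟨k, hk⟩ := D.P.hpow
  set UG := D.P.U.map D.S.K.subtype with hUG
  have hUc : Nat.card UG = D.P.q := by rw [card_map_of_injective D.S.K.subtype_injective, D.P.card_U]
  have hUp : IsPGroup 3 UG := IsPGroup.of_card (n := k) (hUc.trans hk)
  have hUmem : ∀ z ∈ D.P.U, (z : G) ∈ UG := fun z hz => ⟨z, hz, rfl⟩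
  obtain ⟨y, hy, hy1⟩ : ∃ y ∈ D.P.U, y ≠ 1 := by
    haveI : Nontrivial D.P.U := Finite.one_lt_card_iff_nontrivial.1 (by rw [D.P.card_U]; have := D.P.q27; omega)
    obtain ⟨⟨y, hy⟩, hne⟩ := exists_ne (1 : D.P.U)
    exact ⟨y, hy, fun e => hne (Subtype.ext e)⟩
  -- a larger `3`-group inside the normaliser
  have hbig : ∃ n ∈ normalizer (UG : Set G), n ∉ UG ∧ ∃ i : ℕ, n ^ 3 ^ i = 1 := by
    obtain ⟨T, hT⟩ := hUp.exists_le_sylow
    have hlt : UG < (T : Subgroup G) := by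
      refine lt_of_le_of_ne hT fun e => ?_
      have h1 := T.not_dvd_index
      rw [← e] at h1
      apply h1
      have h2 := UG.card_mul_index
      rw [hUc, ← D.S.C.card_mul_index, D.card_C,
        show 8 * (D.P.q * D.P.m * (2 * D.P.m - 1)) * D.S.C.index =
          D.P.q * (8 * D.P.m * (2 * D.P.m - 1) * D.S.C.index) by ring] at h2
      rw [Nat.eq_of_mul_eq_mul_left (by have := D.P.q27; omega) h2]
      exact Dvd.dvd.mul_left D.index_three _
    haveI := T.2.isNilpotent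
    have hlt' : UG.subgroupOf (T : Subgroup G) < ⊤ := lt_top_iff_ne_top.2 fun e =>
      hlt.not_ge (subgroupOf_eq_top.1 e)
    obtain ⟨n, hn, hnot⟩ := SetLike.exists_of_lt
      (normalizerCondition_of_isNilpotent (UG.subgroupOf (T : Subgroup G)) hlt')
    refine ⟨n, ?_, fun h => hnot (mem_subgroupOf.2 h), ?_⟩
    · refine Subgroup.mem_normalizer_fintype fun x hx => ?_
      exact mem_subgroupOf.1 ((mem_normalizer_iff.1 hn ⟨x, hT hx⟩).1 (mem_subgroupOf.2 hx))
    · obtain ⟨i, hi⟩ := T.2 n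
      exact ⟨i, congrArg Subtype.val hi⟩
  obtain ⟨n, hnN, hnU, i, hni⟩ := hbig
  set CU := centralizer (UG : Set G) with hCU
  have hCUm : ∀ {v : G}, v ∈ CU ↔ ∀ z ∈ D.P.U, v * (z : G) = (z : G) * v := fun {v} => by
    rw [hCU, mem_centralizer_iff]
    refine ⟨fun h z hz => (h _ ⟨z, hz, rfl⟩).symm, ?_⟩
    rintro h _ ⟨z, hz, rfl⟩
    exact (h z hz).symm
  have htU : D.t ∈ CU := hCUm.2 fun z _ => (D.S.comm_t z.2).symm
  let a1 : CU := ⟨D.t, htU⟩
  have hab : ∀ T : Sylow 2 CU, ∀ x ∈ (T : Subgroup CU), ∀ z ∈ (T : Subgroup CU), x * z = z * x :=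
    fun T x hx z hz => Subtype.ext (D.two_comm (T.2.map CU.subtype) ⟨x, hx, rfl⟩ ⟨z, hz, rfl⟩)
  have ho1 : orderOf a1 = 2 := by rw [Subgroup.orderOf_mk]; exact D.S.ht
  have htwo : ∀ x : CU, Commute x a1 → (∃ l : ℕ, x ^ 2 ^ l = 1) → x = 1 ∨ x = a1 := fun x hx ⟨l, hl⟩ => by
    rcases D.two_elt_U hy hy1 (x := (x : G)) (congrArg Subtype.val hx.eq) (hCUm.1 x.2 y hy)
      ⟨l, congrArg Subtype.val hl⟩ with h | h
    · exact Or.inl (Subtype.ext h)
    · exact Or.inr (Subtype.ext h)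
  obtain ⟨O, hOn, hOodd, hτO, hOmem⟩ := exists_odd_core ho1 htwo hab
  -- `n` centralises `U`
  have hnC : n ∈ CU := by
    have hnorm : ∀ v ∈ CU, n * v * n⁻¹ ∈ CU := fun v hv => mem_centralizer_iff.2 fun z hz => by
      have hz' := (mem_normalizer_iff.1 (inv_mem hnN) z).1 hz
      rw [inv_inv] at hz'
      have := mem_centralizer_iff.1 hv _ hz'
      calc z * (n * v * n⁻¹) = n * ((n⁻¹ * z * n) * v) * n⁻¹ := by group
        _ = n * v * n⁻¹ * z := by rw [this]; group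
    let a2 : CU := ⟨_, hnorm _ htU⟩
    have ho2 : orderOf a2 = 2 := by
      rw [Subgroup.orderOf_mk, show n * D.t * n⁻¹ = MulAut.conj n D.t from rfl, MulEquiv.orderOf_eq, D.S.ht]
    obtain ⟨S1, hS1⟩ := (IsPGroup.of_card (p := 2) (n := 1) (G := zpowers a1) (by
      rw [Nat.card_zpowers, ho1, pow_one])).exists_le_sylow
    obtain ⟨S2, hS2⟩ := (IsPGroup.of_card (p := 2) (n := 1) (G := zpowers a2) (by
      rw [Nat.card_zpowers, ho2, pow_one])).exists_le_sylow
    obtain ⟨c, hc⟩ := MulAction.exists_smul_eq CU S1 S2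
    have h2 := hS2 (mem_zpowers a2)
    rw [← hc, Sylow.coe_subgroup_smul] at h2
    obtain ⟨v, hv, hvv⟩ := h2
    have hvv' : c * v * c⁻¹ = a2 := hvv
    have hv1 : v = a1 := by
      refine (htwo v (hab S1 v hv a1 (hS1 (mem_zpowers a1))) ?_).resolve_left fun h => ?_
      · obtain ⟨l, hl⟩ := S1.2 ⟨v, hv⟩
        exact ⟨l, congrArg Subtype.val hl⟩
      · rw [← hvv', h, mul_one, mul_inv_cancel, orderOf_one] at ho2
        omega
    rw [hv1] at hvv'
    have hct : (c : G) * D.t * (c : G)⁻¹ = n * D.t * n⁻¹ := congrArg Subtype.val hvv'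
    have hnt : (c : G)⁻¹ * n * D.t = D.t * ((c : G)⁻¹ * n) := by
      calc (c : G)⁻¹ * n * D.t = (c : G)⁻¹ * (n * D.t * n⁻¹) * n := by group
        _ = D.t * ((c : G)⁻¹ * n) := by rw [← hct]; group
    -- the element of `K` and its image
    obtain ⟨b, hb⟩ : ∃ b : D.S.K, (c : G)⁻¹ * n * (b : G)⁻¹ ∈ CU := by
      rcases D.S.split (D.S.mem_C.2 hnt) with h | h
      · exact ⟨⟨_, h⟩, by simp⟩
      · refine ⟨⟨_, h⟩, ?_⟩
        show (c : G)⁻¹ * n * (D.t * ((c : G)⁻¹ * n))⁻¹ ∈ CU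
        rw [← hnt, show (c : G)⁻¹ * n * ((c : G)⁻¹ * n * D.t)⁻¹ =
          (c : G)⁻¹ * n * D.t⁻¹ * ((c : G)⁻¹ * n)⁻¹ by group, D.S.inv_t, hnt, mul_inv_cancel_right]
        exact htU
    have hUnorm : ∀ z ∈ D.P.U, b * z * b⁻¹ ∈ D.P.U := by
      intro z hz
      have hcn : (c : G)⁻¹ * n ∈ normalizer (UG : Set G) :=
        mul_mem (inv_mem ((centralizer_le_normalizer _) c.2)) hnN
      have hbn : (b : G) ∈ normalizer (UG : Set G) := by
        have := mul_mem (inv_mem ((centralizer_le_normalizer _) hb)) hcn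
        rwa [show ((c : G)⁻¹ * n * (b : G)⁻¹)⁻¹ * ((c : G)⁻¹ * n) = b by group] at this
      obtain ⟨z', hz', e⟩ := (mem_normalizer_iff.1 hbn _).1 (hUmem z hz)
      rw [show b * z * b⁻¹ = z' from Subtype.ext e.symm]
      exact hz'
    have hbB : b ∈ D.P.B := D.P.U_ti b y hy hy1 (hUnorm y hy)
    let NU := normalizer (UG : Set G)
    have hbN : (b : G) ∈ NU := Subgroup.mem_normalizer_fintype fun x hx => by
      obtain ⟨z, hz, rfl⟩ := hx
      exact ⟨_, hUnorm z hz, rfl⟩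
    haveI : (CU.subgroupOf NU).Normal := ⟨fun v hv g => mem_subgroupOf.2 (mem_centralizer_iff.2 fun z hz => by
      have hz' := (mem_normalizer_iff.1 (inv_mem g.2) z).1 hz
      rw [inv_inv] at hz'
      have := mem_centralizer_iff.1 (mem_subgroupOf.1 hv) _ hz'
      simp only [Subgroup.coe_mul, Subgroup.coe_inv]
      calc z * ((g : G) * v * (g : G)⁻¹) = (g : G) * (((g : G)⁻¹ * z * g) * v) * (g : G)⁻¹ := by group
        _ = (g : G) * v * (g : G)⁻¹ * z := by rw [this]; group)⟩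
    let π := QuotientGroup.mk' (CU.subgroupOf NU)
    have hker : ∀ {x : NU}, π x = 1 ↔ (x : G) ∈ CU := fun {x} =>
      (QuotientGroup.eq_one_iff x).trans mem_subgroupOf
    have he : π ⟨n, hnN⟩ = π ⟨b, hbN⟩ := by
      have h1 : n * (b : G)⁻¹ ∈ CU := by
        have := mul_mem c.2 hb
        rwa [show (c : G) * ((c : G)⁻¹ * n * (b : G)⁻¹) = n * (b : G)⁻¹ by group] at this
      have h2 : π (⟨n, hnN⟩ * ⟨b, hbN⟩⁻¹) = 1 := hker.2 (by simpa using h1)
      rwa [map_mul, map_inv, mul_inv_eq_one] at h2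
    have hbp : b ^ (2 * D.P.m - 1) ∈ D.P.U := by
      haveI := Fintype.ofFinite G
      haveI := Fintype.ofFinite D.S.K
      haveI := D.P.normal_U_B
      have h1 : ((⟨b, hbB⟩ : D.P.B) : D.P.B ⧸ D.P.U.subgroupOf D.P.B) ^ (2 * D.P.m - 1) = 1 := by
        rw [← D.P.index_U_B, Subgroup.index_eq_card]
        exact pow_card_eq_one'
      rw [← QuotientGroup.mk_pow, QuotientGroup.eq_one_iff, mem_subgroupOf] at h1
      simpa using h1
    have h1 : orderOf (π ⟨n, hnN⟩) ∣ 2 * D.P.m - 1 := by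
      refine orderOf_dvd_of_pow_eq_one ?_
      rw [he, ← map_pow]
      refine hker.2 (hCUm.2 fun z hz => ?_)
      rw [SubgroupClass.coe_pow, ← Subgroup.coe_pow]
      exact congrArg Subtype.val (D.P.U_comm _ hbp z hz)
    have h2 : orderOf (π ⟨n, hnN⟩) ∣ 3 ^ i := by
      refine orderOf_dvd_of_pow_eq_one ?_
      rw [← map_pow, show (⟨n, hnN⟩ : NU) ^ 3 ^ i = 1 from Subtype.ext hni, map_one]
    have h3 : ¬ 3 ∣ 2 * D.P.m - 1 := fun h => D.three_not_dvd_rest (Dvd.dvd.mul_left h _)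
    exact hker.1 (orderOf_eq_one_iff.1 (Nat.eq_one_of_dvd_coprimes
      (Nat.Coprime.pow_right i (Nat.prime_three.coprime_iff_not_dvd.2 h3).symm) h1 h2))
  -- the 3-elements of `C(U)` lie in `O`
  have hUO : ∀ z (hz : z ∈ D.P.U), (⟨(z : G), hCUm.2 fun z' hz' => congrArg Subtype.val (D.P.U_comm z hz z' hz')⟩ :
      CU) ∈ O := fun z hz => hOmem _ (by rw [Subgroup.orderOf_mk, Subgroup.orderOf_coe]; exact D.P.odd_of_mem_U hz)
  have hno : Odd (orderOf n) := (Odd.pow (by decide)).of_dvd_nat (orderOf_dvd_of_pow_eq_one hni)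
  let nO : O := ⟨⟨n, hnC⟩, hOmem _ (by rw [Subgroup.orderOf_mk]; exact hno)⟩
  let jU : Subgroup O := (UG.subgroupOf CU).subgroupOf O
  have hUCU : UG ≤ CU := by
    rintro _ ⟨z, hz, rfl⟩
    exact hCUm.2 fun z' hz' => congrArg Subtype.val (D.P.U_comm z hz z' hz')
  haveI := hOn
  have hUO' : UG.subgroupOf CU ≤ O := fun v hv => by
    obtain ⟨z, hz, e⟩ := mem_subgroupOf.1 hv
    have : (⟨(z : G), hCUm.2 fun z' hz' => congrArg Subtype.val (D.P.U_comm z hz z' hz')⟩ : CU) = v := Subtype.ext e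
    rw [← this]; exact hUO z hz
  have hjc : Nat.card jU = D.P.q := by
    rw [Nat.card_congr (subgroupOfEquivOfLe hUO').toEquiv, Nat.card_congr (subgroupOfEquivOfLe hUCU).toEquiv, hUc]
  haveI hjn : jU.Normal := ⟨fun v hv x => by
    have h : x * v * x⁻¹ = v := Subtype.ext (Subtype.ext (by
      obtain ⟨z, hz, e⟩ := mem_subgroupOf.1 (mem_subgroupOf.1 hv)
      simp only [Subgroup.coe_mul, Subgroup.coe_inv]
      rw [← e]
      show ((x : CU) : G) * (z : G) * ((x : CU) : G)⁻¹ = z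
      rw [hCUm.1 (x : CU).2 z hz, mul_inv_cancel_right]))
    rwa [h]⟩
  have hR0 : IsPGroup 3 (jU ⊔ zpowers nO : Subgroup O) := by
    refine IsPGroup.to_sup_of_normal_left (IsPGroup.of_card (n := k) (hjc.trans hk)) ?_
    obtain ⟨l, -, hl⟩ := (Nat.dvd_prime_pow Nat.prime_three).1
      (orderOf_dvd_of_pow_eq_one (x := nO) (n := 3 ^ i) (Subtype.ext (Subtype.ext hni)))
    exact IsPGroup.of_card (n := l) (by rw [Nat.card_zpowers, hl])
  obtain ⟨R1, hR1⟩ := hR0.exists_le_sylow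
  -- a Sylow `3`-subgroup of `O` normalised by `t`
  let θ : MulAut O := MulAut.conjNormal (H := O) a1
  haveI := Fintype.ofFinite (Sylow 3 O)
  let σ : Sylow 3 O → Sylow 3 O := fun R => R.mapSurjective (f := θ.toMonoidHom) θ.surjective
  have hθθ : ∀ x : O, θ (θ x) = x := fun x => Subtype.ext (by
    rw [MulAut.conjNormal_apply, MulAut.conjNormal_apply]
    have : a1 * a1 = 1 := Subtype.ext D.S.sq_t
    calc a1 * (a1 * (x : CU) * a1⁻¹) * a1⁻¹ = (a1 * a1) * (x : CU) * (a1 * a1)⁻¹ := by group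
      _ = x := by rw [this]; group)
  have hσσ : ∀ R, σ (σ R) = R := fun R => Sylow.ext (by
    show Subgroup.map θ.toMonoidHom (Subgroup.map θ.toMonoidHom (R : Subgroup O)) = R
    rw [Subgroup.map_map,
      show θ.toMonoidHom.comp θ.toMonoidHom = MonoidHom.id O from MonoidHom.ext hθθ, Subgroup.map_id])
  let σe : Equiv.Perm (Sylow 3 O) := ⟨σ, σ, hσσ, hσσ⟩
  have hnodd : ¬ 2 ∣ Fintype.card (Sylow 3 O) := by
    rw [← Nat.card_eq_fintype_card, R1.card_eq_index_normalizer]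
    intro h
    have := hOodd.of_dvd_nat (h.trans (index_dvd_card _))
    exact absurd this (by decide)
  obtain ⟨R, hR⟩ := Equiv.Perm.exists_fixed_point_of_prime (p := 2) (n := 1) hnodd (σ := σe)
    (Equiv.ext fun R => by rw [pow_one, pow_two]; exact hσσ R)
  have hRsub : ∀ x : O, x ∈ (R : Subgroup O) → θ x ∈ (R : Subgroup O) := fun x hx => by
    have : θ x ∈ ((σ R : Sylow 3 O) : Subgroup O) :=
      (show θ x ∈ Subgroup.map θ.toMonoidHom (R : Subgroup O) from ⟨x, hx, rfl⟩)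
    rwa [show σ R = R from hR] at this
  set Rg : Subgroup G := ((R : Subgroup O).map O.subtype).map CU.subtype with hRg
  refine ⟨D.t, Rg, ⟨1, by rw [pow_one]; exact D.S.ht⟩, (R.2.map _).map _, Subgroup.mem_normalizer_fintype ?_,
    fun hc => ?_⟩
  · rintro _ ⟨_, ⟨x, hx, rfl⟩, rfl⟩
    exact ⟨_, ⟨θ x, hRsub x hx, rfl⟩, rfl⟩
  · -- otherwise `R` would lie in `U`
    have hRU : ∀ x ∈ (R : Subgroup O), x ∈ jU := by
      intro x hx
      have hxt : ((x : CU) : G) * D.t = D.t * ((x : CU) : G) :=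
        mem_centralizer_iff.1 hc _ ⟨_, ⟨x, hx, rfl⟩, rfl⟩
      obtain ⟨z, hz, e⟩ := D.cent_U hy hy1 hxt (hCUm.1 (x : CU).2 y hy)
      have hxodd : Odd (orderOf ((x : CU) : G)) := by
        rw [Subgroup.orderOf_coe]
        exact hOodd.of_dvd_nat (Subgroup.orderOf_dvd_natCard O x.2)
      have hxK := D.odd_mem_K (D.S.mem_C.2 hxt) hxodd
      have e' : ((x : CU) : G) = (z : G) := e.resolve_right fun h => D.S.not_both z.2 (h ▸ hxK)
      exact mem_subgroupOf.2 (mem_subgroupOf.2 ⟨z, hz, e'.symm⟩)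
    have h1 : Nat.card (R : Subgroup O) ≤ D.P.q := hjc ▸ card_le_of_le hRU
    have h2 : Nat.card (R : Subgroup O) = Nat.card (R1 : Subgroup O) := by
      rw [R.card_eq_multiplicity, R1.card_eq_multiplicity]
    have hlt : jU < jU ⊔ zpowers nO := by
      refine lt_of_le_of_ne le_sup_left fun e => hnU ?_
      have h : nO ∈ jU := by rw [e]; exact mem_sup_right (mem_zpowers nO)
      exact mem_subgroupOf.1 (mem_subgroupOf.1 h)
    have h4 : D.P.q < Nat.card (jU ⊔ zpowers nO : Subgroup O) := by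
      rw [← hjc]
      refine lt_of_le_of_ne (card_le_of_le hlt.le) fun e => hlt.ne ?_
      exact eq_of_le_of_card_ge hlt.le e.ge
    have h5 := card_le_of_le hR1
    omega

end Cfg

/-- A group of Ree type involves the dihedral group of order six. -/
theorem ree_involves {G : Type u} [Group G] [Finite G] (h : IsReeType G) : Involves (DihedralGroup 3) G := by
  haveI : Fact (Nat.Prime 3) := ⟨Nat.prime_three⟩
  obtain ⟨hs, hnc, t, K, n, hn, ht, hodd, hK, F, _, _, hF, ⟨e⟩⟩ := h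
  obtain ⟨x, P, h1, h2, h3, h4⟩ :=
    Cfg.exists_inverting ⟨⟨t, K, ht, hK⟩, kData hF hn e, hodd, hs, hnc⟩
  exact ((S2758.result (p := 3) (by norm_num)).1).2 ⟨x, P, h1, h2, h3, h4⟩

end Cfsg.Agent.Char.ReeThree
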